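import Cfsg.Agent.Orthogonal.Order

/-!
The standard forms: polar formulas, non-degeneracy, standard frames; classification of
non-degenerate quadratic spaces over finite fields.
-/

set_option autoImplicit false

namespace Cfsg.Agent.Orthogonal

open QuadraticMap Module IsFrame

variable (F : Type*) [Field F] (m : ℕ)

theorem polar_formPlus (v w : Fin m ⊕ Fin m → F) :
    polar (formPlus F m) v w =
      ∑ i, (v (.inl i) * w (.inr i) + w (.inl i) * v (.inr i)) := by
  simp only [polar, formPlus_coe, Cfsg.quadFormPlus, Pi.add_apply, ← Finset.sum_sub_distrib]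
  exact Finset.sum_congr rfl fun i _ => by ring

theorem polar_formOdd (v w : Unit ⊕ (Fin m ⊕ Fin m) → F) :
    polar (formOdd F m) v w = 2 * v (.inl ()) * w (.inl ()) +
      ∑ i, (v (.inr (.inl i)) * w (.inr (.inr i)) + w (.inr (.inl i)) * v (.inr (.inr i))) := by
  simp only [polar, formOdd_coe, Cfsg.quadFormOdd, Pi.add_apply]
  have : ∑ i : Fin m, (v (.inr (.inl i)) + w (.inr (.inl i))) * (v (.inr (.inr i)) + w (.inr (.inr i)))
      = ∑ i : Fin m, v (.inr (.inl i)) * v (.inr (.inr i)) +
        ∑ i : Fin m, w (.inr (.inl i)) * w (.inr (.inr i)) +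
        ∑ i : Fin m, (v (.inr (.inl i)) * w (.inr (.inr i)) + w (.inr (.inl i)) * v (.inr (.inr i))) := by
    simp only [← Finset.sum_add_distrib]
    exact Finset.sum_congr rfl fun i _ => by ring
  rw [this]; ring

theorem polar_formMinus (a b : F) (v w : (Fin m ⊕ Fin m) ⊕ Fin 2 → F) :
    polar (formMinus F m a b) v w =
      ∑ i, (v (.inl (.inl i)) * w (.inl (.inr i)) + w (.inl (.inl i)) * v (.inl (.inr i))) +
        (2 * v (.inr 0) * w (.inr 0) + a * (v (.inr 0) * w (.inr 1) + w (.inr 0) * v (.inr 1)) +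
          2 * b * (v (.inr 1) * w (.inr 1))) := by
  simp only [polar, formMinus_coe, Cfsg.quadFormMinus, Pi.add_apply]
  have : ∑ i : Fin m, (v (.inl (.inl i)) + w (.inl (.inl i))) * (v (.inl (.inr i)) + w (.inl (.inr i)))
      = ∑ i : Fin m, v (.inl (.inl i)) * v (.inl (.inr i)) +
        ∑ i : Fin m, w (.inl (.inl i)) * w (.inl (.inr i)) +
        ∑ i : Fin m, (v (.inl (.inl i)) * w (.inl (.inr i)) + w (.inl (.inl i)) * v (.inl (.inr i))) := by
    simp only [← Finset.sum_add_distrib]
    exact Finset.sum_congr rfl fun i _ => by ring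
  rw [this]; ring

theorem formPlus_nondeg : Nondeg (formPlus F m) := by
  intro x hx
  funext s
  rcases s with i | i
  · have := hx (Pi.single (.inr i) 1)
    simpa [polar_formPlus, Pi.single_apply, Finset.sum_add_distrib] using this
  · have := hx (Pi.single (.inl i) 1)
    simpa [polar_formPlus, Pi.single_apply, Finset.sum_add_distrib] using this

theorem formOdd_nondeg (h2 : (2 : F) ≠ 0) : Nondeg (formOdd F m) := by
  intro x hx
  funext s
  rcases s with u | i | i
  · have := hx (Pi.single (.inl ()) 1)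
    simpa [polar_formOdd, Pi.single_apply, h2] using this
  · have := hx (Pi.single (.inr (.inr i)) 1)
    simpa [polar_formOdd, Pi.single_apply, Finset.sum_add_distrib] using this
  · have := hx (Pi.single (.inr (.inl i)) 1)
    simpa [polar_formOdd, Pi.single_apply, Finset.sum_add_distrib] using this

variable {F}

theorem aniso_binary [Finite F] {a b : F}
    (hab : ∀ z₁ z₂ : F, z₁ ^ 2 + a * z₁ * z₂ + b * z₂ ^ 2 = 0 → z₁ = 0 ∧ z₂ = 0) :
    a ^ 2 - 4 * b ≠ 0 := by
  intro h
  by_cases h2 : (2 : F) = 0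
  · have ha : a = 0 := by
      have : a ^ 2 = 0 := by linear_combination h + 2 * b * h2
      exact (pow_eq_zero_iff two_ne_zero).1 this
    obtain ⟨r, hr⟩ := isSquare_of_two_eq_zero h2 b
    subst hr ha
    exact one_ne_zero (hab r 1 (by linear_combination r ^ 2 * h2)).2
  · have := (hab a (-2) (by linear_combination -h)).2
    exact h2 (neg_eq_zero.1 this)

theorem formMinus_nondeg [Finite F] {a b : F}
    (hab : ∀ z₁ z₂ : F, z₁ ^ 2 + a * z₁ * z₂ + b * z₂ ^ 2 = 0 → z₁ = 0 ∧ z₂ = 0) :
    Nondeg (formMinus F m a b) := by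
  intro x hx
  have h0 := hx (Pi.single (.inr 0) 1)
  have h1 := hx (Pi.single (.inr 1) 1)
  simp [polar_formMinus] at h0 h1
  have hd := aniso_binary hab
  have e0 : x (.inr 0) = 0 := mul_left_cancel₀ hd (by linear_combination (-2 * b) * h0 + a * h1)
  have e1 : x (.inr 1) = 0 := mul_left_cancel₀ hd (by linear_combination (-2 : F) * h1 + a * h0)
  funext s
  rcases s with (i | i) | j
  · have := hx (Pi.single (.inl (.inr i)) 1)
    simpa [polar_formMinus, Pi.single_apply, Finset.sum_add_distrib] using this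
  · have := hx (Pi.single (.inl (.inl i)) 1)
    simpa [polar_formMinus, Pi.single_apply, Finset.sum_add_distrib] using this
  · fin_cases j
    · exact e0
    · exact e1

/-! ### Standard frames -/

variable (F)

/-- The standard `e`-vectors of `formPlus`. -/
def stdE (i : Fin m) : Fin m ⊕ Fin m → F := Pi.single (.inl i) 1

/-- The standard `f`-vectors of `formPlus`. -/
def stdF (i : Fin m) : Fin m ⊕ Fin m → F := Pi.single (.inr i) 1

theorem formPlus_frame : IsFrame (formPlus F m) (stdE F m) (stdF F m) := by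
  refine ⟨?_, ?_, ?_, ?_, ?_⟩ <;> intros <;>
    first
      | (simp [formPlus_coe, Cfsg.quadFormPlus, stdE, stdF, Pi.single_apply]; done)
      | simp [polar_formPlus, stdE, stdF, Pi.single_apply, Finset.sum_add_distrib, eq_comm]

theorem formPlus_kernel : kernel (formPlus F m) (stdE F m) (stdF F m) = ⊥ := by
  refine eq_bot_iff.2 fun x hx => ?_
  have h := IsFrame.mem_kernel.1 hx
  rw [Submodule.mem_bot]
  funext s
  rcases s with i | i
  · simpa [polar_formPlus, stdF, Pi.single_apply, Finset.sum_add_distrib] using h.2 i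
  · simpa [polar_formPlus, stdE, Pi.single_apply, Finset.sum_add_distrib] using h.1 i

theorem formPlus_aniso : Aniso (formPlus F m) (kernel (formPlus F m) (stdE F m) (stdF F m)) := by
  intro x hx _
  rwa [formPlus_kernel, Submodule.mem_bot] at hx

/-- The standard `e`-vectors of `formOdd`. -/
def stdOddE (i : Fin m) : Unit ⊕ (Fin m ⊕ Fin m) → F := Pi.single (.inr (.inl i)) 1

/-- The standard `f`-vectors of `formOdd`. -/
def stdOddF (i : Fin m) : Unit ⊕ (Fin m ⊕ Fin m) → F := Pi.single (.inr (.inr i)) 1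

theorem formOdd_frame : IsFrame (formOdd F m) (stdOddE F m) (stdOddF F m) := by
  refine ⟨?_, ?_, ?_, ?_, ?_⟩ <;> intros <;>
    first
      | (simp [formOdd_coe, Cfsg.quadFormOdd, stdOddE, stdOddF, Pi.single_apply]; done)
      | simp [polar_formOdd, stdOddE, stdOddF, Pi.single_apply, Finset.sum_add_distrib, eq_comm]

theorem formOdd_aniso :
    Aniso (formOdd F m) (kernel (formOdd F m) (stdOddE F m) (stdOddF F m)) := by
  intro x hx hQ
  have h := IsFrame.mem_kernel.1 hx
  have hr : ∀ i, x (.inr (.inl i)) = 0 ∧ x (.inr (.inr i)) = 0 := fun i =>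
    ⟨by simpa [polar_formOdd, stdOddF, Pi.single_apply, Finset.sum_add_distrib] using h.2 i,
      by simpa [polar_formOdd, stdOddE, Pi.single_apply, Finset.sum_add_distrib] using h.1 i⟩
  simp [formOdd_coe, Cfsg.quadFormOdd, fun i => (hr i).1] at hQ
  funext s
  rcases s with u | i | i
  · exact hQ
  · exact (hr i).1
  · exact (hr i).2

/-- The standard `e`-vectors of `formMinus`. -/
def stdMinusE (i : Fin m) : (Fin m ⊕ Fin m) ⊕ Fin 2 → F := Pi.single (.inl (.inl i)) 1

/-- The standard `f`-vectors of `formMinus`. -/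
def stdMinusF (i : Fin m) : (Fin m ⊕ Fin m) ⊕ Fin 2 → F := Pi.single (.inl (.inr i)) 1

theorem formMinus_frame (a b : F) :
    IsFrame (formMinus F m a b) (stdMinusE F m) (stdMinusF F m) := by
  refine ⟨?_, ?_, ?_, ?_, ?_⟩ <;> intros <;>
    first
      | (simp [formMinus_coe, Cfsg.quadFormMinus, stdMinusE, stdMinusF, Pi.single_apply]; done)
      | simp [polar_formMinus, stdMinusE, stdMinusF, Pi.single_apply, Finset.sum_add_distrib, eq_comm]

theorem formMinus_aniso {a b : F}
    (hab : ∀ z₁ z₂ : F, z₁ ^ 2 + a * z₁ * z₂ + b * z₂ ^ 2 = 0 → z₁ = 0 ∧ z₂ = 0) :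
    Aniso (formMinus F m a b) (kernel (formMinus F m a b) (stdMinusE F m) (stdMinusF F m)) := by
  intro x hx hQ
  have h := IsFrame.mem_kernel.1 hx
  have hr : ∀ i, x (.inl (.inl i)) = 0 ∧ x (.inl (.inr i)) = 0 := fun i =>
    ⟨by simpa [polar_formMinus, stdMinusF, Pi.single_apply, Finset.sum_add_distrib] using h.2 i,
      by simpa [polar_formMinus, stdMinusE, Pi.single_apply, Finset.sum_add_distrib] using h.1 i⟩
  simp [formMinus_coe, Cfsg.quadFormMinus, fun i => (hr i).1] at hQ
  have h01 := hab _ _ hQ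
  funext s
  rcases s with (i | i) | j
  · exact (hr i).1
  · exact (hr i).2
  · fin_cases j
    · exact h01.1
    · exact h01.2

theorem finrank_formPlus : finrank F (Fin m ⊕ Fin m → F) = 2 * m := by
  simp; omega

theorem finrank_formOdd : finrank F (Unit ⊕ (Fin m ⊕ Fin m) → F) = 2 * m + 1 := by
  simp; omega

theorem finrank_formMinus : finrank F ((Fin m ⊕ Fin m) ⊕ Fin 2 → F) = 2 * (m + 1) := by
  simp; omega

theorem oprod_eq (q k : ℕ) : oprod q k = ∏ i ∈ Finset.range k, (q ^ (2 * (i + 1)) - 1) := rfl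

variable {F}

/-! ### Classification -/

variable {V : Type*} [AddCommGroup V] [Module F V] [FiniteDimensional F V] {Q : QuadraticForm F V}

/-- The basis of the span of a frame. -/
noncomputable def IsFrame.hBasis {k : ℕ} {e f : Fin k → V} (h : IsFrame Q e f) :
    Module.Basis (Fin k ⊕ Fin k) F (hspan (F := F) e f) :=
  Module.Basis.span h.linearIndependent

omit [FiniteDimensional F V] in
theorem IsFrame.hBasis_apply {k : ℕ} {e f : Fin k → V} (h : IsFrame Q e f) (s : Fin k ⊕ Fin k) :
    (h.hBasis s : V) = Sum.elim e f s :=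
  congrArg Subtype.val (Module.Basis.span_apply h.linearIndependent s)

/-- A frame completed by a basis of its kernel. -/
noncomputable def IsFrame.basisWith {k : ℕ} {e f : Fin k → V} (hQ : Nondeg Q) (h : IsFrame Q e f)
    {κ : Type*} (b : Module.Basis κ F (kernel Q e f)) :
    Module.Basis ((Fin k ⊕ Fin k) ⊕ κ) F V :=
  (h.hBasis.prod b).map
    (Submodule.prodEquivOfIsCompl (hspan (F := F) e f) (kernel Q e f) (h.isCompl_kernel hQ))

theorem IsFrame.basisWith_inl {k : ℕ} {e f : Fin k → V} (hQ : Nondeg Q) (h : IsFrame Q e f)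
    {κ : Type*} (b : Module.Basis κ F (kernel Q e f)) (s : Fin k ⊕ Fin k) :
    h.basisWith hQ b (.inl s) = Sum.elim e f s := by
  rw [IsFrame.basisWith, Module.Basis.map_apply]
  refine (Submodule.coe_prodEquivOfIsCompl' (hspan (F := F) e f) (kernel Q e f)
    (h.isCompl_kernel hQ) _).trans ?_
  rw [Module.Basis.prod_apply_inl_fst, Module.Basis.prod_apply_inl_snd, Submodule.coe_zero, add_zero]
  exact h.hBasis_apply s

theorem IsFrame.basisWith_inr {k : ℕ} {e f : Fin k → V} (hQ : Nondeg Q) (h : IsFrame Q e f)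
    {κ : Type*} (b : Module.Basis κ F (kernel Q e f)) (s : κ) :
    h.basisWith hQ b (.inr s) = b s := by
  rw [IsFrame.basisWith, Module.Basis.map_apply]
  refine (Submodule.coe_prodEquivOfIsCompl' (hspan (F := F) e f) (kernel Q e f)
    (h.isCompl_kernel hQ) _).trans ?_
  rw [Module.Basis.prod_apply_inr_fst, Module.Basis.prod_apply_inr_snd, Submodule.coe_zero, zero_add]

theorem IsFrame.equiv_formPlus {k : ℕ} {e f : Fin k → V} (hQ : Nondeg Q) (h : IsFrame Q e f)
    (hn : finrank F V = 2 * k) :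
    ∃ E : (Fin k ⊕ Fin k → F) ≃ₗ[F] V, (∀ i, E (stdE F k i) = e i) ∧ (∀ i, E (stdF F k i) = f i) ∧
      ∀ x, Q (E x) = formPlus F k x := by
  have hK : finrank F (kernel Q e f) = 0 := by have := h.finrank_kernel hQ; omega
  let bK : Module.Basis (Fin 0) F (kernel Q e f) := Module.finBasisOfFinrankEq F _ hK
  let b := (h.basisWith hQ bK).reindex (Equiv.sumEmpty (Fin k ⊕ Fin k) (Fin 0))
  have hb : ∀ s, b s = Sum.elim e f s := fun s => by
    simp [b, Module.Basis.reindex_apply, IsFrame.basisWith_inl]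
  obtain ⟨E, hE, hQE⟩ := equiv_of_bases (Q := formPlus F k) (Q' := Q) (Pi.basisFun F (Fin k ⊕ Fin k)) b
    (fun s => by
      rw [hb, Pi.basisFun_apply]
      rcases s with i | i
      · exact (h.qe i).trans ((formPlus_frame F k).qe i).symm
      · exact (h.qf i).trans ((formPlus_frame F k).qf i).symm)
    (fun s t _ => by
      simp only [hb, Pi.basisFun_apply]
      rcases s with i | i <;> rcases t with j | j
      · exact (h.ee i j).trans ((formPlus_frame F k).ee i j).symm
      · exact (h.ef i j).trans ((formPlus_frame F k).ef i j).symm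
      · exact (h.fe i j).trans ((formPlus_frame F k).fe i j).symm
      · exact (h.ff i j).trans ((formPlus_frame F k).ff i j).symm)
  refine ⟨E, fun i => ?_, fun i => ?_, hQE⟩
  · have := hE (.inl i); rwa [Pi.basisFun_apply, hb] at this
  · have := hE (.inr i); rwa [Pi.basisFun_apply, hb] at this

theorem IsFrame.equiv_formMinus {k : ℕ} {e f : Fin k → V} (hQ : Nondeg Q) (h : IsFrame Q e f)
    (hn : finrank F V = 2 * (k + 1)) {x y : V} (hx : x ∈ kernel Q e f) (hy : y ∈ kernel Q e f)
    (hli : LinearIndependent F ![x, y]) (hQx : Q x = 1) :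
    ∃ E : ((Fin k ⊕ Fin k) ⊕ Fin 2 → F) ≃ₗ[F] V,
      ∀ z, Q (E z) = formMinus F k (polar Q x y) (Q y) z := by
  have hK : finrank F (kernel Q e f) = 2 := by have := h.finrank_kernel hQ; omega
  have hli' : LinearIndependent F ![(⟨x, hx⟩ : kernel Q e f), ⟨y, hy⟩] := by
    refine LinearIndependent.of_comp (kernel Q e f).subtype ?_
    convert hli using 1
    funext i; fin_cases i <;> rfl
  let bK : Module.Basis (Fin 2) F (kernel Q e f) :=
    basisOfLinearIndependentOfCardEqFinrank hli' (by simp [hK])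
  let b := h.basisWith hQ bK
  have hb0 : b (.inr 0) = x := by simp [b, IsFrame.basisWith_inr, bK]
  have hb1 : b (.inr 1) = y := by simp [b, IsFrame.basisWith_inr, bK]
  have hbl : ∀ s, b (.inl s) = Sum.elim e f s := fun s => h.basisWith_inl hQ bK s
  have hform := formMinus_frame F k (polar Q x y) (Q y)
  obtain ⟨E, -, hQE⟩ := equiv_of_bases (Q := formMinus F k (polar Q x y) (Q y)) (Q' := Q)
    (Pi.basisFun F ((Fin k ⊕ Fin k) ⊕ Fin 2)) b
    (fun s => by
      rw [Pi.basisFun_apply]
      rcases s with (i | i) | j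
      · rw [hbl]; exact (h.qe i).trans (hform.qe i).symm
      · rw [hbl]; exact (h.qf i).trans (hform.qf i).symm
      · fin_cases j
        · simp [hb0, hQx, formMinus_coe, Cfsg.quadFormMinus]
        · simp [hb1, formMinus_coe, Cfsg.quadFormMinus])
    (fun s t hst => by
      have hk0 := IsFrame.mem_kernel.1 hx
      have hk1 := IsFrame.mem_kernel.1 hy
      rw [Pi.basisFun_apply, Pi.basisFun_apply]
      rcases s with (i | i) | j <;> rcases t with (i' | i') | j'
      · rw [hbl, hbl]; exact (h.ee i i').trans (hform.ee i i').symm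
      · rw [hbl, hbl]; exact (h.ef i i').trans (hform.ef i i').symm
      · fin_cases j' <;>
          simp [hb0, hb1, hbl, hk0.1 i, hk1.1 i, polar_formMinus, Pi.single_apply]
      · rw [hbl, hbl]; exact (h.fe i i').trans (hform.fe i i').symm
      · rw [hbl, hbl]; exact (h.ff i i').trans (hform.ff i i').symm
      · fin_cases j' <;>
          simp [hb0, hb1, hbl, hk0.2 i, hk1.2 i, polar_formMinus, Pi.single_apply]
      · fin_cases j <;>
          simp [hb0, hb1, hbl, hk0.1 i', hk1.1 i', polar_comm (⇑Q) _ (e i'), polar_formMinus,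
            Pi.single_apply]
      · fin_cases j <;>
          simp [hb0, hb1, hbl, hk0.2 i', hk1.2 i', polar_comm (⇑Q) _ (f i'), polar_formMinus,
            Pi.single_apply]
      · fin_cases j <;> fin_cases j' <;>
          first
            | (exact absurd rfl hst)
            | simp [hb0, hb1, polar_comm (⇑Q) y x, polar_formMinus])
  exact ⟨E, hQE⟩

/-- An anisotropic plane has a basis `x, y` with `Q x = 1`, `polar x y = 1`, and
`t ^ 2 + t + Q y` without roots. -/
theorem exists_elliptic_pair [Finite F] {W : Submodule F V} (hW : Nondeg (restr Q W))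
    (h2 : finrank F W = 2) (ha : Aniso Q W) :
    ∃ x ∈ W, ∃ y ∈ W, LinearIndependent F ![x, y] ∧ Q x = 1 ∧ polar Q x y = 1 ∧
      ∀ t : F, t ^ 2 + t + Q y ≠ 0 := by
  obtain ⟨x, hx⟩ := hW.exists_value (le_of_eq h2.symm) 1
  have hx1 : Q (x : V) = 1 := hx
  have hx0 : x ≠ 0 := fun h => by rw [h, QuadraticMap.map_zero] at hx; exact zero_ne_one hx
  have hx0' : (x : V) ≠ 0 := fun h => hx0 (Subtype.ext h)
  obtain ⟨y₀, hy₀⟩ := hW.exists_polar_eq hx0 1
  obtain ⟨w, hw0, hw⟩ := hW.exists_perp_vec h2 hx0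
  rw [polar_restr] at hy₀ hw
  obtain ⟨y, hy, hyx⟩ : ∃ y : W, polar Q (x : V) y = 1 ∧ y ∉ Submodule.span F {x} := by
    by_cases h : y₀ ∈ Submodule.span F {x}
    · refine ⟨y₀ + w, by rw [Submodule.coe_add, polar_add_right, hy₀, hw, add_zero], fun h' => ?_⟩
      obtain ⟨c, hc⟩ := Submodule.mem_span_singleton.1 (show w ∈ Submodule.span F {x} by
        simpa using Submodule.sub_mem _ h' h)
      obtain ⟨d, hd⟩ := Submodule.mem_span_singleton.1 h
      subst hd hc
      rw [Submodule.coe_smul, polar_smul_right', polar_self', hx1] at hw hy₀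
      have hc0 : c = 0 := by linear_combination (-c) * hy₀ + d * hw
      exact hw0 (by rw [hc0, zero_smul])
    · exact ⟨y₀, hy₀, h⟩
  have hli : LinearIndependent F ![(x : V), (y : V)] := by
    rw [LinearIndependent.pair_iff]
    intro s t hst
    by_cases ht : t = 0
    · subst ht; rw [zero_smul, add_zero, smul_eq_zero] at hst
      exact ⟨hst.resolve_right hx0', rfl⟩
    · refine absurd (Submodule.mem_span_singleton.2 ⟨-(t⁻¹ * s), Subtype.ext ?_⟩) hyx
      rw [Submodule.coe_smul, neg_smul, mul_smul, eq_neg_of_add_eq_zero_left hst, smul_neg, neg_neg,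
        inv_smul_smul₀ ht]
  refine ⟨x, x.2, y, y.2, hli, hx1, hy, fun t ht => ?_⟩
  have h0 := ha _ (W.add_mem (W.smul_mem t x.2) y.2)
    (by rw [map_add_polar, qmap_smul, polar_smul_left', hx1, hy]; linear_combination ht)
  exact one_ne_zero (LinearIndependent.pair_iff.1 hli t 1 (by rw [one_smul]; exact h0)).2

omit [FiniteDimensional F V] in
theorem aniso_of_no_root {ζ : F} (hζ : ∀ t : F, t ^ 2 + t + ζ ≠ 0) (z₁ z₂ : F)
    (h : z₁ ^ 2 + 1 * z₁ * z₂ + ζ * z₂ ^ 2 = 0) : z₁ = 0 ∧ z₂ = 0 := by
  by_cases hz : z₂ = 0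
  · subst hz; exact ⟨by simpa using h, rfl⟩
  · refine absurd ?_ (hζ (z₁ / z₂))
    field_simp
    linear_combination h

/-- Classification of even-dimensional non-degenerate quadratic spaces over a finite field. -/
theorem Nondeg.classify_even [Finite F] (hQ : Nondeg Q) {m : ℕ} (hn : finrank F V = 2 * (m + 1)) :
    (∃ E : (Fin (m + 1) ⊕ Fin (m + 1) → F) ≃ₗ[F] V, ∀ x, Q (E x) = formPlus F (m + 1) x) ∨
      ∃ (ζ : F) (E : ((Fin m ⊕ Fin m) ⊕ Fin 2 → F) ≃ₗ[F] V), (∀ t : F, t ^ 2 + t + ζ ≠ 0) ∧
        ∀ x, Q (E x) = formMinus F m 1 ζ x := by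
  obtain ⟨k, e, f, h, ha⟩ := hQ.exists_frame
  have hr := h.finrank_kernel hQ
  have hle := finrank_le_two_of_aniso (h.nondeg_kernel hQ) ha
  by_cases hk : k = m + 1
  · subst hk
    obtain ⟨E, -, -, hE⟩ := h.equiv_formPlus hQ hn
    exact Or.inl ⟨E, hE⟩
  · obtain rfl : k = m := by omega
    obtain ⟨x, hx, y, hy, hli, hx1, hxy, hζ⟩ :=
      exists_elliptic_pair (h.nondeg_kernel hQ) (by omega) ha
    obtain ⟨E, hE⟩ := h.equiv_formMinus hQ hn hx hy hli hx1
    exact Or.inr ⟨Q y, E, hζ, fun z => by rw [hE z, hxy]⟩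

/-- Classification of odd-dimensional non-degenerate quadratic spaces over a finite field:
similar to the standard form. -/
theorem Nondeg.classify_odd [Finite F] (hQ : Nondeg Q) {m : ℕ} (hn : finrank F V = 2 * m + 1) :
    (2 : F) ≠ 0 ∧ ∃ (α : F) (E : (Unit ⊕ (Fin m ⊕ Fin m) → F) ≃ₗ[F] V), α ≠ 0 ∧
      ∀ x, Q (E x) = α * formOdd F m x := by
  obtain ⟨k, e, f, h, ha⟩ := hQ.exists_frame
  have hr := h.finrank_kernel hQ
  have hle := finrank_le_two_of_aniso (h.nondeg_kernel hQ) ha
  obtain rfl : k = m := by omega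
  have hK1 : finrank F (kernel Q e f) = 1 := by omega
  let bK : Module.Basis Unit F (kernel Q e f) :=
    (Module.finBasisOfFinrankEq F _ hK1).reindex finOneEquiv
  set z : V := (bK () : V) with hz
  have hz0 : z ≠ 0 := fun hh => bK.ne_zero () (Subtype.ext hh)
  have hα : Q z ≠ 0 := fun hh => hz0 (ha _ (bK ()).2 hh)
  have h2 : (2 : F) ≠ 0 := by
    intro h2
    refine bK.ne_zero () ((h.nondeg_kernel hQ) _ fun y => ?_)
    have hy : y = bK.repr y () • bK () := by
      conv_lhs => rw [← bK.sum_repr y]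
      simp
    rw [hy, polar_smul_right', polar_self', h2, zero_mul, mul_zero]
  refine ⟨h2, Q z, ?_⟩
  let b : Module.Basis (Unit ⊕ (Fin k ⊕ Fin k)) F V :=
    ((h.basisWith hQ bK).unitsSMul
      (Sum.elim (Sum.elim (fun _ => 1) (fun _ => Units.mk0 (Q z) hα)) (fun _ => 1))).reindex
      (Equiv.sumComm _ _)
  have hbu : ∀ u, b (.inl u) = z := fun u => by
    simp [b, Module.Basis.unitsSMul_apply, IsFrame.basisWith_inr, hz]
  have hbe : ∀ i, b (.inr (.inl i)) = e i := fun i => by
    simp [b, Module.Basis.unitsSMul_apply, IsFrame.basisWith_inl]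
  have hbf : ∀ i, b (.inr (.inr i)) = Q z • f i := fun i => by
    simp [b, Module.Basis.unitsSMul_apply, IsFrame.basisWith_inl, Units.smul_def]
  have hk := IsFrame.mem_kernel.1 (bK ()).2
  obtain ⟨E, -, hE⟩ := equiv_of_bases (Q := Q z • formOdd F k) (Q' := Q)
    (Pi.basisFun F (Unit ⊕ (Fin k ⊕ Fin k))) b
    (fun s => by
      rw [Pi.basisFun_apply]
      rcases s with u | i | i
      · simp [hbu, formOdd_coe, Cfsg.quadFormOdd]
      · simp [hbe, h.qe, formOdd_coe, Cfsg.quadFormOdd, Pi.single_apply]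
      · simp [hbf, qmap_smul, h.qf, formOdd_coe, Cfsg.quadFormOdd, Pi.single_apply])
    (fun s t hst => by
      rw [Pi.basisFun_apply, Pi.basisFun_apply, FunLike.coe_smul, polar_smul, smul_eq_mul]
      rcases s with u | i | i <;> rcases t with u' | i' | i' <;>
        first
          | (exact absurd rfl hst)
          | simp [hbu, hbe, hbf, hz, polar_smul_left', polar_smul_right', h.ee, h.ff, h.ef, h.fe,
              hk.1, hk.2, polar_comm (⇑Q) (bK () : V) (e _), polar_comm (⇑Q) (bK () : V) (f _),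
              polar_formOdd, Pi.single_apply, Finset.sum_add_distrib, eq_comm])
  exact ⟨E, hα, fun x => by simpa using hE x⟩

end Cfsg.Agent.Orthogonal
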