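import Mathlib
import Cfsg.Prelude.Def_Classical
import Cfsg.Prelude.Def_ClassicalGeometry

/-!
Basic theory of quadratic forms with non-degenerate polar form, over an arbitrary field:
polar identities, orthogonal complements, the orthogonal group as a group of linear equivalences,
reflections, and the bridge to `Cfsg.isometryGroup`.
-/

set_option autoImplicit false

namespace Cfsg.Agent.Orthogonal

open QuadraticMap Module

variable {F V V' : Type*} [Field F] [AddCommGroup V] [Module F V] [AddCommGroup V'] [Module F V']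

/-! ### Polar form -/

/-- `Q` has non-degenerate polar form, stated elementwise. -/
def Nondeg (Q : QuadraticForm F V) : Prop := ∀ x, (∀ y, polar Q x y = 0) → x = 0

variable (Q : QuadraticForm F V)

theorem map_add_polar (x y : V) : Q (x + y) = Q x + Q y + polar Q x y :=
  QuadraticMap.map_add Q x y

theorem qmap_smul (a : F) (x : V) : Q (a • x) = a ^ 2 * Q x := by
  rw [QuadraticMap.map_smul, smul_eq_mul, pow_two]

theorem qmap_sub (x y : V) : Q (x - y) = Q x + Q y - polar Q x y := by
  rw [sub_eq_add_neg, map_add_polar, QuadraticMap.map_neg, polar_neg_right]; ring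

theorem polar_self' (x : V) : polar Q x x = 2 * Q x := by
  rw [QuadraticMap.polar_self, nsmul_eq_mul]; norm_num

theorem polar_smul_left' (a : F) (x y : V) : polar Q (a • x) y = a * polar Q x y := by
  rw [polar_smul_left, smul_eq_mul]

theorem polar_smul_right' (a : F) (x y : V) : polar Q x (a • y) = a * polar Q x y := by
  rw [polar_smul_right, smul_eq_mul]

theorem polarBilin_apply' (x y : V) : Q.polarBilin x y = polar Q x y := rfl

variable {Q}

theorem nondeg_iff : Q.polarBilin.Nondegenerate ↔ Nondeg Q := by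
  constructor
  · intro h x hx; exact h.1 x hx
  · intro h
    exact ⟨h, fun y hy => h y fun x => by rw [polar_comm]; exact hy x⟩

theorem Nondeg.polarBilin (h : Nondeg Q) : Q.polarBilin.Nondegenerate := nondeg_iff.2 h

theorem nondeg_of_polarBilin (h : Q.polarBilin.Nondegenerate) : Nondeg Q := nondeg_iff.1 h

theorem Nondeg.exists_polar_ne (h : Nondeg Q) {x : V} (hx : x ≠ 0) : ∃ y, polar Q x y ≠ 0 := by
  by_contra hc
  push Not at hc
  exact hx (h x hc)

theorem Nondeg.exists_polar_eq (h : Nondeg Q) {x : V} (hx : x ≠ 0) (c : F) :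
    ∃ y, polar Q x y = c := by
  obtain ⟨y, hy⟩ := h.exists_polar_ne hx
  exact ⟨(c / polar Q x y) • y, by rw [polar_smul_right', div_mul_cancel₀ c hy]⟩

theorem Nondeg.eq_of_polar (h : Nondeg Q) {x y : V} (hxy : ∀ z, polar Q x z = polar Q y z) :
    x = y := by
  refine sub_eq_zero.1 (h _ fun z => ?_)
  rw [polar_sub_left, hxy, sub_self]

/-- A singular non-zero vector of a space with non-degenerate polar form has a hyperbolic partner. -/
theorem Nondeg.exists_partner (h : Nondeg Q) {u : V} (hu : u ≠ 0) (hQu : Q u = 0) :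
    ∃ f, Q f = 0 ∧ polar Q u f = 1 := by
  obtain ⟨y, hy⟩ := h.exists_polar_eq hu 1
  refine ⟨y + (-Q y) • u, ?_, ?_⟩
  · rw [map_add_polar, qmap_smul, polar_smul_right', polar_comm (⇑Q) y u, hy, hQu]; ring
  · rw [polar_add_right, polar_smul_right', polar_self', hy, hQu]; ring

/-- Every linear functional is `polar Q w` for some `w`. -/
theorem Nondeg.exists_repr [FiniteDimensional F V] (h : Nondeg Q) (l : V →ₗ[F] F) :
    ∃ w, ∀ x, polar Q w x = l x := by
  refine ⟨(LinearMap.BilinForm.toDual Q.polarBilin h.polarBilin).symm l, fun x => ?_⟩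
  rw [← polarBilin_apply', LinearMap.BilinForm.apply_toDual_symm_apply]

/-! ### Orthogonal complements -/

variable (Q)

/-- The vectors orthogonal to all of `W`. -/
def perp (W : Submodule F V) : Submodule F V where
  carrier := {x | ∀ w ∈ W, polar Q w x = 0}
  add_mem' ha hb w hw := by rw [polar_add_right, ha w hw, hb w hw, add_zero]
  zero_mem' w _ := polar_zero_right (Q := Q) w
  smul_mem' c x hx w hw := by rw [polar_smul_right', hx w hw, mul_zero]

theorem mem_perp {W : Submodule F V} {x : V} : x ∈ perp Q W ↔ ∀ w ∈ W, polar Q w x = 0 := Iff.rfl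

theorem mem_perp' {W : Submodule F V} {x : V} : x ∈ perp Q W ↔ ∀ w ∈ W, polar Q x w = 0 := by
  simp only [mem_perp, polar_comm _ x]

theorem perp_eq_orthogonal (W : Submodule F V) :
    perp Q W = LinearMap.BilinForm.orthogonal Q.polarBilin W := rfl

theorem mem_perp_span_singleton {u x : V} :
    x ∈ perp Q (Submodule.span F {u}) ↔ polar Q u x = 0 := by
  constructor
  · intro h; exact h u (Submodule.mem_span_singleton_self u)
  · intro h w hw
    obtain ⟨a, rfl⟩ := Submodule.mem_span_singleton.1 hw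
    rw [polar_smul_left', h, mul_zero]

theorem mem_perp_span_pair {u v x : V} :
    x ∈ perp Q (Submodule.span F {u, v}) ↔ polar Q u x = 0 ∧ polar Q v x = 0 := by
  constructor
  · intro h
    exact ⟨h u (Submodule.subset_span (by simp)), h v (Submodule.subset_span (by simp))⟩
  · rintro ⟨h1, h2⟩ w hw
    obtain ⟨a, b, rfl⟩ := Submodule.mem_span_pair.1 hw
    rw [polar_add_left, polar_smul_left', polar_smul_left', h1, h2]; ring

theorem perp_anti {W W' : Submodule F V} (h : W ≤ W') : perp Q W' ≤ perp Q W :=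
  fun _ hx w hw => hx w (h hw)

theorem perp_perp_le (W : Submodule F V) : W ≤ perp Q (perp Q W) :=
  fun x hx w hw => by rw [polar_comm]; exact hw x hx

theorem perp_bot : perp Q (⊥ : Submodule F V) = ⊤ := by
  refine eq_top_iff.2 fun x _ w hw => ?_
  rw [(Submodule.mem_bot F).1 hw, polar_zero_left]

theorem perp_sup (W W' : Submodule F V) : perp Q (W ⊔ W') = perp Q W ⊓ perp Q W' := by
  refine le_antisymm (le_inf (perp_anti Q le_sup_left) (perp_anti Q le_sup_right)) ?_
  rintro x ⟨h1, h2⟩ w hw
  obtain ⟨a, ha, b, hb, rfl⟩ := Submodule.mem_sup.1 hw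
  rw [polar_add_left, h1 a ha, h2 b hb, add_zero]

variable {Q}

theorem Nondeg.perp_top (h : Nondeg Q) : perp Q (⊤ : Submodule F V) = ⊥ := by
  refine eq_bot_iff.2 fun x hx => (Submodule.mem_bot F).2 (h x fun y => ?_)
  rw [polar_comm]; exact hx y trivial

theorem Nondeg.finrank_add_perp [FiniteDimensional F V] (h : Nondeg Q) (W : Submodule F V) :
    finrank F W + finrank F (perp Q W) = finrank F V := by
  let φ : V →ₗ[F] Module.Dual F W := (W.subtype.dualMap).comp Q.polarBilin
  have hker : LinearMap.ker φ = perp Q W := by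
    ext x
    rw [LinearMap.mem_ker, mem_perp']
    exact ⟨fun hx w hw => LinearMap.congr_fun hx ⟨w, hw⟩,
      fun hx => LinearMap.ext fun w => hx w w.2⟩
  have hsurj : LinearMap.range φ = ⊤ := by
    refine LinearMap.range_eq_top.2 fun l => ?_
    obtain ⟨m, hm⟩ := LinearMap.exists_extend l
    obtain ⟨w, hw⟩ := h.exists_repr m
    exact ⟨w, LinearMap.ext fun x => (hw x).trans (LinearMap.congr_fun hm x)⟩
  have := LinearMap.finrank_range_add_finrank_ker φ
  rw [hker, hsurj, finrank_top, Subspace.dual_finrank_eq] at this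
  exact this

theorem Nondeg.perp_perp [FiniteDimensional F V] (h : Nondeg Q) (W : Submodule F V) :
    perp Q (perp Q W) = W := by
  refine (Submodule.eq_of_le_of_finrank_eq (perp_perp_le Q W) ?_).symm
  have := h.finrank_add_perp W
  have := h.finrank_add_perp (perp Q W)
  omega

theorem Nondeg.finrank_perp_singleton [FiniteDimensional F V] (h : Nondeg Q) {u : V} (hu : u ≠ 0) :
    finrank F (perp Q (Submodule.span F {u})) + 1 = finrank F V := by
  have := h.finrank_add_perp (Submodule.span F {u})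
  rw [finrank_span_singleton hu] at this
  omega

/-- The restriction of `Q` to a submodule. -/
abbrev restr (Q : QuadraticForm F V) (W : Submodule F V) : QuadraticForm F W := Q.comp W.subtype

theorem restr_apply (W : Submodule F V) (x : W) : restr Q W x = Q x := rfl

theorem polar_restr (W : Submodule F V) (x y : W) : polar (restr Q W) x y = polar Q (x : V) y := by
  simp [polar, restr]

theorem nondeg_restr_iff (W : Submodule F V) : Nondeg (restr Q W) ↔ W ⊓ perp Q W = ⊥ := by
  constructor
  · intro h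
    refine eq_bot_iff.2 fun x hx => ?_
    have := h ⟨x, hx.1⟩ fun y => by rw [polar_restr, polar_comm]; exact hx.2 y y.2
    exact (Submodule.mem_bot F).2 (congrArg Subtype.val this)
  · intro h x hx
    have : (x : V) ∈ W ⊓ perp Q W := ⟨x.2, (mem_perp' Q).2 fun w hw => by
      have := hx ⟨w, hw⟩; rwa [polar_restr] at this⟩
    rw [h, Submodule.mem_bot] at this
    exact Subtype.ext this

theorem Nondeg.isCompl_perp [FiniteDimensional F V] (h : Nondeg Q) {W : Submodule F V}
    (hW : Nondeg (restr Q W)) : IsCompl W (perp Q W) := by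
  have hd := (nondeg_restr_iff W).1 hW
  refine ⟨disjoint_iff.2 hd, codisjoint_iff.2 (Submodule.eq_top_of_finrank_eq ?_)⟩
  have h1 := Submodule.finrank_sup_add_finrank_inf_eq W (perp Q W)
  rw [hd, finrank_bot] at h1
  have := h.finrank_add_perp W
  omega

theorem Nondeg.nondeg_perp [FiniteDimensional F V] (h : Nondeg Q) {W : Submodule F V}
    (hW : Nondeg (restr Q W)) : Nondeg (restr Q (perp Q W)) := by
  rw [nondeg_restr_iff, h.perp_perp, inf_comm]
  exact (nondeg_restr_iff W).1 hW

theorem nondeg_restr_top (h : Nondeg Q) : Nondeg (restr Q (⊤ : Submodule F V)) := by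
  rw [nondeg_restr_iff, h.perp_top, inf_bot_eq]

/-- The plane spanned by a hyperbolic pair is non-degenerate. -/
theorem nondeg_hyperbolic_plane {u f : V} (hu : Q u = 0) (hf : Q f = 0) (huf : polar Q u f = 1) :
    Nondeg (restr Q (Submodule.span F {u, f})) := by
  rw [nondeg_restr_iff]
  refine eq_bot_iff.2 fun x hx => ?_
  obtain ⟨hx1, hx2⟩ := hx
  obtain ⟨a, b, rfl⟩ := Submodule.mem_span_pair.1 hx1
  have h := (mem_perp_span_pair Q).1 hx2
  simp only [polar_add_right, polar_smul_right', polar_self', hu, hf, huf, mul_zero, mul_one,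
    zero_add, add_zero, polar_comm Q f u] at h
  rw [h.1, h.2]; simp

theorem linearIndependent_hyperbolic_pair {u f : V} (hu : Q u = 0) (hf : Q f = 0)
    (huf : polar Q u f = 1) : LinearIndependent F ![u, f] := by
  rw [LinearIndependent.pair_iff]
  intro a b hab
  have h1 : polar Q u (a • u + b • f) = 0 := by rw [hab, polar_zero_right]
  have h2 : polar Q f (a • u + b • f) = 0 := by rw [hab, polar_zero_right]
  simp only [polar_add_right, polar_smul_right', polar_self', hu, hf, huf, mul_zero, mul_one,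
    zero_add, add_zero, polar_comm Q f u] at h1 h2
  exact ⟨h2, h1⟩

theorem finrank_hyperbolic_plane {u f : V} (hu : Q u = 0) (hf : Q f = 0)
    (huf : polar Q u f = 1) : finrank F (Submodule.span F {u, f}) = 2 := by
  have h := finrank_span_eq_card (linearIndependent_hyperbolic_pair hu hf huf)
  have hr : Set.range ![u, f] = {u, f} := by
    simp [Matrix.range_cons, Matrix.range_empty, Set.pair_comm]
  rw [hr] at h; simpa using h

theorem Nondeg.finrank_hyperbolic_perp [FiniteDimensional F V] (h : Nondeg Q) {u f : V}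
    (hu : Q u = 0) (hf : Q f = 0) (huf : polar Q u f = 1) :
    finrank F (perp Q (Submodule.span F {u, f})) + 2 = finrank F V := by
  have := h.finrank_add_perp (Submodule.span F {u, f})
  rw [finrank_hyperbolic_plane hu hf huf] at this
  omega

theorem Nondeg.nondeg_hyperbolic_perp [FiniteDimensional F V] (h : Nondeg Q) {u f : V}
    (hu : Q u = 0) (hf : Q f = 0) (huf : polar Q u f = 1) :
    Nondeg (restr Q (perp Q (Submodule.span F {u, f}))) :=
  h.nondeg_perp (nondeg_hyperbolic_plane hu hf huf)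

/-! ### The orthogonal group -/

/-- The orthogonal group of `Q`. -/
def O (Q : QuadraticForm F V) : Subgroup (V ≃ₗ[F] V) where
  carrier := {g | ∀ x, Q (g x) = Q x}
  mul_mem' {a b} ha hb x := by
    change Q (a (b x)) = Q x
    rw [ha, hb]
  one_mem' _ := rfl
  inv_mem' {a} ha x := by
    conv_rhs => rw [← a.apply_symm_apply x, ha]
    rfl

theorem mem_O {g : V ≃ₗ[F] V} : g ∈ O Q ↔ ∀ x, Q (g x) = Q x := Iff.rfl

theorem O.map_app (g : O Q) (x : V) : Q ((g : V ≃ₗ[F] V) x) = Q x := g.2 x

theorem polar_map_of_mem {g : V ≃ₗ[F] V} (hg : g ∈ O Q) (x y : V) :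
    polar Q (g x) (g y) = polar Q x y := by
  simp only [polar, ← map_add, hg _]

theorem O.polar_app (g : O Q) (x y : V) :
    polar Q ((g : V ≃ₗ[F] V) x) ((g : V ≃ₗ[F] V) y) = polar Q x y :=
  polar_map_of_mem g.2 x y

theorem mul_app (g h : V ≃ₗ[F] V) (x : V) : (g * h) x = g (h x) := rfl

theorem one_app (x : V) : (1 : V ≃ₗ[F] V) x = x := rfl

theorem O.ext_app {g h : O Q} (hgh : ∀ x, (g : V ≃ₗ[F] V) x = (h : V ≃ₗ[F] V) x) : g = h :=
  Subtype.ext (LinearEquiv.ext hgh)

/-- An isometric equivalence of spaces induces an isomorphism of orthogonal groups. -/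
def congrO {Q' : QuadraticForm F V'} (e : V ≃ₗ[F] V') (he : ∀ x, Q' (e x) = Q x) :
    O Q ≃* O Q' where
  toFun g := ⟨(e.symm.trans (g : V ≃ₗ[F] V)).trans e, fun x => by
    rw [LinearEquiv.trans_apply, LinearEquiv.trans_apply, he, O.map_app]
    rw [← he, e.apply_symm_apply]⟩
  invFun g := ⟨(e.trans (g : V' ≃ₗ[F] V')).trans e.symm, fun x => by
    rw [LinearEquiv.trans_apply, LinearEquiv.trans_apply, ← he, e.apply_symm_apply, O.map_app, he]⟩
  left_inv g := O.ext_app fun x => by simp
  right_inv g := O.ext_app fun x => by simp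
  map_mul' g h := O.ext_app fun x => by simp

theorem congrO_apply {Q' : QuadraticForm F V'} (e : V ≃ₗ[F] V') (he : ∀ x, Q' (e x) = Q x)
    (g : O Q) (x : V') : (congrO e he g : V' ≃ₗ[F] V') x = e ((g : V ≃ₗ[F] V) (e.symm x)) := rfl

/-! ### Reflections -/

variable (Q)

/-- The linear map `x ↦ x - Q(v)⁻¹ B(v, x) v`; the identity when `Q v = 0`. -/
def reflLin (v : V) : V →ₗ[F] V :=
  LinearMap.id - (Q v)⁻¹ • (Q.polarBilin v).smulRight v

theorem reflLin_apply (v x : V) : reflLin Q v x = x - ((Q v)⁻¹ * polar Q v x) • v := by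
  simp [reflLin, smul_smul]

theorem reflLin_involutive (v : V) : Function.Involutive (reflLin Q v) := by
  intro x
  rw [reflLin_apply, reflLin_apply, polar_sub_right, polar_smul_right', polar_self', sub_sub,
    ← add_smul]
  by_cases hv : Q v = 0
  · simp [hv]
  · have h : (Q v)⁻¹ * polar Q v x + (Q v)⁻¹ * (polar Q v x - (Q v)⁻¹ * polar Q v x * (2 * Q v))
        = 0 := by field_simp; ring
    rw [h, zero_smul, sub_zero]

/-- The reflection in `v` (the identity when `Q v = 0`). -/
def refl (v : V) : V ≃ₗ[F] V := LinearEquiv.ofInvolutive (reflLin Q v) (reflLin_involutive Q v)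

theorem refl_apply (v x : V) : refl Q v x = x - ((Q v)⁻¹ * polar Q v x) • v :=
  reflLin_apply Q v x

theorem refl_mem (v : V) : refl Q v ∈ O Q := by
  intro x
  rw [refl_apply, qmap_sub, qmap_smul, polar_smul_right', polar_comm (⇑Q) x v]
  by_cases hv : Q v = 0
  · simp [hv]
  · field_simp; ring

/-- The reflection in `v`, as an element of the orthogonal group. -/
def rO (v : V) : O Q := ⟨refl Q v, refl_mem Q v⟩

theorem rO_app (v x : V) : (rO Q v : V ≃ₗ[F] V) x = x - ((Q v)⁻¹ * polar Q v x) • v :=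
  refl_apply Q v x

theorem rO_mul_self (v : V) : rO Q v * rO Q v = 1 :=
  O.ext_app fun x => reflLin_involutive Q v x

theorem rO_inv (v : V) : (rO Q v)⁻¹ = rO Q v := inv_eq_of_mul_eq_one_right (rO_mul_self Q v)

variable {Q}

theorem rO_fix {v x : V} (h : polar Q v x = 0) : (rO Q v : V ≃ₗ[F] V) x = x := by
  rw [rO_app, h]; simp

theorem rO_self {v : V} (hv : Q v ≠ 0) : (rO Q v : V ≃ₗ[F] V) v = -v := by
  rw [rO_app, polar_self', mul_comm 2 (Q v), ← mul_assoc, inv_mul_cancel₀ hv, one_mul, two_smul]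
  abel

theorem rO_smul {c : F} (hc : c ≠ 0) (v : V) : rO Q (c • v) = rO Q v := by
  refine O.ext_app fun x => ?_
  rw [rO_app, rO_app, qmap_smul, polar_smul_left', smul_smul]
  by_cases hv : Q v = 0
  · simp [hv]
  · congr 2; field_simp

theorem rO_of_singular {v : V} (hv : Q v = 0) : rO Q v = 1 :=
  O.ext_app fun x => by rw [rO_app, hv]; simp

/-- The reflection in `x - y` interchanges two vectors of equal norm, if `Q (x - y) ≠ 0`. -/
theorem rO_sub_swap {x y : V} (hxy : Q x = Q y) (h : Q (x - y) ≠ 0) :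
    (rO Q (x - y) : V ≃ₗ[F] V) x = y := by
  have hB : polar Q (x - y) x = Q (x - y) := by
    rw [polar_sub_left, polar_self', qmap_sub, polar_comm (⇑Q) y x, ← hxy]; ring
  rw [rO_app, hB, inv_mul_cancel₀ h, one_smul, sub_sub_cancel]

/-- Conjugating a reflection gives the reflection in the image. -/
theorem conj_rO (g : O Q) (v : V) : g * rO Q v * g⁻¹ = rO Q ((g : V ≃ₗ[F] V) v) := by
  rw [mul_inv_eq_iff_eq_mul]
  refine O.ext_app fun x => ?_
  simp only [Subgroup.coe_mul, mul_app, rO_app, O.map_app, O.polar_app, map_sub, map_smul]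

/-- Conjugate reflections when the vectors are related by an isometry, up to a scalar. -/
theorem isConj_rO (g : O Q) (v : V) : IsConj (rO Q v) (rO Q ((g : V ≃ₗ[F] V) v)) :=
  isConj_iff.2 ⟨g, conj_rO g v⟩

/-! ### Bridge to `Cfsg.isometryGroup` -/

section Bridge

variable {ι : Type} [Fintype ι] [DecidableEq ι]

theorem mem_isometryGroup_iff (f : (ι → F) → F) (g : Matrix.GeneralLinearGroup ι F) :
    g ∈ Cfsg.isometryGroup F f ↔ ∀ v, f ((g : Matrix ι ι F).mulVec v) = f v :=
  ⟨fun h v => h v 0, fun h v _ => h v⟩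

/-- The linear equivalence of an invertible matrix. -/
noncomputable def glEquiv : Matrix.GeneralLinearGroup ι F ≃* ((ι → F) ≃ₗ[F] (ι → F)) :=
  Matrix.GeneralLinearGroup.toLin.trans
    (LinearMap.GeneralLinearGroup.generalLinearEquiv F (ι → F))

theorem glEquiv_apply (g : Matrix.GeneralLinearGroup ι F) (v : ι → F) :
    glEquiv g v = (g : Matrix ι ι F).mulVec v := rfl

/-- `Cfsg.isometryGroup` of a quadratic form is its orthogonal group. -/
noncomputable def toO (Q : QuadraticForm F (ι → F)) : Cfsg.isometryGroup F (⇑Q) ≃* O Q :=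
  (glEquiv (F := F)).subgroupMap _ |>.trans (MulEquiv.subgroupCongr (by
    ext g
    constructor
    · rintro ⟨h, hh, rfl⟩ x
      exact (mem_isometryGroup_iff _ h).1 hh x
    · intro hg
      obtain ⟨h, rfl⟩ := glEquiv.surjective g
      exact ⟨h, (mem_isometryGroup_iff _ h).2 fun v => hg v, rfl⟩))

theorem toO_apply (Q : QuadraticForm F (ι → F)) (g : Cfsg.isometryGroup F (⇑Q)) (v : ι → F) :
    (toO Q g : (ι → F) ≃ₗ[F] (ι → F)) v =
      ((g : Matrix.GeneralLinearGroup ι F) : Matrix ι ι F).mulVec v := rfl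

theorem toO_symm_apply (Q : QuadraticForm F (ι → F)) (g : O Q) (v : ι → F) :
    (((toO Q).symm g : Matrix.GeneralLinearGroup ι F) : Matrix ι ι F).mulVec v =
      (g : (ι → F) ≃ₗ[F] (ι → F)) v := by
  rw [← toO_apply, MulEquiv.apply_symm_apply]

theorem polarVec_dot (Q : QuadraticForm F (ι → F)) (v x : ι → F) :
    Cfsg.polarVec (⇑Q) v ⬝ᵥ x = polar Q v x := by
  rw [← polarBilin_apply', pi_eq_sum_univ' x, map_sum]
  simp only [map_smul, polarBilin_apply', smul_eq_mul]
  rw [← pi_eq_sum_univ' x]
  refine Finset.sum_congr rfl fun i _ => ?_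
  rw [mul_comm]
  simp only [Cfsg.polarVec]

theorem reflectionMatrix_mulVec (Q : QuadraticForm F (ι → F)) (v x : ι → F) :
    (Cfsg.reflectionMatrix (⇑Q) v).mulVec x = (rO Q v : (ι → F) ≃ₗ[F] (ι → F)) x := by
  rw [Cfsg.reflectionMatrix, Matrix.sub_mulVec, Matrix.one_mulVec, Matrix.smul_mulVec,
    Matrix.vecMulVec_mulVec, polarVec_dot, rO_app]
  ext i; simp [mul_comm, mul_left_comm]

theorem toO_eq_rO_iff (Q : QuadraticForm F (ι → F)) (g : Cfsg.isometryGroup F (⇑Q)) (v : ι → F) :
    toO Q g = rO Q v ↔ ((g : Matrix.GeneralLinearGroup ι F) : Matrix ι ι F) =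
      Cfsg.reflectionMatrix (⇑Q) v := by
  constructor
  · intro h
    refine Matrix.ext_iff_mulVec.2 fun x => ?_
    rw [reflectionMatrix_mulVec, ← h, toO_apply]
  · intro h
    refine O.ext_app fun x => ?_
    rw [toO_apply, h, reflectionMatrix_mulVec]

theorem toO_map_omega (Q : QuadraticForm F (ι → F)) :
    (Cfsg.Omega F (⇑Q)).map (toO Q).toMonoidHom = commutator (O Q) := by
  simp only [Cfsg.Omega, commutator_def, Subgroup.map_commutator]
  rw [Subgroup.map_top_of_surjective _ (toO Q).surjective]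

theorem mem_omega_iff (Q : QuadraticForm F (ι → F)) (g : Cfsg.isometryGroup F (⇑Q)) :
    g ∈ Cfsg.Omega F (⇑Q) ↔ toO Q g ∈ commutator (O Q) := by
  rw [← toO_map_omega]
  exact (Subgroup.mem_map_iff_mem (toO Q).injective).symm

theorem omega_index (Q : QuadraticForm F (ι → F)) :
    (Cfsg.Omega F (⇑Q)).index = (commutator (O Q)).index := by
  rw [← toO_map_omega]
  exact (Subgroup.index_map_equiv _ (toO Q)).symm

theorem card_isometryGroup (Q : QuadraticForm F (ι → F)) :
    Nat.card (Cfsg.isometryGroup F (⇑Q)) = Nat.card (O Q) := Nat.card_congr (toO Q).toEquiv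

end Bridge

/-! ### The standard forms as quadratic forms -/

section Forms

variable (F) (m : ℕ)

/-- `Cfsg.quadFormPlus` as a quadratic form. -/
def formPlus : QuadraticForm F (Fin m ⊕ Fin m → F) :=
  (∑ i : Fin m, QuadraticMap.proj (R := F) (A := F) (Sum.inl i : Fin m ⊕ Fin m) (Sum.inr i)).copy (Cfsg.quadFormPlus m F) (by
    funext v; simp [Cfsg.quadFormPlus, QuadraticMap.proj_apply])

theorem formPlus_coe : ⇑(formPlus F m) = Cfsg.quadFormPlus m F := rfl

/-- `Cfsg.quadFormOdd` as a quadratic form. -/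
def formOdd : QuadraticForm F (Unit ⊕ (Fin m ⊕ Fin m) → F) :=
  (QuadraticMap.proj (R := F) (A := F) (Sum.inl () : Unit ⊕ (Fin m ⊕ Fin m)) (Sum.inl ()) +
    ∑ i : Fin m, QuadraticMap.proj (R := F) (A := F) (Sum.inr (Sum.inl i) : Unit ⊕ (Fin m ⊕ Fin m)) (Sum.inr (Sum.inr i))).copy
    (Cfsg.quadFormOdd m F) (by
    funext v
    simp [Cfsg.quadFormOdd, QuadraticMap.proj_apply, pow_two])

theorem formOdd_coe : ⇑(formOdd F m) = Cfsg.quadFormOdd m F := rfl

/-- `Cfsg.quadFormMinus` as a quadratic form. -/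
def formMinus (a b : F) : QuadraticForm F ((Fin m ⊕ Fin m) ⊕ Fin 2 → F) :=
  ((∑ i : Fin m, QuadraticMap.proj (R := F) (A := F) (Sum.inl (Sum.inl i) : (Fin m ⊕ Fin m) ⊕ Fin 2) (Sum.inl (Sum.inr i))) +
    (QuadraticMap.proj (R := F) (A := F) (Sum.inr 0 : (Fin m ⊕ Fin m) ⊕ Fin 2) (Sum.inr 0) + a • QuadraticMap.proj (R := F) (A := F) (Sum.inr 0 : (Fin m ⊕ Fin m) ⊕ Fin 2) (Sum.inr 1)
      + b • QuadraticMap.proj (R := F) (A := F) (Sum.inr 1 : (Fin m ⊕ Fin m) ⊕ Fin 2) (Sum.inr 1))).copy (Cfsg.quadFormMinus m F a b) (by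
    funext v
    simp [Cfsg.quadFormMinus, QuadraticMap.proj_apply, pow_two, mul_assoc])

theorem formMinus_coe (a b : F) : ⇑(formMinus F m a b) = Cfsg.quadFormMinus m F a b := rfl

end Forms

end Cfsg.Agent.Orthogonal
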