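import Cfsg.Agent.Orthogonal.Generation

/-!
Eichler (Siegel) transformations and the group they generate: in dimension at least five over a
finite field it is perfect and equals the commutator subgroup of the orthogonal group.
-/

set_option autoImplicit false

namespace Cfsg.Agent.Orthogonal

open QuadraticMap Module
open scoped commutatorElement

variable {F V : Type*} [Field F] [AddCommGroup V] [Module F V]
variable {Q : QuadraticForm F V}

/-- The linear map `x ↦ x + B(w,x) u - B(u,x) w - Q(w) B(u,x) u`. -/
def sieLin (Q : QuadraticForm F V) (u w : V) : V →ₗ[F] V :=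
  LinearMap.id + (Q.polarBilin w - Q w • Q.polarBilin u).smulRight u -
    (Q.polarBilin u).smulRight w

theorem sieLin_apply (u w x : V) :
    sieLin Q u w x = x + (polar Q w x - Q w * polar Q u x) • u - polar Q u x • w := rfl

theorem sieLin_comp {u w w' : V} (hu : Q u = 0) (hw : polar Q u w = 0) (hw' : polar Q u w' = 0)
    (x : V) : sieLin Q u w (sieLin Q u w' x) = sieLin Q u (w + w') x := by
  simp only [sieLin_apply, polar_add_right, polar_sub_right, polar_smul_right', polar_add_left,
    polar_self', hu, hw', map_add_polar, polar_comm (⇑Q) w u, hw]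
  match_scalars <;> ring

theorem sieLin_zero (u x : V) : sieLin Q u 0 x = x := by simp [sieLin_apply]

theorem map_sieLin {u w : V} (hu : Q u = 0) (hw : polar Q u w = 0) (x : V) :
    Q (sieLin Q u w x) = Q x := by
  simp only [sieLin_apply, qmap_sub, map_add_polar, qmap_smul, polar_add_left, polar_smul_left',
    polar_smul_right', hu, hw, polar_comm (⇑Q) x u, polar_comm (⇑Q) x w]
  ring

/-- The Eichler transformation of a singular `u` and an orthogonal `w`. -/
noncomputable def sie (u w : V) (hu : Q u = 0) (hw : polar Q u w = 0) : O Q :=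
  ⟨LinearEquiv.ofLinearMap (sieLin Q u w) (sieLin Q u (-w))
    (LinearMap.ext fun x => by
      rw [LinearMap.comp_apply, sieLin_comp hu hw (by rw [polar_neg_right, hw, neg_zero]),
        add_neg_cancel, sieLin_zero]; rfl)
    (LinearMap.ext fun x => by
      rw [LinearMap.comp_apply, sieLin_comp hu (by rw [polar_neg_right, hw, neg_zero]) hw,
        neg_add_cancel, sieLin_zero]; rfl), map_sieLin hu hw⟩

theorem sie_app {u w : V} (hu : Q u = 0) (hw : polar Q u w = 0) (x : V) :
    (sie u w hu hw : V ≃ₗ[F] V) x =
      x + (polar Q w x - Q w * polar Q u x) • u - polar Q u x • w := rfl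

theorem sie_mul {u w w' : V} (hu : Q u = 0) (hw : polar Q u w = 0) (hw' : polar Q u w' = 0) :
    sie u w hu hw * sie u w' hu hw' =
      sie u (w + w') hu (by rw [polar_add_right, hw, hw', add_zero]) :=
  O.ext_app fun x => sieLin_comp hu hw hw' x

theorem sie_inv {u w : V} (hu : Q u = 0) (hw : polar Q u w = 0) :
    (sie u w hu hw)⁻¹ = sie u (-w) hu (by rw [polar_neg_right, hw, neg_zero]) := by
  refine inv_eq_of_mul_eq_one_right (O.ext_app fun x => ?_)
  rw [sie_mul]
  change sieLin Q u (w + -w) x = x
  rw [add_neg_cancel, sieLin_zero]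

theorem sie_fix {u w : V} (hu : Q u = 0) (hw : polar Q u w = 0) :
    (sie u w hu hw : V ≃ₗ[F] V) u = u := by
  rw [sie_app, polar_self', hu, polar_comm (⇑Q) w u, hw]; simp

theorem sie_fix' {u w x : V} (hu : Q u = 0) (hw : polar Q u w = 0) (h1 : polar Q u x = 0)
    (h2 : polar Q w x = 0) : (sie u w hu hw : V ≃ₗ[F] V) x = x := by
  rw [sie_app, h1, h2]; simp

theorem sie_conj {u w : V} (hu : Q u = 0) (hw : polar Q u w = 0) (g : O Q) :
    g * sie u w hu hw * g⁻¹ = sie ((g : V ≃ₗ[F] V) u) ((g : V ≃ₗ[F] V) w)
      (by rw [O.map_app]; exact hu) (by rw [O.polar_app]; exact hw) := by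
  rw [mul_inv_eq_iff_eq_mul]
  refine O.ext_app fun x => ?_
  simp only [Subgroup.coe_mul, mul_app, sie_app, O.polar_app, O.map_app, map_add, map_sub, map_smul]

theorem sie_congr {u w u' w' : V} (hu : Q u = 0) (hw : polar Q u w = 0) (hu' : Q u' = 0)
    (hw' : polar Q u' w' = 0) (h1 : u = u') (h2 : w = w') :
    sie u w hu hw = sie u' w' hu' hw' := by
  subst h1 h2; rfl

theorem sie_add_smul {u w : V} (hu : Q u = 0) (hw : polar Q u w = 0) (a : F) :
    sie u (w + a • u) hu (by rw [polar_add_right, polar_smul_right', polar_self', hw, hu]; ring) =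
      sie u w hu hw := by
  refine O.ext_app fun x => ?_
  simp only [sie_app, polar_add_left, polar_smul_left', map_add_polar, qmap_smul, hu,
    polar_smul_right', polar_comm (⇑Q) w u, hw]
  match_scalars <;> ring

theorem sie_smul {u w : V} (hu : Q u = 0) (hw : polar Q u w = 0) (a : F) :
    sie (a • u) w (by rw [qmap_smul, hu, mul_zero]) (by rw [polar_smul_left', hw, mul_zero]) =
      sie u (a • w) hu (by rw [polar_smul_right', hw, mul_zero]) := by
  refine O.ext_app fun x => ?_
  simp only [sie_app, polar_smul_left', qmap_smul]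
  match_scalars <;> ring

/-- The group generated by all Eichler transformations. -/
def sieGroup (Q : QuadraticForm F V) : Subgroup (O Q) :=
  Subgroup.closure {g | ∃ (u w : V) (hu : Q u = 0) (hw : polar Q u w = 0), g = sie u w hu hw}

theorem sie_mem {u w : V} (hu : Q u = 0) (hw : polar Q u w = 0) : sie u w hu hw ∈ sieGroup Q :=
  Subgroup.subset_closure ⟨u, w, hu, hw, rfl⟩

theorem sieGroup_normal : (sieGroup Q).Normal := by
  refine ⟨fun n hn g => ?_⟩
  induction hn using Subgroup.closure_induction with
  | mem x hx =>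
    obtain ⟨u, w, hu, hw, rfl⟩ := hx
    rw [sie_conj]; exact sie_mem _ _
  | one => simp
  | mul x y _ _ hx hy => rw [← conj_mul]; exact mul_mem hx hy
  | inv x _ hx => rw [← conj_inv]; exact inv_mem hx

variable [FiniteDimensional F V]

omit [FiniteDimensional F V] in
/-- A non-trivial space with non-degenerate polar form has a non-singular vector. -/
theorem exists_anisotropic (hQ : Nondeg Q) {x : V} (hx : x ≠ 0) : ∃ t : V, Q t ≠ 0 := by
  by_contra h
  push Not at h
  exact hx (hQ x fun y => by rw [polar, h, h, h, sub_zero, sub_zero])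

/-- Two non-zero singular vectors have a common singular vector orthogonal to neither, in
dimension at least three. -/
theorem exists_common_partner (hQ : Nondeg Q) (hn : 3 ≤ finrank F V) {u u' : V} (hu0 : u ≠ 0)
    (hu0' : u' ≠ 0) (hu : Q u = 0) (hu' : Q u' = 0) :
    ∃ f, Q f = 0 ∧ polar Q u f ≠ 0 ∧ polar Q u' f ≠ 0 := by
  by_cases hB : polar Q u u' = 0
  · obtain ⟨l, -, hl1, hl2⟩ := exists_dual_ne_zero_two (H := (⊥ : Submodule F V)) (x := u) (y := u')
      (by simpa using hu0) (by simpa using hu0')
    obtain ⟨y, hy⟩ := hQ.exists_repr l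
    have h1 : polar Q u y ≠ 0 := by rw [polar_comm, hy]; exact hl1
    refine ⟨y + (-Q y / polar Q u y) • u, ?_, ?_, ?_⟩
    · rw [map_add_polar, qmap_smul, hu, polar_smul_right', polar_comm (⇑Q) y u,
        div_mul_cancel₀ _ h1]; ring
    · rwa [polar_add_right, polar_smul_right', polar_self', hu, mul_zero, mul_zero, add_zero]
    · rw [polar_add_right, polar_smul_right', polar_comm (⇑Q) u' u, hB, mul_zero, add_zero,
        polar_comm, hy]
      exact hl2
  · set c := polar Q u u' with hc
    have hQ' : Q (c⁻¹ • u') = 0 := by rw [qmap_smul, hu', mul_zero]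
    have huf : polar Q u (c⁻¹ • u') = 1 := by rw [polar_smul_right', ← hc, inv_mul_cancel₀ hB]
    have hW := hQ.nondeg_hyperbolic_perp hu hQ' huf
    have hWr := hQ.finrank_hyperbolic_perp hu hQ' huf
    have : Nontrivial (perp Q (Submodule.span F {u, c⁻¹ • u'})) :=
      Module.finrank_pos_iff.1 (by omega : 0 < finrank F (perp Q (Submodule.span F {u, c⁻¹ • u'})))
    obtain ⟨x, hx⟩ := exists_ne (0 : perp Q (Submodule.span F {u, c⁻¹ • u'}))
    obtain ⟨t, ht⟩ := exists_anisotropic hW hx
    have htp := (mem_perp_span_pair Q).1 t.2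
    have htu' : polar Q u' (t : V) = 0 := by
      have := htp.2
      rw [polar_smul_left'] at this
      exact (mul_eq_zero.1 this).resolve_left (inv_ne_zero hB)
    rw [restr_apply] at ht
    refine ⟨u + (-Q (t : V) / c) • u' + (t : V), ?_, ?_, ?_⟩
    · simp only [map_add_polar, qmap_smul, polar_add_left, polar_smul_left', polar_smul_right', hu,
        hu', htp.1, htu', ← hc]
      field_simp
      ring
    · rw [polar_add_right, polar_add_right, polar_smul_right', polar_self', hu, htp.1, ← hc]
      simpa [hB] using ht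
    · rw [polar_add_right, polar_add_right, polar_smul_right', polar_self', hu', htu',
        polar_comm (⇑Q) u' u, ← hc]
      simpa using hB

omit [FiniteDimensional F V] in
/-- Eichler transformations along `f` move `u` to every other partner of `f`. -/
theorem exists_sie_partner {u v f : V} (hu : Q u = 0) (hv : Q v = 0) (hf : Q f = 0)
    (huf : polar Q u f = 1) (hvf : polar Q v f = 1) :
    ∃ g ∈ sieGroup Q, (g : V ≃ₗ[F] V) u = v ∧ (g : V ≃ₗ[F] V) f = f ∧
      ∀ x, polar Q u x = 0 → polar Q v x = 0 → polar Q f x = 0 → (g : V ≃ₗ[F] V) x = x := by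
  have hfu : polar Q f u = 1 := by rw [polar_comm]; exact huf
  have hfw : polar Q f (u - v + polar Q u v • f) = 0 := by
    rw [polar_add_right, polar_sub_right, polar_smul_right', hfu, polar_comm (⇑Q) f v, hvf,
      polar_self', hf]; ring
  refine ⟨_, sie_mem hf hfw, ?_, sie_fix hf hfw, fun x h1 h2 h3 => sie_fix' hf hfw h3 (by
    rw [polar_add_left, polar_sub_left, polar_smul_left', h1, h2, h3]; ring)⟩
  have hQw : Q (u - v + polar Q u v • f) = -polar Q u v := by
    simp only [map_add_polar, qmap_sub, qmap_smul, polar_sub_left, polar_smul_right', hu, hv, hf,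
      huf, hvf]
    ring
  rw [sie_app, hQw, hfu]
  simp only [polar_add_left, polar_sub_left, polar_smul_left', polar_self', hu, hfu,
    polar_comm (⇑Q) v u]
  match_scalars <;> ring

/-- The Eichler group is transitive on singular points. -/
theorem exists_sie_point (hQ : Nondeg Q) (hn : 3 ≤ finrank F V) {u u' : V} (hu0 : u ≠ 0)
    (hu0' : u' ≠ 0) (hu : Q u = 0) (hu' : Q u' = 0) :
    ∃ g ∈ sieGroup Q, ∃ s : F, s ≠ 0 ∧ (g : V ≃ₗ[F] V) u = s • u' := by
  obtain ⟨f, hf, h1, h2⟩ := exists_common_partner hQ hn hu0 hu0' hu hu'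
  obtain ⟨g, hg, hgu, -⟩ := exists_sie_partner (u := (polar Q u f)⁻¹ • u)
    (v := (polar Q u' f)⁻¹ • u') (by rw [qmap_smul, hu, mul_zero])
    (by rw [qmap_smul, hu', mul_zero]) hf (by rw [polar_smul_left', inv_mul_cancel₀ h1])
    (by rw [polar_smul_left', inv_mul_cancel₀ h2])
  refine ⟨g, hg, polar Q u f / polar Q u' f, div_ne_zero h1 h2, ?_⟩
  rw [map_smul, inv_smul_eq_iff₀ h1] at hgu
  rw [hgu, smul_smul, div_eq_mul_inv]

variable [Finite F]

/-- The Eichler group is transitive on the vectors of each non-zero norm. -/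
theorem exists_sie_sphere (hQ : Nondeg Q) (hn : 4 ≤ finrank F V) {u f v : V} (hu : Q u = 0)
    (hf : Q f = 0) (huf : polar Q u f = 1) (hv : Q v ≠ 0) :
    ∃ g ∈ sieGroup Q, (g : V ≃ₗ[F] V) v = u + Q v • f := by
  have hfu : polar Q f u = 1 := by rw [polar_comm]; exact huf
  have case1 : ∀ v', Q v' = Q v → polar Q f v' = 1 →
      ∃ g ∈ sieGroup Q, (g : V ≃ₗ[F] V) v' = u + Q v • f := by
    intro v' hQv' hfv'
    set b := polar Q u v' with hb
    set w := v' - u - b • f with hw
    have hfw : polar Q f w = 0 := by
      rw [hw, polar_sub_right, polar_sub_right, polar_smul_right', hfv', hfu, polar_self', hf]; ring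
    refine ⟨_, sie_mem hf hfw, ?_⟩
    rw [sie_app, hfv']
    have hQw : Q w = Q v - b := by
      simp only [hw, qmap_sub, qmap_smul, polar_sub_left, polar_smul_right', hu, hf, hQv', huf,
        polar_comm (⇑Q) v' u, polar_comm (⇑Q) v' f, hfv', ← hb]
      ring
    have hwv : polar Q w v' = 2 * Q v - 2 * b := by
      rw [hw, polar_sub_left, polar_sub_left, polar_self', polar_smul_left', hfv', ← hb, hQv']; ring
    rw [hQw, hwv, hw]
    match_scalars <;> ring
  have case0 : ∀ v', Q v' = Q v → ∀ z, polar Q u z = 0 → polar Q f z = 0 →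
      polar Q f v' + polar Q z v' - Q z * polar Q u v' = 1 →
      ∃ g ∈ sieGroup Q, (g : V ≃ₗ[F] V) v' = u + Q v • f := by
    intro v' hQv' z huz hfz hz
    have hg := sie_mem (Q := Q) hu huz
    obtain ⟨g, hg', hgv⟩ := case1 ((sie u z hu huz : V ≃ₗ[F] V) v') (by rw [O.map_app, hQv']) (by
      rw [sie_app, polar_sub_right, polar_add_right, polar_smul_right', polar_smul_right', hfu, hfz]
      linear_combination hz)
    exact ⟨g * sie u z hu huz, mul_mem hg' hg, by rw [Subgroup.coe_mul, mul_app, hgv]⟩
  have hW := hQ.nondeg_hyperbolic_perp hu hf huf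
  have hWr := hQ.finrank_hyperbolic_perp hu hf huf
  set a := polar Q f v
  set b := polar Q u v
  set w := v - a • u - b • f with hw
  have hwW : w ∈ perp Q (Submodule.span F {u, f}) := by
    rw [mem_perp_span_pair]
    simp only [hw, a, b, polar_sub_right, polar_smul_right', polar_self', hu, hf, huf, hfu]
    constructor <;> ring
  have hwp := (mem_perp_span_pair Q).1 hwW
  have hpol : ∀ z ∈ perp Q (Submodule.span F {u, f}), polar Q z v = polar Q z w := by
    intro z hz
    have hzp := (mem_perp_span_pair Q).1 hz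
    rw [hw, polar_sub_right, polar_sub_right, polar_smul_right', polar_smul_right',
      polar_comm (⇑Q) z u, polar_comm (⇑Q) z f, hzp.1, hzp.2]
    ring
  by_cases hb : b = 0
  · have hw0 : w ≠ 0 := by
      intro h0
      apply hv
      have : v = a • u := by
        rw [hw, hb, zero_smul, sub_zero, sub_eq_zero] at h0; exact h0
      rw [this, qmap_smul, hu, mul_zero]
    obtain ⟨z, hz⟩ := hW.exists_polar_eq (x := ⟨w, hwW⟩) (fun h => hw0 (congrArg Subtype.val h))
      (1 - a)
    rw [polar_restr] at hz
    change polar Q w (z : V) = 1 - a at hz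
    have hzp := (mem_perp_span_pair Q).1 z.2
    refine case0 v rfl z hzp.1 hzp.2 ?_
    rw [hpol z z.2, polar_comm (⇑Q) (z : V) w, hz]
    change a + (1 - a) - _ * b = 1
    rw [hb]; ring
  · set z₀ := b⁻¹ • w with hz₀
    have hz₀u : polar Q u z₀ = 0 := by rw [hz₀, polar_smul_right', hwp.1, mul_zero]
    have hz₀f : polar Q f z₀ = 0 := by rw [hz₀, polar_smul_right', hwp.2, mul_zero]
    set v₁ := (sie u z₀ hu hz₀u : V ≃ₗ[F] V) v with hv₁
    have hfix : ∀ z ∈ perp Q (Submodule.span F {u, f}), polar Q z v₁ = 0 := by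
      intro z hz
      have hzp := (mem_perp_span_pair Q).1 hz
      rw [hv₁, sie_app, polar_sub_right, polar_add_right, polar_smul_right', polar_smul_right',
        polar_comm (⇑Q) z u, hzp.1, hpol z hz, hz₀, polar_smul_right']
      change polar Q z w + _ * 0 - b * (b⁻¹ * polar Q z w) = 0
      rw [← mul_assoc, mul_inv_cancel₀ hb]; ring
    have hb₁ : polar Q u v₁ = b := by
      have := O.polar_app (sie u z₀ hu hz₀u) u v
      rw [sie_fix] at this
      rw [hv₁]; exact this
    set a₁ := polar Q f v₁ with ha₁
    obtain ⟨z, hz⟩ := hW.exists_value (by omega) ((a₁ - 1) / b)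
    rw [restr_apply] at hz
    have hzp := (mem_perp_span_pair Q).1 z.2
    obtain ⟨g, hg, hgv⟩ := case0 v₁ (by rw [hv₁, O.map_app]) z hzp.1 hzp.2 (by
      rw [hfix z z.2, hz, hb₁, div_mul_cancel₀ _ hb, ← ha₁]; ring)
    exact ⟨g * sie u z₀ hu hz₀u, mul_mem hg (sie_mem hu hz₀u), by
      rw [Subgroup.coe_mul, mul_app, ← hv₁, hgv]⟩

omit [Finite F] [FiniteDimensional F V] in
/-- The commutator of an Eichler transformation with an isometry fixing its axis. -/
theorem commutator_sie {u w : V} (hu : Q u = 0) (hw : polar Q u w = 0) {h : O Q}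
    (hhu : (h : V ≃ₗ[F] V) u = u) (hd : polar Q u ((h : V ≃ₗ[F] V) w - w) = 0) :
    ⁅h, sie u w hu hw⁆ = sie u ((h : V ≃ₗ[F] V) w - w) hu hd := by
  have hw' : polar Q u ((h : V ≃ₗ[F] V) w) = 0 := by
    conv_lhs => rw [← hhu]
    rw [O.polar_app, hw]
  rw [commutatorElement_def, sie_conj, sie_inv, sie_congr _ _ hu hw' hhu rfl, sie_mul]
  exact sie_congr _ _ _ _ rfl (sub_eq_add_neg _ _).symm

/-- A subgroup containing all commutators of Eichler transformations contains all of them, in
dimension at least five. -/
theorem sieGroup_le_of_commutators (hQ : Nondeg Q) (hn : 5 ≤ finrank F V) (H : Subgroup (O Q))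
    (hH : ∀ g ∈ sieGroup Q, ∀ h ∈ sieGroup Q, ⁅g, h⁆ ∈ H) : sieGroup Q ≤ H := by
  refine (Subgroup.closure_le _).2 ?_
  rintro - ⟨u, w, hu, hw, rfl⟩
  by_cases hu0 : u = 0
  · have : sie u w hu hw = 1 := O.ext_app fun x => by
      subst hu0
      rw [sie_app, polar_zero_left]; simp
    rw [this]; exact one_mem H
  obtain ⟨f, hf, huf⟩ := hQ.exists_partner hu0 hu
  have hW := hQ.nondeg_hyperbolic_perp hu hf huf
  have hWr := hQ.finrank_hyperbolic_perp hu hf huf
  set W := perp Q (Submodule.span F {u, f}) with hWdef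
  have huW : ∀ z : W, polar Q u (z : V) = 0 := fun z => ((mem_perp_span_pair Q).1 z.2).1
  -- singular vectors of `W`
  have hsing : ∀ a : W, Q (a : V) = 0 → sie u (a : V) hu (huW a) ∈ H := by
    intro a ha
    by_cases ha0 : a = 0
    · have : sie u (a : V) hu (huW a) = 1 := O.ext_app fun x => by
        subst ha0; simp [sie_app]
      rw [this]; exact one_mem H
    obtain ⟨a', ha', haa'⟩ := hW.exists_partner ha0 ha
    rw [restr_apply] at ha'
    have haa : polar Q (a : V) a' = 1 := by rw [← polar_restr]; exact haa'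
    have hK := hW.nondeg_hyperbolic_perp (u := a) (f := a') ha ha' haa'
    have hKr := hW.finrank_hyperbolic_perp (u := a) (f := a') ha ha' haa'
    have : Nontrivial (perp (restr Q W) (Submodule.span F {a, a'})) :=
      Module.finrank_pos_iff.1 (by omega : 0 < finrank F (perp (restr Q W) (Submodule.span F {a, a'})))
    obtain ⟨b, hb⟩ := exists_ne (0 : perp (restr Q W) (Submodule.span F {a, a'}))
    obtain ⟨b', hbb'⟩ := hK.exists_polar_eq hb 1
    rw [polar_restr, polar_restr] at hbb'
    have hbp := (mem_perp_span_pair (restr Q W)).1 b.2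
    have hbp' := (mem_perp_span_pair (restr Q W)).1 b'.2
    rw [polar_restr, polar_restr] at hbp hbp'
    set B : V := ((b : W) : V)
    set B' : V := ((b' : W) : V)
    set h := sie (a : V) B ha hbp.1
    have hhu : (h : V ≃ₗ[F] V) u = u :=
      sie_fix' ha hbp.1 (by rw [polar_comm]; exact huW a) (by rw [polar_comm]; exact huW _)
    have hhB' : (h : V ≃ₗ[F] V) B' - B' = (a : V) := by
      rw [sie_app, hbp'.1, hbb', zero_smul, sub_zero, mul_zero, sub_zero, one_smul,
        add_sub_cancel_left]
    have := hH h (sie_mem _ _) _ (sie_mem hu (huW (b' : W)))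
    rw [commutator_sie hu _ hhu (by rw [hhB']; exact huW a)] at this
    rwa [sie_congr hu _ hu (huW a) rfl hhB'] at this
  -- the set of good vectors is additive
  let S : AddSubgroup W :=
    { carrier := {z | sie u (z : V) hu (huW z) ∈ H}
      add_mem' := fun {x y} hx hy => by
        change sie u (x : V) hu (huW x) ∈ H at hx
        change sie u (y : V) hu (huW y) ∈ H at hy
        have := mul_mem hx hy
        rwa [sie_mul] at this
      zero_mem' := hsing 0 (by simp)
      neg_mem' := fun {x} hx => by
        change sie u (x : V) hu (huW x) ∈ H at hx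
        have := inv_mem hx
        rwa [sie_inv] at this }
  have htop : ∀ z : W, z ∈ S := by
    obtain ⟨a, ha0, ha⟩ := hW.exists_singular (by omega)
    obtain ⟨a', ha', haa'⟩ := hW.exists_partner ha0 ha
    intro z
    set p := polar (restr Q W) a' z
    set q' := polar (restr Q W) a z
    set k := z - p • a - q' • a' with hk
    have hka : polar (restr Q W) a k = 0 := by
      simp only [hk, q', polar_sub_right, polar_smul_right', polar_self', ha, haa']; ring
    have hka' : polar (restr Q W) a' k = 0 := by
      simp only [hk, p, polar_sub_right, polar_smul_right', polar_self', ha',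
        polar_comm (⇑(restr Q W)) a' a, haa']; ring
    have hs1 : restr Q W (k + a' + (-restr Q W k) • a) = 0 := by
      simp only [map_add_polar, qmap_smul, polar_add_left, polar_smul_right', ha, ha',
        polar_comm (⇑(restr Q W)) k a', hka', polar_comm (⇑(restr Q W)) k a, hka,
        polar_comm (⇑(restr Q W)) a' a, haa']
      ring
    have hzero : ∀ (c : F) (x : W), restr Q W x = 0 → c • x ∈ S := fun c x hx =>
      hsing _ (by
        change restr Q W (c • x) = 0
        rw [qmap_smul, hx, mul_zero])
    have hkS : k ∈ S := by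
      have := S.sub_mem (S.sub_mem (hsing (k + a' + (-restr Q W k) • a) hs1) (hsing a' ha')) (hzero (-restr Q W k) a ha)
      convert this using 1
      abel
    have := S.add_mem (S.add_mem hkS (hzero p a ha)) (hzero q' a' ha')
    convert this using 1
    rw [hk]; abel
  -- reduce to the orthogonal of the plane
  set c := polar Q f w
  have hz : w - c • u ∈ W := by
    rw [hWdef, mem_perp_span_pair, polar_sub_right, polar_sub_right, polar_smul_right',
      polar_smul_right', polar_self', hu, hw, polar_comm (⇑Q) f u, huf]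
    constructor <;> ring
  have h1 : sie u (w - c • u) hu (huW ⟨_, hz⟩) ∈ H := htop ⟨_, hz⟩
  rw [← sie_add_smul hu (huW ⟨_, hz⟩) c, sie_congr _ _ hu hw rfl (sub_add_cancel w _)] at h1
  exact h1

/-- In dimension at least five the Eichler group is the commutator subgroup. -/
theorem sieGroup_eq_commutator (hQ : Nondeg Q) (hn : 5 ≤ finrank F V) :
    sieGroup Q = commutator (O Q) := by
  refine le_antisymm (sieGroup_le_of_commutators hQ hn _ fun g _ h _ => ?_) ?_
  · exact Subgroup.commutator_mem_commutator (Subgroup.mem_top g) (Subgroup.mem_top h)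
  obtain ⟨u, hu0, hu⟩ := hQ.exists_singular (by omega)
  obtain ⟨f, hf, huf⟩ := hQ.exists_partner hu0 hu
  have := sieGroup_normal (Q := Q)
  set π := QuotientGroup.mk' (sieGroup Q)
  have hsame : ∀ v v' : V, Q v ≠ 0 → Q v' = Q v → π (rO Q v) = π (rO Q v') := by
    have key : ∀ v, Q v ≠ 0 → π (rO Q v) = π (rO Q (u + Q v • f)) := fun v hv => by
      obtain ⟨g, hg, hgv⟩ := exists_sie_sphere hQ (by omega) hu hf huf hv
      have h1 : π g = 1 := (QuotientGroup.eq_one_iff g).2 hg
      rw [← hgv, ← conj_rO, map_mul, map_mul, map_inv, h1, one_mul, inv_one, mul_one]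
    intro v v' hv hvv
    rw [key v hv, key v' (by rwa [hvv]), hvv]
  have hgen := reflGroup_eq_top hQ (Or.inr (by omega))
  have hcentral : ∀ (g : O Q) (v : V), π g * π (rO Q v) = π (rO Q v) * π g := by
    intro g v
    by_cases hv : Q v = 0
    · rw [rO_of_singular hv, map_one, mul_one, one_mul]
    · have h := congrArg π (conj_rO g v)
      rw [map_mul, map_mul, map_inv, ← hsame v _ hv (O.map_app g v)] at h
      exact mul_inv_eq_iff_eq_mul.1 h
  have hcomm : ∀ g h : O Q, π g * π h = π h * π g := by
    intro g h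
    have hh : h ∈ reflGroup Q := by rw [hgen]; trivial
    induction hh using Subgroup.closure_induction with
    | mem x hx => obtain ⟨v, rfl⟩ := hx; exact hcentral g v
    | one => simp
    | mul x y _ _ hx hy =>
      rw [map_mul, ← mul_assoc, hx, mul_assoc, hy, ← mul_assoc]
    | inv x _ hx => rw [map_inv]; exact (Commute.inv_right hx)
  rw [commutator_def, Subgroup.commutator_le]
  intro g _ h _
  rw [← QuotientGroup.eq_one_iff]
  change π ⁅g, h⁆ = 1
  rw [map_commutatorElement, commutatorElement_eq_one_iff_mul_comm]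
  exact hcomm g h

/-- The commutator subgroup of the orthogonal group is perfect in dimension at least five. -/
theorem commutator_commutator (hQ : Nondeg Q) (hn : 5 ≤ finrank F V) :
    ⁅commutator (O Q), commutator (O Q)⁆ = commutator (O Q) := by
  refine le_antisymm (Subgroup.commutator_le_left _ _) ?_
  nth_rw 1 [← sieGroup_eq_commutator hQ hn]
  refine sieGroup_le_of_commutators hQ hn _ fun g hg h hh => ?_
  rw [← sieGroup_eq_commutator hQ hn]
  exact Subgroup.commutator_mem_commutator hg hh

end Cfsg.Agent.Orthogonal
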