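import Cfsg.Agent.Orthogonal.Basic

/-!
Hyperbolic frames, anisotropic kernels, isotropy and representation over finite fields.
-/

set_option autoImplicit false

namespace Cfsg.Agent.Orthogonal

open QuadraticMap Module

variable {F V V' : Type*} [Field F] [AddCommGroup V] [Module F V] [AddCommGroup V'] [Module F V']
variable {Q : QuadraticForm F V}

/-- `Q` has no non-zero singular vector on `W`. -/
def Aniso (Q : QuadraticForm F V) (W : Submodule F V) : Prop := ∀ x ∈ W, Q x = 0 → x = 0

/-- Quadratic forms agreeing on a basis, with polar forms agreeing on distinct basis vectors,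
are equal. -/
theorem qf_ext {ι : Type*} (b : Module.Basis ι F V) {Q₁ Q₂ : QuadraticForm F V}
    (hd : ∀ i, Q₁ (b i) = Q₂ (b i))
    (ho : ∀ i j, i ≠ j → polar Q₁ (b i) (b j) = polar Q₂ (b i) (b j)) : Q₁ = Q₂ := by
  have hpol : Q₁.polarBilin = Q₂.polarBilin := by
    refine LinearMap.BilinForm.ext_basis b fun i j => ?_
    rw [polarBilin_apply', polarBilin_apply']
    by_cases hij : i = j
    · subst hij; rw [polar_self', polar_self', hd]
    · exact ho i j hij
  refine QuadraticMap.ext fun x => ?_
  induction b.mem_span x using Submodule.span_induction with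
  | mem y hy => obtain ⟨i, rfl⟩ := hy; exact hd i
  | zero => simp
  | add y z _ _ ay az =>
    rw [map_add_polar, map_add_polar, ay, az, ← polarBilin_apply', hpol, polarBilin_apply']
  | smul a y _ ay => rw [qmap_smul, qmap_smul, ay]

/-- Quadratic spaces whose bases have the same values are isometric. -/
theorem equiv_of_bases {ι : Type*} (b : Module.Basis ι F V) (b' : Module.Basis ι F V')
    {Q : QuadraticForm F V} {Q' : QuadraticForm F V'}
    (hd : ∀ i, Q' (b' i) = Q (b i))
    (ho : ∀ i j, i ≠ j → polar Q' (b' i) (b' j) = polar Q (b i) (b j)) :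
    ∃ e : V ≃ₗ[F] V', (∀ i, e (b i) = b' i) ∧ ∀ x, Q' (e x) = Q x := by
  refine ⟨b.equiv b' (Equiv.refl ι), fun i => by simp, fun x => ?_⟩
  have h : Q'.comp (b.equiv b' (Equiv.refl ι)).toLinearMap = Q := by
    refine qf_ext b (fun i => by simpa using hd i) (fun i j hij => ?_)
    simpa [polar] using ho i j hij
  exact DFunLike.congr_fun h x

/-! ### Hyperbolic frames -/

/-- `e, f` is a family of mutually orthogonal hyperbolic pairs. -/
structure IsFrame (Q : QuadraticForm F V) {k : ℕ} (e f : Fin k → V) : Prop where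
  qe : ∀ i, Q (e i) = 0
  qf : ∀ i, Q (f i) = 0
  ef : ∀ i j, polar Q (e i) (f j) = if i = j then 1 else 0
  ee : ∀ i j, polar Q (e i) (e j) = 0
  ff : ∀ i j, polar Q (f i) (f j) = 0

namespace IsFrame

variable {k : ℕ} {e f : Fin k → V}

theorem fe (h : IsFrame Q e f) (i j : Fin k) :
    polar Q (f i) (e j) = if i = j then 1 else 0 := by
  rw [polar_comm, h.ef]; simp [eq_comm]

/-- The space spanned by a frame. -/
def hspan (e f : Fin k → V) : Submodule F V := Submodule.span F (Set.range (Sum.elim e f))

/-- The orthogonal complement of a frame. -/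
def kernel (Q : QuadraticForm F V) (e f : Fin k → V) : Submodule F V := perp Q (hspan (F := F) e f)

theorem mem_hspan_l (e f : Fin k → V) (i : Fin k) : e i ∈ hspan (F := F) e f :=
  Submodule.subset_span ⟨Sum.inl i, rfl⟩

theorem mem_hspan_r (e f : Fin k → V) (i : Fin k) : f i ∈ hspan (F := F) e f :=
  Submodule.subset_span ⟨Sum.inr i, rfl⟩

theorem mem_kernel {x : V} :
    x ∈ kernel Q e f ↔ (∀ i, polar Q (e i) x = 0) ∧ ∀ i, polar Q (f i) x = 0 := by
  constructor
  · intro h
    exact ⟨fun i => h _ (mem_hspan_l e f i), fun i => h _ (mem_hspan_r e f i)⟩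
  · intro h w hw
    induction hw using Submodule.span_induction with
    | mem y hy =>
      obtain ⟨i | i, rfl⟩ := hy
      · exact h.1 i
      · exact h.2 i
    | zero => exact polar_zero_left (Q := Q) x
    | add y z _ _ ay az => rw [polar_add_left, ay, az, add_zero]
    | smul a y _ ay => rw [polar_smul_left', ay, mul_zero]

theorem linearIndependent (h : IsFrame Q e f) : LinearIndependent F (Sum.elim e f) := by
  refine Fintype.linearIndependent_iff.2 fun g hg => ?_
  rintro (i | i)
  · have := congrArg (polar Q (f i)) hg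
    rw [← polarBilin_apply', map_sum, polar_zero_right, Fintype.sum_sum_type] at this
    simpa [h.fe, h.ff] using this
  · have := congrArg (polar Q (e i)) hg
    rw [← polarBilin_apply', map_sum, polar_zero_right, Fintype.sum_sum_type] at this
    simpa [h.ef, h.ee] using this

theorem finrank_hspan (h : IsFrame Q e f) : finrank F (hspan (F := F) e f) = 2 * k := by
  rw [hspan, finrank_span_eq_card h.linearIndependent]
  simp; omega

theorem nondeg_hspan (h : IsFrame Q e f) : Nondeg (restr Q (hspan (F := F) e f)) := by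
  rw [nondeg_restr_iff]
  refine eq_bot_iff.2 fun x hx => ?_
  obtain ⟨hx1, hx2⟩ := hx
  obtain ⟨g, rfl⟩ := (Submodule.mem_span_range_iff_exists_fun F).1 hx1
  have hk := mem_kernel.1 hx2
  have hg : ∀ s, g s = 0 := by
    rintro (i | i)
    · have := hk.2 i
      rw [← polarBilin_apply', map_sum, Fintype.sum_sum_type] at this
      simpa [h.fe, h.ff] using this
    · have := hk.1 i
      rw [← polarBilin_apply', map_sum, Fintype.sum_sum_type] at this
      simpa [h.ef, h.ee] using this
  simp [hg]

theorem nondeg_kernel [FiniteDimensional F V] (hQ : Nondeg Q) (h : IsFrame Q e f) :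
    Nondeg (restr Q (kernel Q e f)) := hQ.nondeg_perp h.nondeg_hspan

theorem isCompl_kernel [FiniteDimensional F V] (hQ : Nondeg Q) (h : IsFrame Q e f) :
    IsCompl (hspan (F := F) e f) (kernel Q e f) := hQ.isCompl_perp h.nondeg_hspan

theorem finrank_kernel [FiniteDimensional F V] (hQ : Nondeg Q) (h : IsFrame Q e f) :
    finrank F (kernel Q e f) + 2 * k = finrank F V := by
  have := hQ.finrank_add_perp (hspan (F := F) e f)
  rw [h.finrank_hspan] at this
  unfold kernel; omega

theorem cons (h : IsFrame Q e f) {u v : V} (hu : u ∈ kernel Q e f) (hv : v ∈ kernel Q e f)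
    (hQu : Q u = 0) (hQv : Q v = 0) (huv : polar Q u v = 1) :
    IsFrame Q (Fin.cons u e) (Fin.cons v f) := by
  have hu' := mem_kernel.1 hu
  have hv' := mem_kernel.1 hv
  refine ⟨?_, ?_, ?_, ?_, ?_⟩
  · intro i; cases i using Fin.cases <;> simp [hQu, h.qe]
  · intro i; cases i using Fin.cases <;> simp [hQv, h.qf]
  all_goals intro i j; cases i using Fin.cases <;> cases j using Fin.cases <;>
    simp [huv, hQu, hQv, hu'.1, hu'.2, hv'.1, hv'.2, h.ef, h.ee, h.ff, Fin.succ_inj,
      Fin.succ_ne_zero, (Fin.succ_ne_zero _).symm, polar_comm (⇑Q) u (e _), polar_comm (⇑Q) u (f _),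
      polar_comm (⇑Q) v (f _)]

theorem tail {e f : Fin (k + 1) → V} (h : IsFrame Q e f) :
    IsFrame Q (Fin.tail e) (Fin.tail f) :=
  ⟨fun i => h.qe _, fun i => h.qf _, fun i j => by simp [Fin.tail, h.ef],
    fun i j => h.ee _ _, fun i j => h.ff _ _⟩

end IsFrame

open IsFrame

/-- Every space with non-degenerate polar form has a frame with anisotropic kernel. -/
theorem Nondeg.exists_frame [FiniteDimensional F V] (hQ : Nondeg Q) :
    ∃ (k : ℕ) (e f : Fin k → V), IsFrame Q e f ∧ Aniso Q (kernel Q e f) := by
  suffices ∀ (d k : ℕ) (e f : Fin k → V), IsFrame Q e f → finrank F V ≤ 2 * k + d →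
      ∃ (k : ℕ) (e f : Fin k → V), IsFrame Q e f ∧ Aniso Q (kernel Q e f) from
    this (finrank F V) 0 ![] ![] ⟨fun i => i.elim0, fun i => i.elim0, fun i => i.elim0,
      fun i => i.elim0, fun i => i.elim0⟩ (by omega)
  intro d
  induction d using Nat.strong_induction_on with
  | _ d ih =>
    intro k e f hef hd
    by_cases hK : Aniso Q (kernel Q e f)
    · exact ⟨k, e, f, hef, hK⟩
    unfold Aniso at hK
    push Not at hK
    obtain ⟨u, hu, hQu, hu0⟩ := hK
    obtain ⟨v, hQv, huv⟩ := (hef.nondeg_kernel hQ).exists_partner (u := ⟨u, hu⟩)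
      (fun h => hu0 (congrArg Subtype.val h)) hQu
    rw [polar_restr] at huv
    have hcons := hef.cons hu v.2 hQu hQv huv
    have hle := hcons.finrank_kernel hQ
    exact ih (d - 2) (by omega) _ _ _ hcons (by omega)

/-! ### Finite fields -/

section Finite

variable [Finite F]

theorem isSquare_of_two_eq_zero (h2 : (2 : F) = 0) (a : F) : IsSquare a := by
  have : CharP F 2 := CharTwo.of_one_ne_zero_of_two_eq_zero one_ne_zero h2
  exact isSquare_of_charTwo' a

/-- Sums of two scaled squares take every value. -/
theorem exists_sq_add_sq {a b : F} (ha : a ≠ 0) (hb : b ≠ 0) (c : F) :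
    ∃ x y : F, a * x ^ 2 + b * y ^ 2 = c := by
  have := Fintype.ofFinite F
  by_cases h2 : (2 : F) = 0
  · obtain ⟨r, hr⟩ := isSquare_of_two_eq_zero h2 (c / a)
    exact ⟨r, 0, by rw [pow_two r, ← hr]; field_simp; ring⟩
  · have hodd : Fintype.card F % 2 = 1 := FiniteField.odd_card_of_char_ne_two fun h => h2 <| by
      have := ringChar.of_eq h; exact CharTwo.two_eq_zero
    obtain ⟨x, y, hxy⟩ := FiniteField.exists_root_sum_quadratic
      (f := Polynomial.C a * Polynomial.X ^ 2)
      (g := Polynomial.C b * Polynomial.X ^ 2 - Polynomial.C c)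
      (Polynomial.degree_C_mul_X_pow 2 ha)
      (by rw [Polynomial.degree_sub_C (by rw [Polynomial.degree_C_mul_X_pow 2 hb]; norm_num)]
          exact Polynomial.degree_C_mul_X_pow 2 hb) hodd
    simp only [Polynomial.eval_mul, Polynomial.eval_C, Polynomial.eval_pow, Polynomial.eval_X,
      Polynomial.eval_sub] at hxy
    exact ⟨x, y, by linear_combination hxy⟩

variable [FiniteDimensional F V]

/-- A space of dimension at least 3 over a finite field is isotropic. -/
theorem Nondeg.exists_singular (hQ : Nondeg Q) (hn : 3 ≤ finrank F V) :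
    ∃ u : V, u ≠ 0 ∧ Q u = 0 := by
  by_contra hc
  push Not at hc
  have : Nontrivial V := Module.finrank_pos_iff.1 (by omega : 0 < finrank F V)
  obtain ⟨v, hv⟩ := exists_ne (0 : V)
  have hQv := hc v hv
  have hW := hQ.finrank_perp_singleton hv
  obtain ⟨w, hw, hwv⟩ : ∃ w ∈ perp Q (Submodule.span F {v}), w ∉ Submodule.span F {v} := by
    refine SetLike.not_le_iff_exists.1 fun hle => ?_
    have := Submodule.finrank_mono hle
    rw [finrank_span_singleton hv] at this
    omega
  rw [mem_perp_span_singleton] at hw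
  have hw0 : w ≠ 0 := fun h => hwv (h ▸ Submodule.zero_mem _)
  have hQw := hc w hw0
  by_cases h2 : (2 : F) = 0
  · obtain ⟨r, hr⟩ := isSquare_of_two_eq_zero h2 (-Q w / Q v)
    refine hc (r • v + w) (fun h => hwv ?_) ?_
    · rw [eq_neg_of_add_eq_zero_right h]
      exact Submodule.neg_mem _ (Submodule.smul_mem _ _ (Submodule.mem_span_singleton_self v))
    · rw [map_add_polar, qmap_smul, polar_smul_left', hw, pow_two r, ← hr]; field_simp; ring
  · have h3 := hQ.finrank_add_perp (Submodule.span F {v, w})
    have h4 : finrank F (Submodule.span F {v, w}) ≤ 2 := by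
      classical
      refine (finrank_span_le_card ({v, w} : Set V)).trans ?_
      rw [Set.toFinset_insert, Set.toFinset_singleton]
      exact Finset.card_le_two
    obtain ⟨u, hu, hu0⟩ : ∃ u ∈ perp Q (Submodule.span F {v, w}), u ≠ 0 :=
      Submodule.exists_mem_ne_zero_of_ne_bot fun h => by
        rw [h, finrank_bot] at h3; omega
    rw [mem_perp_span_pair] at hu
    obtain ⟨x, y, hxy⟩ := exists_sq_add_sq hQv hQw (-Q u)
    refine hc (x • v + y • w + u) (fun h => ?_) ?_
    · have := congrArg (polar Q u) h
      simp only [polar_add_right, polar_smul_right', polar_zero_right, polar_comm (⇑Q) u v,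
        polar_comm (⇑Q) u w, hu.1, hu.2, polar_self', mul_zero, zero_add] at this
      exact hc u hu0 (by simpa [h2] using this)
    · simp only [map_add_polar, qmap_smul, polar_add_left, polar_smul_left', polar_smul_right', hw,
        hu.1, hu.2]
      linear_combination hxy

/-- In dimension at least 2 over a finite field every value is taken at a non-zero vector. -/
theorem Nondeg.exists_value (hQ : Nondeg Q) (hn : 2 ≤ finrank F V) (c : F) :
    ∃ v : V, Q v = c := by
  have : Nontrivial V := Module.finrank_pos_iff.1 (by omega : 0 < finrank F V)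
  by_cases hiso : ∃ u : V, u ≠ 0 ∧ Q u = 0
  · obtain ⟨u, hu0, hu⟩ := hiso
    obtain ⟨f, hf, huf⟩ := hQ.exists_partner hu0 hu
    exact ⟨u + c • f, by rw [map_add_polar, qmap_smul, polar_smul_right', hu, hf, huf]; ring⟩
  push Not at hiso
  obtain ⟨v, hv⟩ := exists_ne (0 : V)
  have hQv := hiso v hv
  by_cases h2 : (2 : F) = 0
  · obtain ⟨r, hr⟩ := isSquare_of_two_eq_zero h2 (c / Q v)
    exact ⟨r • v, by rw [qmap_smul, pow_two r, ← hr, div_mul_cancel₀ c hQv]⟩
  · obtain ⟨w, hw, hw0⟩ : ∃ w ∈ perp Q (Submodule.span F {v}), w ≠ 0 :=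
      Submodule.exists_mem_ne_zero_of_ne_bot fun h => by
        have := hQ.finrank_perp_singleton hv
        rw [h, finrank_bot] at this; omega
    rw [mem_perp_span_singleton] at hw
    obtain ⟨x, y, hxy⟩ := exists_sq_add_sq hQv (hiso w hw0) c
    refine ⟨x • v + y • w, ?_⟩
    simp only [map_add_polar, qmap_smul, polar_smul_left', polar_smul_right', hw]
    linear_combination hxy

/-- An anisotropic space over a finite field has dimension at most 2. -/
theorem finrank_le_two_of_aniso {W : Submodule F V}
    (hW : Nondeg (restr Q W)) (ha : Aniso Q W) : finrank F W ≤ 2 := by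
  by_contra hc
  obtain ⟨u, hu, hQu⟩ := hW.exists_singular (by omega)
  exact hu (Subtype.ext (ha u u.2 hQu))

end Finite

end Cfsg.Agent.Orthogonal
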