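import Cfsg.Agent.Orthogonal.Basic

/-!
Witt's extension theorem for quadratic forms with non-degenerate polar form (any field, any
characteristic), transitivity consequences, and totally singular subspaces.
-/

set_option autoImplicit false

namespace Cfsg.Agent.Orthogonal

open QuadraticMap Module

variable {F V : Type*} [Field F] [AddCommGroup V] [Module F V]
variable {Q : QuadraticForm F V}

/-- A linear map preserving `Q` is injective. -/
theorem Nondeg.injective_of_isometry (h : Nondeg Q) (f : V →ₗ[F] V) (hf : ∀ x, Q (f x) = Q x) :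
    Function.Injective f := by
  refine (injective_iff_map_eq_zero f).2 fun x hx => h x fun y => ?_
  have hp : polar Q (f x) (f y) = polar Q x y := by simp only [polar, ← map_add, hf]
  rw [← hp, hx, polar_zero_left]

/-- A linear endomorphism preserving `Q`, as an element of the orthogonal group. -/
noncomputable def Nondeg.ofLinear [FiniteDimensional F V] (h : Nondeg Q) (f : V →ₗ[F] V)
    (hf : ∀ x, Q (f x) = Q x) : O Q :=
  ⟨LinearEquiv.ofInjectiveEndo f (h.injective_of_isometry f hf), fun x => hf x⟩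

theorem Nondeg.ofLinear_app [FiniteDimensional F V] (h : Nondeg Q) (f : V →ₗ[F] V)
    (hf : ∀ x, Q (f x) = Q x) (x : V) : (h.ofLinear f hf : V ≃ₗ[F] V) x = f x := rfl

theorem exists_dual_ne_zero_two {H : Submodule F V} {x y : V} (hx : x ∉ H) (hy : y ∉ H) :
    ∃ l : V →ₗ[F] F, (∀ h ∈ H, l h = 0) ∧ l x ≠ 0 ∧ l y ≠ 0 := by
  obtain ⟨l₁, h₁, k₁⟩ := Submodule.exists_le_ker_of_notMem hx
  obtain ⟨l₂, h₂, k₂⟩ := Submodule.exists_le_ker_of_notMem hy
  have z₁ : ∀ h ∈ H, l₁ h = 0 := fun h hh => LinearMap.mem_ker.1 (k₁ hh)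
  have z₂ : ∀ h ∈ H, l₂ h = 0 := fun h hh => LinearMap.mem_ker.1 (k₂ hh)
  by_cases a : l₁ y = 0
  · by_cases b : l₂ x = 0
    · exact ⟨l₁ + l₂, fun h hh => by simp [z₁ h hh, z₂ h hh], by simp [b, h₁], by simp [a, h₂]⟩
    · exact ⟨l₂, z₂, b, h₂⟩
  · exact ⟨l₁, z₁, h₁, a⟩

/-- The extension step of Witt's theorem. -/
theorem witt_step [FiniteDimensional F V] (h : Nondeg Q) (H : Submodule F V) {x y : V}
    (hx : x ∉ H) (hy : y ∉ H) (hQ : Q y = Q x)
    (hB : ∀ k ∈ H, polar Q k y = polar Q k x) :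
    ∃ g : O Q, (∀ k ∈ H, (g : V ≃ₗ[F] V) k = k) ∧ (g : V ≃ₗ[F] V) x = y := by
  obtain ⟨p, rfl⟩ : ∃ p, y = x + p := ⟨y - x, by abel⟩
  have hpH : ∀ k ∈ H, polar Q k p = 0 := fun k hk => by
    simpa [polar_add_right] using hB k hk
  by_cases hp0 : p = 0
  · exact ⟨1, fun k _ => rfl, by simp [hp0]⟩
  by_cases hQp : Q p ≠ 0
  · refine ⟨rO Q (x - (x + p)), fun k hk => rO_fix ?_, rO_sub_swap hQ.symm ?_⟩
    · rw [sub_add_cancel_left, polar_neg_left, polar_comm, hpH k hk, neg_zero]
    · rwa [sub_add_cancel_left, QuadraticMap.map_neg]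
  push Not at hQp
  have hxp : polar Q x p = 0 := by
    rw [map_add_polar, hQp] at hQ; linear_combination hQ
  obtain ⟨l, hlH, hlx, hly⟩ := exists_dual_ne_zero_two hx hy
  obtain ⟨z, hQz, hpz⟩ := h.exists_partner hp0 hQp
  set y := x + p with hy'
  obtain ⟨w, hw⟩ := h.exists_repr (Q.polarBilin z - (l y)⁻¹ • l)
  have hwp : polar Q w p = l x / l y := by
    rw [hw]
    simp only [LinearMap.sub_apply, LinearMap.smul_apply, polarBilin_apply', smul_eq_mul]
    rw [polar_comm, hpz, eq_div_iff hly, sub_mul, mul_right_comm, inv_mul_cancel₀ hly, hy', map_add]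
    ring
  have hwp0 : polar Q w p ≠ 0 := by rw [hwp]; exact div_ne_zero hlx hly
  set z' := w + (-Q w / polar Q w p) • p with hz'
  have hQz' : Q z' = 0 := by
    rw [hz', map_add_polar, qmap_smul, hQp, polar_smul_right', div_mul_cancel₀ _ hwp0]; ring
  let β : V →ₗ[F] F := Q.polarBilin p
  let α : V →ₗ[F] F := (l x)⁻¹ • (l - l z • β)
  let f : V →ₗ[F] V := LinearMap.id + α.smulRight p + β.smulRight (z' - z)
  have hβ : ∀ v, β v = polar Q p v := fun _ => rfl
  have hα : ∀ v, α v = (l x)⁻¹ * (l v - l z * β v) := fun _ => rfl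
  have hyp : polar Q p y = 0 := by
    rw [hy', polar_add_right, polar_self', hQp, polar_comm, hxp]; ring
  have hdec : ∀ v, ∃ (k : V) (a b : F), polar Q p k = 0 ∧ l k = 0 ∧
      v = k + a • x + b • z ∧ f v = k + a • y + b • z' := by
    intro v
    refine ⟨v - α v • x - β v • z, α v, β v, ?_, ?_, by abel, ?_⟩
    · rw [polar_sub_right, polar_sub_right, polar_smul_right', polar_smul_right',
        polar_comm (⇑Q) p x, hxp, hpz, hβ]
      ring
    · rw [map_sub, map_sub, map_smul, map_smul, smul_eq_mul, smul_eq_mul, hα]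
      field_simp
      ring
    · simp only [f, hy', LinearMap.add_apply, LinearMap.id_apply, LinearMap.smulRight_apply,
        smul_add, smul_sub]
      abel
  have hQf : ∀ v, Q (f v) = Q v := by
    intro v
    obtain ⟨k, a, b, hpk, hlk, hv, hfv⟩ := hdec v
    have h1 : polar Q k y = polar Q k x := by
      rw [hy', polar_add_right, polar_comm (⇑Q) k p, hpk, add_zero]
    have hz'v : ∀ u, polar Q p u = 0 → polar Q z' u = polar Q z u - (l y)⁻¹ * l u := by
      intro u hu
      rw [hz', polar_add_left, polar_smul_left', hu, hw]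
      simp
    have h2 : polar Q k z' = polar Q k z := by
      rw [polar_comm, hz'v k hpk, hlk, polar_comm]; ring
    have h3 : polar Q y z' = polar Q x z := by
      rw [polar_comm, hz'v y hyp, inv_mul_cancel₀ hly, hy', polar_add_right,
        polar_comm (⇑Q) z p, hpz, polar_comm (⇑Q) z x]
      ring
    rw [hfv, hv]
    simp only [map_add_polar, qmap_smul, polar_add_left, polar_smul_left', polar_smul_right',
      hQ, hQz, hQz', h1, h2, h3]
  refine ⟨h.ofLinear f hQf, fun k hk => ?_, ?_⟩
  · have hb : β k = 0 := by rw [hβ, polar_comm]; exact hpH k hk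
    have ha : α k = 0 := by rw [hα, hlH k hk, hb]; ring
    rw [h.ofLinear_app]
    simp [f, ha, hb]
  · have hb : β x = 0 := by rw [hβ, polar_comm]; exact hxp
    have ha : α x = 1 := by rw [hα, hb, mul_zero, sub_zero, inv_mul_cancel₀ hlx]
    rw [h.ofLinear_app]
    simp [f, ha, hb, hy']

/-- **Witt's extension theorem**: an injective isometry from a subspace extends to the space. -/
theorem witt [FiniteDimensional F V] (h : Nondeg Q) (X : Submodule F V) (φ : X →ₗ[F] V)
    (hinj : Function.Injective φ) (hφ : ∀ x : X, Q (φ x) = Q (x : V)) :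
    ∃ g : O Q, ∀ x : X, (g : V ≃ₗ[F] V) x = φ x := by
  obtain ⟨n, hn⟩ : ∃ n, finrank F X = n := ⟨_, rfl⟩
  induction n generalizing X with
  | zero =>
    refine ⟨1, fun x => ?_⟩
    have : x = 0 := by
      have := Submodule.finrank_eq_zero.1 hn
      exact Subtype.ext ((Submodule.eq_bot_iff X).1 this x x.2)
    subst this; simp
  | succ n ih =>
    obtain ⟨x₀, hx₀⟩ : ∃ x : X, x ≠ 0 := by
      have : 0 < finrank F X := by omega
      have : Nontrivial X := Module.finrank_pos_iff.1 this
      exact exists_ne 0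
    obtain ⟨l₀, hl₀⟩ : ∃ l : X →ₗ[F] F, l x₀ = 1 := by
      obtain ⟨l, hl, -⟩ := Submodule.exists_le_ker_of_notMem
        (p := (⊥ : Submodule F X)) (v := x₀) (by simpa using hx₀)
      exact ⟨(l x₀)⁻¹ • l, by simp [hl]⟩
    set H : Submodule F V := (LinearMap.ker l₀).map X.subtype with hH
    have hHX : H ≤ X := Submodule.map_subtype_le X _
    have hmemH : ∀ x : X, (x : V) ∈ H ↔ l₀ x = 0 := fun x => by simp [hH]
    have hHn : finrank F H = n := by
      have h1 := LinearMap.finrank_range_add_finrank_ker l₀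
      have h2 : LinearMap.range l₀ = ⊤ := by
        refine LinearMap.range_eq_top.2 fun c => ⟨c • x₀, ?_⟩
        simp [hl₀]
      rw [h2, finrank_top, Module.finrank_self, hn] at h1
      rw [hH, Submodule.finrank_map_subtype_eq]
      omega
    obtain ⟨g, hg⟩ := ih H (φ.comp (Submodule.inclusion hHX))
      (hinj.comp (Submodule.inclusion_injective hHX)) (fun x => hφ _) hHn
    set y := ((g⁻¹ : O Q) : V ≃ₗ[F] V) (φ x₀) with hy
    have hgy : (g : V ≃ₗ[F] V) y = φ x₀ := by
      rw [hy, ← mul_app, ← Subgroup.coe_mul, mul_inv_cancel]; rfl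
    have hxH : (x₀ : V) ∉ H := by rw [hmemH, hl₀]; exact one_ne_zero
    have hyH : y ∉ H := fun hyH => by
      have h1 : φ ⟨y, hHX hyH⟩ = φ x₀ := (hg ⟨y, hyH⟩).symm.trans hgy
      exact hxH ((congrArg Subtype.val (hinj h1)) ▸ hyH)
    obtain ⟨r, hrH, hrx⟩ := witt_step h H hxH hyH
      (by rw [← O.map_app g y, hgy, hφ])
      (fun k hk => by
        have h1 : polar Q (φ ⟨k, hHX hk⟩) (φ x₀) = polar Q k x₀ := by
          simp only [polar, ← map_add, hφ]; rfl
        rw [← O.polar_app g, hgy, ← h1]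
        exact congrArg (polar Q · (φ x₀)) (hg ⟨k, hk⟩))
    refine ⟨g * r, fun x => ?_⟩
    have hk : ((x - l₀ x • x₀ : X) : V) ∈ H := by rw [hmemH]; simp [hl₀]
    have hsplit : x = (x - l₀ x • x₀) + l₀ x • x₀ := by abel
    rw [Subgroup.coe_mul, mul_app]
    calc (g : V ≃ₗ[F] V) ((r : V ≃ₗ[F] V) x)
        = (g : V ≃ₗ[F] V) ((r : V ≃ₗ[F] V) (((x - l₀ x • x₀ : X) : V) + l₀ x • (x₀ : V))) := by
          rw [← Submodule.coe_smul, ← Submodule.coe_add, ← hsplit]
      _ = (g : V ≃ₗ[F] V) ((x - l₀ x • x₀ : X) : V) + l₀ x • φ x₀ := by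
          rw [map_add, map_smul, hrH _ hk, hrx, map_add, map_smul, hgy]
      _ = φ (x - l₀ x • x₀) + l₀ x • φ x₀ := by
          congr 1
          exact hg ⟨_, hk⟩
      _ = φ x := by rw [← map_smul, ← map_add, ← hsplit]

/-- Two independent families with the same values of `Q` and of the polar form are related by an
isometry. -/
theorem exists_map_family [FiniteDimensional F V] (h : Nondeg Q) {ι : Type*} {v w : ι → V}
    (hv : LinearIndependent F v) (hw : LinearIndependent F w) (hQ : ∀ i, Q (w i) = Q (v i))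
    (hB : ∀ i j, i ≠ j → polar Q (w i) (w j) = polar Q (v i) (v j)) :
    ∃ g : O Q, ∀ i, (g : V ≃ₗ[F] V) (v i) = w i := by
  classical
  let X := Submodule.span F (Set.range v)
  let b : Module.Basis ι F X := Module.Basis.span hv
  let φ : X →ₗ[F] V := (Finsupp.linearCombination F w).comp b.repr.toLinearMap
  have hinj : Function.Injective φ := by
    have : Function.Injective (Finsupp.linearCombination F w) := hw
    exact this.comp b.repr.injective
  have hb : ∀ i, ((b i : X) : V) = v i := fun i =>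
    congrArg Subtype.val (Module.Basis.span_apply hv i)
  have hφb : ∀ i, φ (b i) = w i := fun i => by simp [φ]
  have hBB : ∀ i j, polar Q (w i) (w j) = polar Q (v i) (v j) := by
    intro i j
    by_cases hij : i = j
    · subst hij; rw [polar_self', polar_self', hQ]
    · exact hB i j hij
  have hpol : (Q.comp φ).polarBilin = (restr Q X).polarBilin := by
    refine LinearMap.BilinForm.ext_basis b fun i j => ?_
    rw [polarBilin_apply', polarBilin_apply', polar_restr, hb, hb, ← hBB]
    simp [polar, hφb]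
  have hq : ∀ x : X, Q (φ x) = Q (x : V) := by
    intro x
    induction b.mem_span x using Submodule.span_induction with
    | mem y hy =>
      obtain ⟨i, rfl⟩ := hy
      rw [hφb, hb, hQ]
    | zero => simp
    | add y z _ _ ay az =>
      have := LinearMap.congr_fun₂ hpol y z
      rw [polarBilin_apply', polarBilin_apply', polar_restr] at this
      rw [map_add, Submodule.coe_add, map_add_polar, map_add_polar, ay, az, ← this]
      simp [polar]
    | smul a y _ ay => rw [map_smul, Submodule.coe_smul, qmap_smul, qmap_smul, ay]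
  obtain ⟨g, hg⟩ := witt h X φ hinj hq
  exact ⟨g, fun i => by rw [← hb, hg, hφb]⟩

/-- The orthogonal group is transitive on the non-zero vectors of a given norm. -/
theorem exists_map_vec [FiniteDimensional F V] (h : Nondeg Q) {v w : V} (hv : v ≠ 0) (hw : w ≠ 0)
    (hQ : Q w = Q v) : ∃ g : O Q, (g : V ≃ₗ[F] V) v = w := by
  obtain ⟨g, hg⟩ := exists_map_family h (v := ![v]) (w := ![w])
    (linearIndependent_unique_iff.2 hv) (linearIndependent_unique_iff.2 hw)
    (fun i => by fin_cases i; exact hQ) (fun i j hij => absurd (Subsingleton.elim i j) hij)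
  exact ⟨g, hg 0⟩

/-- The orthogonal group is transitive on hyperbolic pairs. -/
theorem exists_map_pair [FiniteDimensional F V] (h : Nondeg Q) {u f u' f' : V} (hu : Q u = 0)
    (hf : Q f = 0) (huf : polar Q u f = 1) (hu' : Q u' = 0) (hf' : Q f' = 0)
    (huf' : polar Q u' f' = 1) :
    ∃ g : O Q, (g : V ≃ₗ[F] V) u = u' ∧ (g : V ≃ₗ[F] V) f = f' := by
  obtain ⟨g, hg⟩ := exists_map_family h (linearIndependent_hyperbolic_pair hu hf huf)
    (linearIndependent_hyperbolic_pair hu' hf' huf')
    (fun i => by fin_cases i <;> simp [hu, hf, hu', hf'])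
    (fun i j hij => by
      fin_cases i <;> fin_cases j <;>
        simp_all [polar_comm (⇑Q) f u, polar_comm (⇑Q) f' u'])
  exact ⟨g, hg 0, hg 1⟩

/-! ### Totally singular subspaces -/

/-- `Q` vanishes on `W`. -/
def TotSing (Q : QuadraticForm F V) (W : Submodule F V) : Prop := ∀ w ∈ W, Q w = 0

theorem TotSing.polar_eq {W : Submodule F V} (hW : TotSing Q W) {x y : V} (hx : x ∈ W)
    (hy : y ∈ W) : polar Q x y = 0 := by
  have := hW _ (W.add_mem hx hy)
  rw [map_add_polar, hW x hx, hW y hy] at this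
  simpa using this

theorem TotSing.le_perp {W : Submodule F V} (hW : TotSing Q W) : W ≤ perp Q W :=
  fun _ hx _ hw => hW.polar_eq hw hx

theorem TotSing.two_mul_finrank_le [FiniteDimensional F V] (h : Nondeg Q) {W : Submodule F V}
    (hW : TotSing Q W) : 2 * finrank F W ≤ finrank F V := by
  have h1 := Submodule.finrank_mono hW.le_perp
  have h2 := h.finrank_add_perp W
  omega

/-- A totally singular subspace maps isometrically into any other of at least its dimension. -/
theorem TotSing.exists_map_le [FiniteDimensional F V] (h : Nondeg Q) {W W' : Submodule F V}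
    (hW : TotSing Q W) (hW' : TotSing Q W') (hle : finrank F W ≤ finrank F W') :
    ∃ g : O Q, W.map ((g : V ≃ₗ[F] V) : V →ₗ[F] V) ≤ W' := by
  obtain ⟨ψ, hψ⟩ : ∃ ψ : W →ₗ[F] W', Function.Injective ψ := by
    refine ⟨(Finsupp.linearCombination F (fun i => Module.finBasis F W' (Fin.castLE hle i))).comp
      (Module.finBasis F W).repr.toLinearMap, ?_⟩
    have : Function.Injective
        (Finsupp.linearCombination F (fun i => Module.finBasis F W' (Fin.castLE hle i))) :=
      (Module.finBasis F W').linearIndependent.comp _ (Fin.castLE_injective hle)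
    exact this.comp (Module.finBasis F W).repr.injective
  obtain ⟨g, hg⟩ := witt h W (W'.subtype.comp ψ) (W'.injective_subtype.comp hψ)
    (fun x => by rw [hW x x.2]; exact hW' _ (ψ x).2)
  refine ⟨g, ?_⟩
  rintro - ⟨x, hx, rfl⟩
  have h1 : (g : V ≃ₗ[F] V) x = (ψ ⟨x, hx⟩ : V) := hg ⟨x, hx⟩
  rw [LinearEquiv.coe_coe, h1]
  exact (ψ ⟨x, hx⟩).2

theorem TotSing.map {W : Submodule F V} (hW : TotSing Q W) (g : O Q) :
    TotSing Q (W.map ((g : V ≃ₗ[F] V) : V →ₗ[F] V)) := by
  rintro - ⟨x, hx, rfl⟩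
  rw [LinearEquiv.coe_coe, O.map_app]; exact hW x hx

/-- Maximal totally singular subspaces all have the same dimension. -/
theorem TotSing.finrank_eq_of_maximal [FiniteDimensional F V] (h : Nondeg Q)
    {W₁ W₂ : Submodule F V} (h₁ : TotSing Q W₁) (h₂ : TotSing Q W₂)
    (hmax₁ : ∀ W, W₁ ≤ W → TotSing Q W → W = W₁) (hmax₂ : ∀ W, W₂ ≤ W → TotSing Q W → W = W₂) :
    finrank F W₁ = finrank F W₂ := by
  wlog hle : finrank F W₁ ≤ finrank F W₂ generalizing W₁ W₂
  · exact (this h₂ h₁ hmax₂ hmax₁ (by omega)).symm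
  obtain ⟨g, hg⟩ := h₁.exists_map_le h h₂ hle
  have hback : W₁ ≤ W₂.map (((g⁻¹ : O Q) : V ≃ₗ[F] V) : V →ₗ[F] V) := fun x hx => by
    refine ⟨(g : V ≃ₗ[F] V) x, hg ⟨x, hx, rfl⟩, ?_⟩
    rw [LinearEquiv.coe_coe, ← mul_app, ← Subgroup.coe_mul, inv_mul_cancel]; rfl
  have := hmax₁ _ hback (h₂.map g⁻¹)
  rw [← this, LinearEquiv.finrank_map_eq]

end Cfsg.Agent.Orthogonal
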