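import Cfsg.Agent.Orthogonal.Eichler

/-!
Simplicity of the commutator subgroup of the orthogonal group modulo its centre, in dimension at
least five over a finite field.
-/

set_option autoImplicit false

namespace Cfsg.Agent.Orthogonal

open QuadraticMap Module
open scoped commutatorElement

variable {F V : Type*} [Field F] [AddCommGroup V] [Module F V]
variable {Q : QuadraticForm F V}

/-- Some element of `N` maps the line of `x` to the line of `y`. -/
def SameOrbit (N : Subgroup (O Q)) (x y : V) : Prop :=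
  ∃ n ∈ N, ∃ s : F, s ≠ 0 ∧ (n : V ≃ₗ[F] V) x = s • y

theorem SameOrbit.refl (N : Subgroup (O Q)) (x : V) : SameOrbit N x x :=
  ⟨1, one_mem N, 1, one_ne_zero, (one_smul F x).symm⟩

theorem SameOrbit.symm {N : Subgroup (O Q)} {x y : V} (h : SameOrbit N x y) : SameOrbit N y x := by
  obtain ⟨n, hn, s, hs, hxy⟩ := h
  refine ⟨n⁻¹, inv_mem hn, s⁻¹, inv_ne_zero hs, ?_⟩
  have := congrArg (((n⁻¹ : O Q) : V ≃ₗ[F] V)) hxy
  rw [← mul_app, ← Subgroup.coe_mul, inv_mul_cancel, map_smul] at this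
  rw [eq_inv_smul_iff₀ hs, ← this]; rfl

theorem SameOrbit.trans {N : Subgroup (O Q)} {x y z : V} (h : SameOrbit N x y)
    (h' : SameOrbit N y z) : SameOrbit N x z := by
  obtain ⟨n, hn, s, hs, h1⟩ := h
  obtain ⟨n', hn', s', hs', h2⟩ := h'
  exact ⟨n' * n, mul_mem hn' hn, s * s', mul_ne_zero hs hs', by
    rw [Subgroup.coe_mul, mul_app, h1, map_smul, h2, smul_smul]⟩

variable [FiniteDimensional F V]

/-- The orbit relation is stable under the Eichler group. -/
theorem SameOrbit.move {N : Subgroup (O Q)}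
    (hN : ∀ g ∈ sieGroup Q, ∀ n ∈ N, g * n * g⁻¹ ∈ N) {x y : V} (h : SameOrbit N x y) {g : O Q}
    (hg : g ∈ sieGroup Q) : SameOrbit N ((g : V ≃ₗ[F] V) x) ((g : V ≃ₗ[F] V) y) := by
  obtain ⟨n, hn, s, hs, hxy⟩ := h
  refine ⟨g * n * g⁻¹, hN g hg n hn, s, hs, ?_⟩
  simp only [Subgroup.coe_mul, mul_app]
  have : ((g⁻¹ : O Q) : V ≃ₗ[F] V) ((g : V ≃ₗ[F] V) x) = x := by
    rw [← mul_app, ← Subgroup.coe_mul, inv_mul_cancel]; rfl
  rw [this, hxy, map_smul]

theorem SameOrbit.smul_right {N : Subgroup (O Q)} {x y : V} (h : SameOrbit N x y) {c : F}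
    (hc : c ≠ 0) : SameOrbit N x (c • y) := by
  obtain ⟨n, hn, s, hs, hxy⟩ := h
  exact ⟨n, hn, s / c, div_ne_zero hs hc, by rw [hxy, smul_smul, div_mul_cancel₀ _ hc]⟩

theorem SameOrbit.of_smul_right {N : Subgroup (O Q)} {x y : V} {c : F} (h : SameOrbit N x (c • y))
    (hc : c ≠ 0) : SameOrbit N x y := by
  simpa [smul_smul, inv_mul_cancel₀ hc] using h.smul_right (inv_ne_zero hc)

variable [Finite F]

theorem exists_singular_perp (hQ : Nondeg Q) (hn : 5 ≤ finrank F V) {x v : V} (hx : Q x = 0)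
    (hv : Q v = 0) (hxv : polar Q x v ≠ 0) :
    ∃ a, a ≠ 0 ∧ Q a = 0 ∧ polar Q x a = 0 ∧ polar Q v a = 0 ∧
      a ∉ Submodule.span F {x} ∧ a ∉ Submodule.span F {v} := by
  set c := polar Q x v
  have hv' : Q (c⁻¹ • v) = 0 := by rw [qmap_smul, hv, mul_zero]
  have hxv' : polar Q x (c⁻¹ • v) = 1 := by rw [polar_smul_right', inv_mul_cancel₀ hxv]
  have hW := hQ.nondeg_hyperbolic_perp hx hv' hxv'
  have hWr := hQ.finrank_hyperbolic_perp hx hv' hxv'
  obtain ⟨a, ha0, ha⟩ := hW.exists_singular (by omega)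
  have hap := (mem_perp_span_pair Q).1 a.2
  have hva : polar Q v (a : V) = 0 := by
    have := hap.2
    rw [polar_smul_left'] at this
    exact (mul_eq_zero.1 this).resolve_left (inv_ne_zero hxv)
  have ha' : (a : V) ≠ 0 := fun h => ha0 (Subtype.ext h)
  refine ⟨a, ha', ha, hap.1, hva, fun h => ?_, fun h => ?_⟩
  · obtain ⟨t, ht⟩ := Submodule.mem_span_singleton.1 h
    rw [← ht, polar_smul_right', polar_comm (⇑Q) v x] at hva
    exact ha' (by rw [← ht, (mul_eq_zero.1 hva).resolve_right hxv, zero_smul])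
  · obtain ⟨t, ht⟩ := Submodule.mem_span_singleton.1 h
    have := hap.1
    rw [← ht, polar_smul_right'] at this
    exact ha' (by rw [← ht, (mul_eq_zero.1 this).resolve_right hxv, zero_smul])

/-- Transitivity of the stabiliser of a singular point on the points not orthogonal to it. -/
theorem SameOrbit.of_not_perp (hQ : Nondeg Q) {N : Subgroup (O Q)}
    (hN : ∀ g ∈ sieGroup Q, ∀ n ∈ N, g * n * g⁻¹ ∈ N) {x v v' : V} (hx : Q x = 0) (hv : Q v = 0)
    (hv' : Q v' = 0) (h1 : polar Q x v ≠ 0) (h2 : polar Q x v' ≠ 0) (h : SameOrbit N x v) :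
    SameOrbit N x v' := by
  obtain ⟨g, hg, hgv, hgx, -⟩ := exists_sie_partner (u := (polar Q x v)⁻¹ • v)
    (v := (polar Q x v')⁻¹ • v') (f := x) (by rw [qmap_smul, hv, mul_zero])
    (by rw [qmap_smul, hv', mul_zero]) hx
    (by rw [polar_smul_left', polar_comm (⇑Q) v x, inv_mul_cancel₀ h1])
    (by rw [polar_smul_left', polar_comm (⇑Q) v' x, inv_mul_cancel₀ h2])
  have := (h.smul_right (inv_ne_zero h1)).move hN hg
  rw [hgv, hgx] at this
  exact this.of_smul_right (inv_ne_zero h2)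

/-- Transitivity of the stabiliser of a singular point on the other points orthogonal to it. -/
theorem SameOrbit.of_perp (hQ : Nondeg Q) (hn : 5 ≤ finrank F V) {N : Subgroup (O Q)}
    (hN : ∀ g ∈ sieGroup Q, ∀ n ∈ N, g * n * g⁻¹ ∈ N) {x a a' : V} (hx0 : x ≠ 0) (hx : Q x = 0)
    (ha : Q a = 0) (ha' : Q a' = 0) (h1 : polar Q x a = 0) (h2 : polar Q x a' = 0)
    (hax : a ∉ Submodule.span F {x}) (hax' : a' ∉ Submodule.span F {x}) (h : SameOrbit N x a) :
    SameOrbit N x a' := by
  obtain ⟨f, hf, hxf⟩ := hQ.exists_partner hx0 hx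
  have hW := hQ.nondeg_hyperbolic_perp hx hf hxf
  have hWr := hQ.finrank_hyperbolic_perp hx hf hxf
  have move1 : ∀ a : V, Q a = 0 → polar Q x a = 0 → a ∉ Submodule.span F {x} →
      ∃ g ∈ sieGroup Q, ∃ w : perp Q (Submodule.span F {x, f}), w ≠ 0 ∧ Q (w : V) = 0 ∧
        (g : V ≃ₗ[F] V) x = x ∧ (g : V ≃ₗ[F] V) a = w := by
    intro a ha h1 hax
    set c := polar Q f a with hc
    have hw : a - c • x ∈ perp Q (Submodule.span F {x, f}) := by
      rw [mem_perp_span_pair, polar_sub_right, polar_sub_right, polar_smul_right',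
        polar_smul_right', polar_self', hx, h1, polar_comm (⇑Q) f x, hxf, ← hc]
      constructor <;> ring
    have hw0 : (⟨a - c • x, hw⟩ : perp Q (Submodule.span F {x, f})) ≠ 0 := fun h0 => hax (by
      have : a = c • x := sub_eq_zero.1 (congrArg Subtype.val h0)
      rw [this]; exact Submodule.smul_mem _ _ (Submodule.mem_span_singleton_self x))
    obtain ⟨z, hz⟩ := hW.exists_polar_eq hw0 (-c)
    rw [polar_restr] at hz
    have hzp := (mem_perp_span_pair Q).1 z.2
    refine ⟨_, sie_mem hx hzp.1, ⟨a - c • x, hw⟩, hw0, ?_, sie_fix hx hzp.1, ?_⟩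
    · simp only [qmap_sub, qmap_smul, polar_smul_right', polar_comm (⇑Q) a x, h1, ha, hx]; ring
    · rw [sie_app, h1, zero_smul, sub_zero, mul_zero, sub_zero]
      change polar Q (a - c • x) (z : V) = -c at hz
      rw [polar_sub_left, polar_smul_left', hzp.1, mul_zero, sub_zero, polar_comm] at hz
      rw [hz, neg_smul, ← sub_eq_add_neg]
  obtain ⟨g, hg, w, hw0, hQw, hgx, hga⟩ := move1 a ha h1 hax
  obtain ⟨g', hg', w', hw0', hQw', hgx', hga'⟩ := move1 a' ha' h2 hax'
  obtain ⟨k, hk, hk1, hk2⟩ := exists_common_partner hW (by omega) hw0 hw0' hQw hQw'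
  rw [restr_apply] at hk
  rw [polar_restr] at hk1 hk2
  obtain ⟨t, ht, htw, -, htfix⟩ := exists_sie_partner (u := (polar Q (w : V) k)⁻¹ • (w : V))
    (v := (polar Q (w' : V) k)⁻¹ • (w' : V)) (f := (k : V)) (by rw [qmap_smul, hQw, mul_zero])
    (by rw [qmap_smul, hQw', mul_zero]) hk (by rw [polar_smul_left', inv_mul_cancel₀ hk1])
    (by rw [polar_smul_left', inv_mul_cancel₀ hk2])
  have hperpx : ∀ z : perp Q (Submodule.span F {x, f}), polar Q (z : V) x = 0 := fun z => by
    rw [polar_comm]; exact ((mem_perp_span_pair Q).1 z.2).1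
  have htx : (t : V ≃ₗ[F] V) x = x := htfix x (by rw [polar_smul_left', hperpx, mul_zero])
    (by rw [polar_smul_left', hperpx, mul_zero]) (hperpx k)
  have e1 := h.move hN hg
  rw [hgx, hga] at e1
  have e2 := (e1.smul_right (inv_ne_zero hk1)).move hN ht
  rw [htx, htw] at e2
  have e3 := (e2.of_smul_right (inv_ne_zero hk2)).move hN (inv_mem hg')
  have hi : ∀ z y, (g' : V ≃ₗ[F] V) z = y → ((g'⁻¹ : O Q) : V ≃ₗ[F] V) y = z := fun z y hzy => by
    rw [← hzy, ← mul_app, ← Subgroup.coe_mul, inv_mul_cancel]; rfl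
  rwa [hi x x hgx', hi a' w' hga'] at e3

/-- A non-scalar normal subgroup of the Eichler group moves every singular point to every other. -/
theorem sameOrbit_all (hQ : Nondeg Q) (hn : 5 ≤ finrank F V) {N : Subgroup (O Q)}
    (hN : ∀ g ∈ sieGroup Q, ∀ n ∈ N, g * n * g⁻¹ ∈ N) {x y : V} (hx0 : x ≠ 0) (hx : Q x = 0)
    (hy : Q y = 0) (hyx : y ∉ Submodule.span F {x}) (h : SameOrbit N x y)
    {z : V} (hz0 : z ≠ 0) (hz : Q z = 0) : SameOrbit N x z := by
  by_cases hxy : polar Q x y = 0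
  · -- all points orthogonal to `x` are in the orbit
    have hperp : ∀ b, Q b = 0 → polar Q x b = 0 → b ∉ Submodule.span F {x} → SameOrbit N x b :=
      fun b hb h1 h2 => h.of_perp hQ hn hN hx0 hx hy hb hxy h1 hyx h2
    by_cases hxz : polar Q x z = 0
    · by_cases hzx : z ∈ Submodule.span F {x}
      · obtain ⟨c, rfl⟩ := Submodule.mem_span_singleton.1 hzx
        exact (SameOrbit.refl N x).smul_right (left_ne_zero_of_smul hz0)
      · exact hperp z hz hxz hzx
    · obtain ⟨a, ha0, ha, hxa, hza, hax, haz⟩ := exists_singular_perp hQ hn hx hz hxz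
      have e1 := hperp a ha hxa hax
      have hxa' : x ∉ Submodule.span F {a} := fun hmem => by
        obtain ⟨c, hc⟩ := Submodule.mem_span_singleton.1 hmem
        apply hax
        have hc0 : c ≠ 0 := fun h0 => hx0 (by rw [← hc, h0, zero_smul])
        exact Submodule.mem_span_singleton.2 ⟨c⁻¹, by rw [← hc, inv_smul_smul₀ hc0]⟩
      have hza' : z ∉ Submodule.span F {a} := fun hmem => by
        obtain ⟨c, hc⟩ := Submodule.mem_span_singleton.1 hmem
        apply hxz
        rw [← hc, polar_smul_right', hxa, mul_zero]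
      exact e1.trans (e1.symm.of_perp hQ hn hN ha0 ha hx hz (by rw [polar_comm]; exact hxa)
        (by rw [polar_comm]; exact hza) hxa' hza')
  · have hnp : ∀ b, Q b = 0 → polar Q x b ≠ 0 → SameOrbit N x b :=
      fun b hb h1 => h.of_not_perp hQ hN hx hy hb hxy h1
    by_cases hxz : polar Q x z = 0
    · obtain ⟨k, hk, hk1, hk2⟩ := exists_common_partner hQ (by omega) hx0 hz0 hx hz
      have e1 := hnp k hk hk1
      exact e1.trans (e1.symm.of_not_perp hQ hN hk hx hz (by rw [polar_comm]; exact hk1)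
        (by rw [polar_comm]; exact hk2))
    · exact hnp z hz hxz

/-- Singular vectors span. -/
theorem span_singular (hQ : Nondeg Q) (hn : 3 ≤ finrank F V) (S : Submodule F V)
    (h : ∀ x, Q x = 0 → x ∈ S) : S = ⊤ := by
  obtain ⟨a, ha0, ha⟩ := hQ.exists_singular hn
  obtain ⟨a', ha', haa'⟩ := hQ.exists_partner ha0 ha
  refine eq_top_iff.2 fun z _ => ?_
  set p := polar Q a' z
  set q' := polar Q a z
  set k := z - p • a - q' • a' with hk
  have hka : polar Q a k = 0 := by
    simp only [hk, q', polar_sub_right, polar_smul_right', polar_self', ha, haa']; ring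
  have hka' : polar Q a' k = 0 := by
    simp only [hk, p, polar_sub_right, polar_smul_right', polar_self', ha',
      polar_comm (⇑Q) a' a, haa']; ring
  have hs1 : Q (k + a' + (-Q k) • a) = 0 := by
    simp only [map_add_polar, qmap_smul, polar_add_left, polar_smul_right', ha, ha',
      polar_comm (⇑Q) k a', hka', polar_comm (⇑Q) k a, hka, polar_comm (⇑Q) a' a, haa']
    ring
  have hkS : k ∈ S := by
    have := S.sub_mem (S.sub_mem (h _ hs1) (h a' ha')) (S.smul_mem (-Q k) (h a ha))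
    convert this using 1; abel
  have := S.add_mem (S.add_mem hkS (S.smul_mem p (h a ha))) (S.smul_mem q' (h a' ha'))
  convert this using 1
  rw [hk]; abel

/-- An isometry fixing every singular point is a scalar. -/
theorem exists_scalar_of_fix_points (hQ : Nondeg Q) (hn : 5 ≤ finrank F V) (g : O Q)
    (hg : ∀ x, x ≠ 0 → Q x = 0 → (g : V ≃ₗ[F] V) x ∈ Submodule.span F {x}) :
    ∃ s : F, ∀ x, (g : V ≃ₗ[F] V) x = s • x := by
  obtain ⟨x₀, hx₀, hQx₀⟩ := hQ.exists_singular (by omega)
  obtain ⟨s, hs⟩ := Submodule.mem_span_singleton.1 (hg x₀ hx₀ hQx₀)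
  refine ⟨s, ?_⟩
  -- equal scalars on independent orthogonal singular vectors
  have hperp : ∀ x a, x ≠ 0 → Q x = 0 → Q a = 0 → polar Q x a = 0 →
      a ∉ Submodule.span F {x} → (g : V ≃ₗ[F] V) x = s • x → (g : V ≃ₗ[F] V) a = s • a := by
    intro x a hx0 hx ha hxa hax hgx
    have hsum : x + a ≠ 0 := fun h0 => hax (by
      rw [eq_neg_of_add_eq_zero_right h0]
      exact Submodule.neg_mem _ (Submodule.mem_span_singleton_self x))
    have ha0 : a ≠ 0 := fun h0 => hax (by rw [h0]; exact Submodule.zero_mem _)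
    obtain ⟨t, ht⟩ := Submodule.mem_span_singleton.1
      (hg (x + a) hsum (by rw [map_add_polar, hx, ha, hxa]; ring))
    obtain ⟨r, hr⟩ := Submodule.mem_span_singleton.1 (hg a ha0 ha)
    rw [map_add, hgx, ← hr, smul_add] at ht
    have hli : ∀ p q : F, p • x + q • a = 0 → q = 0 := fun p q hpq => by
      by_contra hq
      exact hax (Submodule.mem_span_singleton.2 ⟨-(q⁻¹ * p), by
        rw [neg_smul, mul_smul, eq_neg_of_add_eq_zero_left hpq, smul_neg, neg_neg,
          inv_smul_smul₀ hq]⟩)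
    have e1 : r = t := by
      have := hli (t - s) (t - r) (by rw [sub_smul, sub_smul]; linear_combination (norm := module) ht)
      linear_combination -this
    have e2 : t = s := by
      have : (t - s) • x = 0 := by
        subst e1; rw [sub_smul]; linear_combination (norm := module) ht
      exact sub_eq_zero.1 ((smul_eq_zero.1 this).resolve_right hx0)
    rw [← hr, e1, e2]
  have hall : ∀ z, z ≠ 0 → Q z = 0 → (g : V ≃ₗ[F] V) z = s • z := by
    intro z hz0 hz
    by_cases hzx : z ∈ Submodule.span F {x₀}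
    · obtain ⟨c, rfl⟩ := Submodule.mem_span_singleton.1 hzx
      rw [map_smul, ← hs, smul_comm]
    by_cases hp : polar Q x₀ z = 0
    · exact hperp x₀ z hx₀ hQx₀ hz hp hzx hs.symm
    · obtain ⟨a, ha0, ha, hxa, hza, hax, haz⟩ := exists_singular_perp hQ hn hQx₀ hz hp
      have e := hperp x₀ a hx₀ hQx₀ ha hxa hax hs.symm
      refine hperp a z ha0 ha hz (by rw [polar_comm]; exact hza) (fun hmem => ?_) e
      obtain ⟨c, hc⟩ := Submodule.mem_span_singleton.1 hmem
      exact hp (by rw [← hc, polar_smul_right', hxa, mul_zero])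
  have := span_singular hQ (by omega)
    (LinearMap.eqLocus ((g : V ≃ₗ[F] V) : V →ₗ[F] V) (s • LinearMap.id)) (fun x hx => by
      by_cases hx0 : x = 0
      · subst hx0; simp
      · exact hall x hx0 hx)
  intro x
  have hx : x ∈ LinearMap.eqLocus ((g : V ≃ₗ[F] V) : V →ₗ[F] V) (s • LinearMap.id) := by
    rw [this]; trivial
  exact hx

/-- If every generator of a group is conjugate, by an element of the normal subgroup `N`, into a
commutative set, then all commutators lie in `N`. -/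
theorem commutator_mem_of_generators {H : Type*} [Group H] {S : Set H} (N : Subgroup H)
    (hle : N ≤ Subgroup.closure S) (hN : ∀ g ∈ Subgroup.closure S, ∀ n ∈ N, g * n * g⁻¹ ∈ N)
    (T : Set H) (hT : ∀ t ∈ T, t ∈ Subgroup.closure S) (hTc : ∀ t ∈ T, ∀ t' ∈ T, t * t' = t' * t)
    (hS : ∀ s ∈ S, ∃ n ∈ N, ∃ t ∈ T, s = n * t * n⁻¹) :
    ∀ g ∈ Subgroup.closure S, ∀ h ∈ Subgroup.closure S, ⁅g, h⁆ ∈ N := by
  set G := Subgroup.closure S with hG
  have hNn : (N.subgroupOf G).Normal := ⟨fun n hn g => hN g g.2 n hn⟩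
  set π := QuotientGroup.mk' (N.subgroupOf G)
  have hgen : ∀ g : G, (g : H) ∈ S → ∃ t : G, (t : H) ∈ T ∧ π g = π t := by
    intro g hg
    obtain ⟨n, hn, t, ht, he⟩ := hS g hg
    refine ⟨⟨t, hT t ht⟩, ht, ?_⟩
    have h1 : π ⟨n, hle hn⟩ = 1 := (QuotientGroup.eq_one_iff (N := N.subgroupOf G) _).2 hn
    have h2 : g = ⟨n, hle hn⟩ * ⟨t, hT t ht⟩ * (⟨n, hle hn⟩ : G)⁻¹ := Subtype.ext he
    rw [h2, map_mul, map_mul, map_inv, h1, one_mul, inv_one, mul_one]
  have hcomm : ∀ g h : G, π g * π h = π h * π g := by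
    intro g h
    obtain ⟨g, hg⟩ := g
    obtain ⟨h, hh⟩ := h
    induction hh using Subgroup.closure_induction with
    | mem b hb =>
      induction hg using Subgroup.closure_induction with
      | mem a ha =>
        obtain ⟨t, ht, e1⟩ := hgen ⟨a, Subgroup.subset_closure ha⟩ ha
        obtain ⟨t', ht', e2⟩ := hgen ⟨b, Subgroup.subset_closure hb⟩ hb
        rw [e1, e2, ← map_mul, ← map_mul]
        exact congrArg π (Subtype.ext (hTc _ ht _ ht'))
      | one => change π 1 * _ = _ * π 1; simp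
      | mul a c hA hC ha hc =>
        change π (⟨a, hA⟩ * ⟨c, hC⟩) * _ = _ * π (⟨a, hA⟩ * ⟨c, hC⟩)
        rw [map_mul]
        exact Commute.mul_left ha hc
      | inv a hA ha =>
        change π (⟨a, hA⟩⁻¹) * _ = _ * π (⟨a, hA⟩⁻¹)
        rw [map_inv]
        exact Commute.inv_left ha
    | one => change _ * π 1 = π 1 * _; simp
    | mul a c hA hC ha hc =>
      change _ * π (⟨a, hA⟩ * ⟨c, hC⟩) = π (⟨a, hA⟩ * ⟨c, hC⟩) * _
      rw [map_mul]
      exact Commute.mul_right ha hc
    | inv a hA ha =>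
      change _ * π (⟨a, hA⟩⁻¹) = π (⟨a, hA⟩⁻¹) * _
      rw [map_inv]
      exact Commute.inv_right ha
  intro g hg h hh
  have : π ⁅(⟨g, hg⟩ : G), ⟨h, hh⟩⁆ = 1 := by
    rw [map_commutatorElement, commutatorElement_eq_one_iff_mul_comm]
    exact hcomm _ _
  exact (QuotientGroup.eq_one_iff (N := N.subgroupOf G) ⁅(⟨g, hg⟩ : G), ⟨h, hh⟩⁆).1 this

/-- A normal subgroup of the commutator subgroup consists of scalars or is everything. -/
theorem normal_cases (hQ : Nondeg Q) (hn : 5 ≤ finrank F V) (N : Subgroup (O Q))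
    (hle : N ≤ commutator (O Q))
    (hN : ∀ g ∈ commutator (O Q), ∀ n ∈ N, g * n * g⁻¹ ∈ N) :
    (∀ n ∈ N, ∃ s : F, ∀ x, (n : V ≃ₗ[F] V) x = s • x) ∨ N = commutator (O Q) := by
  rw [← sieGroup_eq_commutator hQ hn] at hle hN ⊢
  by_cases hfix : ∀ n ∈ N, ∀ x, x ≠ 0 → Q x = 0 → (n : V ≃ₗ[F] V) x ∈ Submodule.span F {x}
  · exact Or.inl fun n hn' => exists_scalar_of_fix_points hQ hn n (hfix n hn')
  right
  push Not at hfix
  obtain ⟨n₀, hn₀, x, hx0, hx, hnx⟩ := hfix
  have hall : ∀ z, z ≠ 0 → Q z = 0 → SameOrbit N x z := fun z hz0 hz =>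
    sameOrbit_all hQ hn hN hx0 hx (by rw [O.map_app]; exact hx) hnx
      ⟨n₀, hn₀, 1, one_ne_zero, (one_smul F _).symm⟩ hz0 hz
  refine le_antisymm hle ?_
  refine sieGroup_le_of_commutators hQ hn N fun g hg h hh => ?_
  refine commutator_mem_of_generators N hle hN {t | ∃ (z : V) (hz : polar Q x z = 0), t = sie x z hx hz}
    ?_ ?_ ?_ g hg h hh
  · rintro - ⟨z, hz, rfl⟩
    exact sie_mem hx hz
  · rintro - ⟨z, hz, rfl⟩ - ⟨z', hz', rfl⟩
    rw [sie_mul, sie_mul]
    exact sie_congr _ _ _ _ rfl (add_comm z z')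
  · rintro - ⟨u, w, hu, hw, rfl⟩
    by_cases hu0 : u = 0
    · subst hu0
      refine ⟨1, one_mem N, sie x 0 hx (polar_zero_right (Q := Q) x), ⟨0, _, rfl⟩, ?_⟩
      rw [one_mul, inv_one, mul_one]
      refine O.ext_app fun y => ?_
      rw [sie_app, sie_app, polar_zero_left]
      simp
    obtain ⟨n, hn', s, hs, hnu⟩ := hall u hu0 hu
    set y := ((n⁻¹ : O Q) : V ≃ₗ[F] V) (s⁻¹ • w) with hy
    have hny : (n : V ≃ₗ[F] V) y = s⁻¹ • w := by
      rw [hy, ← mul_app, ← Subgroup.coe_mul, mul_inv_cancel]; rfl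
    have hxy : polar Q x y = 0 := by
      rw [← O.polar_app n, hny, hnu, polar_smul_left', polar_smul_right', hw]; ring
    have a1 : Q (s • u) = 0 := by rw [qmap_smul, hu, mul_zero]
    have a2 : polar Q (s • u) (s⁻¹ • w) = 0 := by
      rw [polar_smul_left', polar_smul_right', hw]; ring
    have a3 : polar Q u (s⁻¹ • w) = 0 := by rw [polar_smul_right', hw, mul_zero]
    refine ⟨n, hn', sie x y hx hxy, ⟨y, hxy, rfl⟩, ?_⟩
    rw [sie_conj, sie_congr (u' := s • u) (w' := s⁻¹ • w)
      (by rw [O.map_app]; exact hx) (by rw [O.polar_app]; exact hxy) a1 a2 hnu hny,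
      sie_smul hu a3 s]
    exact sie_congr hu hw hu (by rw [smul_inv_smul₀ hs]; exact hw) rfl (smul_inv_smul₀ hs w).symm

omit [Finite F] in
theorem exists_sie_not_scalar (hQ : Nondeg Q) {u : V} (hu0 : u ≠ 0) (hu : Q u = 0)
    (hn : 3 ≤ finrank F V) :
    ∃ g ∈ sieGroup Q, ¬ ∃ s : F, ∀ x, (g : V ≃ₗ[F] V) x = s • x := by
  obtain ⟨f, hf, huf⟩ := hQ.exists_partner hu0 hu
  have hWr := hQ.finrank_hyperbolic_perp hu hf huf
  obtain ⟨w, hw, hw0⟩ : ∃ w ∈ perp Q (Submodule.span F {u, f}), w ≠ 0 :=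
    Submodule.exists_mem_ne_zero_of_ne_bot fun h => by rw [h, finrank_bot] at hWr; omega
  have hwp := (mem_perp_span_pair Q).1 hw
  refine ⟨_, sie_mem hu hwp.1, ?_⟩
  rintro ⟨s, hs⟩
  have h1 := hs u
  rw [sie_fix] at h1
  have hs1 : (1 - s) • u = 0 := by rw [sub_smul, one_smul, ← h1, sub_self]
  obtain rfl : s = 1 := (sub_eq_zero.1 ((smul_eq_zero.1 hs1).resolve_right hu0)).symm
  have h2 := hs f
  rw [sie_app, polar_comm (⇑Q) w f, hwp.2, huf, one_smul, mul_one, zero_sub, one_smul] at h2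
  have h3 : w = -Q w • u := by linear_combination (norm := module) (-1 : F) • h2
  have h4 : Q w = 0 := by
    have := congrArg (polar Q f) h3
    rw [hwp.2, polar_smul_right', polar_comm (⇑Q) f u, huf, mul_one] at this
    linear_combination this
  exact hw0 (by rw [h3, h4, neg_zero, zero_smul])

/-- The centre of the commutator subgroup consists of its scalar elements. -/
theorem mem_center_commutator_iff (hQ : Nondeg Q) (hn : 5 ≤ finrank F V)
    (g : commutator (O Q)) :
    g ∈ Subgroup.center (commutator (O Q)) ↔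
      ∃ s : F, ∀ x, ((g : O Q) : V ≃ₗ[F] V) x = s • x := by
  constructor
  · intro hg
    rcases normal_cases hQ hn ((Subgroup.center (commutator (O Q))).map (commutator (O Q)).subtype)
      (Subgroup.map_subtype_le _) (fun a ha b hb => by
        obtain ⟨c, hc, rfl⟩ := hb
        refine ⟨c, hc, ?_⟩
        have := congrArg Subtype.val (Subgroup.mem_center_iff.1 hc ⟨a, ha⟩)
        simp only [Subgroup.coe_mul] at this
        change (c : O Q) = a * (c : O Q) * a⁻¹
        rw [this, mul_inv_cancel_right])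
      with h | h
    · exact h _ ⟨g, hg, rfl⟩
    · exfalso
      obtain ⟨u, hu0, hu⟩ := hQ.exists_singular (by omega)
      obtain ⟨a, ha, hns⟩ := exists_sie_not_scalar hQ hu0 hu (by omega)
      have hab : ∀ b ∈ commutator (O Q), ∀ c ∈ commutator (O Q), b * c = c * b := by
        intro b hb c hc
        rw [← h] at hb
        obtain ⟨b', hb', rfl⟩ := hb
        exact congrArg Subtype.val (Subgroup.mem_center_iff.1 hb' ⟨c, hc⟩).symm
      have hbot : commutator (O Q) = ⊥ := by
        rw [← commutator_commutator hQ hn, eq_bot_iff, Subgroup.commutator_le]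
        intro b hb c hc
        rw [Subgroup.mem_bot, commutatorElement_eq_one_iff_mul_comm]
        exact hab b hb c hc
      rw [sieGroup_eq_commutator hQ hn, hbot, Subgroup.mem_bot] at ha
      exact hns ⟨1, fun x => by rw [ha, one_smul]; rfl⟩
  · rintro ⟨s, hs⟩
    refine Subgroup.mem_center_iff.2 fun b => Subtype.ext (O.ext_app fun x => ?_)
    simp only [Subgroup.coe_mul, mul_app, hs, map_smul]

/-- A group whose proper normal subgroups are central has simple central quotient. -/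
theorem isSimpleGroup_quot_center_of_cases {C : Type*} [Group C] (hne : Subgroup.center C ≠ ⊤)
    (h : ∀ K : Subgroup C, K.Normal → K ≤ Subgroup.center C ∨ K = ⊤) :
    IsSimpleGroup (C ⧸ Subgroup.center C) := by
  obtain ⟨g, hg⟩ : ∃ g, g ∉ Subgroup.center C := by
    by_contra hc
    push Not at hc
    exact hne (eq_top_iff.2 fun g _ => hc g)
  have : Nontrivial (C ⧸ Subgroup.center C) :=
    ⟨⟨QuotientGroup.mk g, 1, fun h => hg ((QuotientGroup.eq_one_iff g).1 h)⟩⟩
  refine ⟨fun H hH => ?_⟩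
  rcases h (H.comap (QuotientGroup.mk' (Subgroup.center C))) (hH.comap _) with h | h
  · left
    refine eq_bot_iff.2 fun y hy => ?_
    obtain ⟨c, rfl⟩ := QuotientGroup.mk'_surjective (Subgroup.center C) y
    exact (QuotientGroup.eq_one_iff c).2 (h hy)
  · right
    refine eq_top_iff.2 fun y _ => ?_
    obtain ⟨c, rfl⟩ := QuotientGroup.mk'_surjective (Subgroup.center C) y
    have : c ∈ H.comap (QuotientGroup.mk' (Subgroup.center C)) := by rw [h]; trivial
    exact this

theorem center_commutator_ne_top (hQ : Nondeg Q) (hn : 5 ≤ finrank F V) :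
    Subgroup.center (commutator (O Q)) ≠ ⊤ := by
  intro h
  obtain ⟨u, hu0, hu⟩ := hQ.exists_singular (by omega)
  obtain ⟨a, ha, hns⟩ := exists_sie_not_scalar hQ hu0 hu (by omega)
  rw [sieGroup_eq_commutator hQ hn] at ha
  exact hns ((mem_center_commutator_iff hQ hn ⟨a, ha⟩).1 (by rw [h]; exact Subgroup.mem_top _))

theorem normal_le_center_or_eq_top (hQ : Nondeg Q) (hn : 5 ≤ finrank F V)
    (K : Subgroup (commutator (O Q))) (hK : K.Normal) :
    K ≤ Subgroup.center (commutator (O Q)) ∨ K = ⊤ := by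
  have hconj : ∀ a ∈ commutator (O Q), ∀ b ∈ K.map (commutator (O Q)).subtype,
      a * b * a⁻¹ ∈ K.map (commutator (O Q)).subtype := by
    intro a ha b hb
    obtain ⟨c, hc, rfl⟩ := Subgroup.mem_map.1 hb
    refine Subgroup.mem_map.2 ⟨⟨a, ha⟩ * c * (⟨a, ha⟩ : commutator (O Q))⁻¹, hK.conj_mem c hc _, ?_⟩
    rw [map_mul, map_mul, map_inv]
    rfl
  rcases normal_cases hQ hn _ (Subgroup.map_subtype_le K) hconj with h | h
  · exact Or.inl fun c hc => (mem_center_commutator_iff hQ hn c).2 (h _ (Subgroup.mem_map_of_mem _ hc))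
  · refine Or.inr (Subgroup.map_injective (Subgroup.subtype_injective _) ?_)
    rw [h, ← MonoidHom.range_eq_map, Subgroup.range_subtype]

/-- `Ω / Z(Ω)` is simple in dimension at least five. -/
theorem isSimpleGroup_quot_center (hQ : Nondeg Q) (hn : 5 ≤ finrank F V) :
    IsSimpleGroup (commutator (O Q) ⧸ Subgroup.center (commutator (O Q))) :=
  isSimpleGroup_quot_center_of_cases (center_commutator_ne_top hQ hn)
    (normal_le_center_or_eq_top hQ hn)

end Cfsg.Agent.Orthogonal
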