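import Cfsg.Agent.Orthogonal.Parity

/-!
The spinor norm over a finite field of odd order, defined from the parity of the permutation induced
on a sphere; the commutator subgroup of the orthogonal group is its kernel inside the special
orthogonal group.
-/

set_option autoImplicit false

namespace Cfsg.Agent.Orthogonal

open QuadraticMap Module

variable {F V : Type*} [Field F] [AddCommGroup V] [Module F V] [FiniteDimensional F V]
variable {Q : QuadraticForm F V}

open Classical in
/-- The square-class sign. -/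
noncomputable def sqSign (a : F) : ℤˣ := if IsSquare a then 1 else -1

theorem sqSign_of_isSquare {a : F} (h : IsSquare a) : sqSign a = 1 := by
  classical exact if_pos h

theorem sqSign_of_not_isSquare {a : F} (h : ¬ IsSquare a) : sqSign a = -1 := by
  classical exact if_neg h

theorem sqSign_eq_one_iff {a : F} : sqSign a = 1 ↔ IsSquare a := by
  classical
  by_cases h : IsSquare a
  · simp [sqSign, h]
  · simp [sqSign, h]

section

variable [Finite F]

theorem isSquare_mul_iff (h2 : (2 : F) ≠ 0) {a b : F} (ha : a ≠ 0) (hb : b ≠ 0) :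
    IsSquare (a * b) ↔ (IsSquare a ↔ IsSquare b) := by
  classical
  have := Fintype.ofFinite F
  have hc : ringChar F ≠ 2 := fun h => h2 (by
    have := ringChar.of_eq h; exact CharTwo.two_eq_zero)
  have key : ∀ x : F, x ≠ 0 → quadraticChar F x = if IsSquare x then 1 else -1 := fun x hx => by
    split_ifs with h
    · exact (quadraticChar_one_iff_isSquare hx).2 h
    · exact quadraticChar_neg_one_iff_not_isSquare.2 h
  have h := (map_mul (quadraticChar F) a b)
  rw [key a ha, key b hb, key _ (mul_ne_zero ha hb)] at h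
  by_cases h1 : IsSquare a <;> by_cases h3 : IsSquare b <;> by_cases h4 : IsSquare (a * b) <;>
    simp_all

theorem sqSign_mul (h2 : (2 : F) ≠ 0) {a b : F} (ha : a ≠ 0) (hb : b ≠ 0) :
    sqSign (a * b) = sqSign a * sqSign b := by
  have := isSquare_mul_iff h2 ha hb
  classical
  by_cases h1 : IsSquare a <;> by_cases h3 : IsSquare b <;> simp [sqSign, this, h1, h3]

/-- Two non-zero elements in the same square class differ by a square factor. -/
theorem exists_eq_sq_mul (h2 : (2 : F) ≠ 0) {a b : F} (ha : a ≠ 0) (hb : b ≠ 0)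
    (h : IsSquare a ↔ IsSquare b) : ∃ t, t ≠ 0 ∧ b = t ^ 2 * a := by
  obtain ⟨r, hr⟩ := (isSquare_mul_iff h2 ha hb).2 h
  exact ⟨r / a, div_ne_zero (fun h0 => mul_ne_zero ha hb (by rw [hr, h0, mul_zero])) ha,
    by field_simp; linear_combination hr⟩

/-- Reflections in vectors of the same square class are conjugate. -/
theorem isConj_rO_of_class (hQ : Nondeg Q) (h2 : (2 : F) ≠ 0) {u v : V} (hu : Q u ≠ 0)
    (hv : Q v ≠ 0) (h : IsSquare (Q u) ↔ IsSquare (Q v)) : IsConj (rO Q u) (rO Q v) := by
  obtain ⟨t, ht, hQt⟩ := exists_eq_sq_mul h2 hu hv h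
  obtain ⟨g, hg⟩ := exists_map_vec hQ (v := t • u) (w := v)
    (smul_ne_zero ht fun h0 => hu (by rw [h0, QuadraticMap.map_zero]))
    (fun h0 => hv (by rw [h0, QuadraticMap.map_zero])) (by rw [qmap_smul, ← hQt])
  have := isConj_rO g (t • u)
  rwa [hg, rO_smul ht] at this

end

variable [Finite F]

/-- The sign of the permutation of the unit sphere. -/
noncomputable def sphereSign (Q : QuadraticForm F V) : O Q →* ℤˣ := by
  classical
  haveI : Finite V := Module.finite_of_finite F
  haveI : Fintype {x : V // Q x = 1} := Fintype.ofFinite _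
  exact Equiv.Perm.sign.comp
    { toFun := fun g => (g : V ≃ₗ[F] V).toEquiv.subtypeEquiv
        (p := fun x => Q x = 1) (q := fun x => Q x = 1) fun x => by
          rw [LinearEquiv.coe_toEquiv, O.map_app]
      map_one' := by ext x; rfl
      map_mul' := fun a b => by ext x; rfl } 

theorem sphereSign_rO {v : V} (hv : Q v ≠ 0) :
    sphereSign Q (rO Q v) = (-1) ^ ((sphereCard Q ⊤ 1 -
      sphereCard Q (perp Q (Submodule.span F {v})) 1) / 2) := by
  classical
  haveI : Finite V := Module.finite_of_finite F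
  letI : Fintype {x : V // Q x = 1} := Fintype.ofFinite _
  set σ : Equiv.Perm {x : V // Q x = 1} := (rO Q v : V ≃ₗ[F] V).toEquiv.subtypeEquiv (p := fun x => Q x = 1) (q := fun x => Q x = 1)
    fun x => by
    rw [LinearEquiv.coe_toEquiv, O.map_app]
  have h1 : sphereSign Q (rO Q v) = Equiv.Perm.sign σ := by
    simp only [sphereSign, MonoidHom.comp_apply, σ]
    rfl
  have hσ : σ ^ 2 = 1 := by
    ext x
    rw [pow_two]
    exact reflLin_involutive Q v (x : V)
  rw [h1, Equiv.Perm.sign_of_pow_two_eq_one hσ, sphereCard_top, ← Nat.card_eq_fintype_card,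
    ← Nat.card_eq_fintype_card]
  congr 3
  refine Nat.card_congr ?_
  have hmem : ∀ x : {x : V // Q x = 1}, σ x = x ↔ (x : V) ∈ perp Q (Submodule.span F {v}) := by
    intro x
    rw [mem_perp_span_singleton]
    constructor
    · intro h
      have h' : (rO Q v : V ≃ₗ[F] V) (x : V) = x := congrArg Subtype.val h
      rw [rO_app, sub_eq_self, smul_eq_zero] at h'
      exact (mul_eq_zero.1 (h'.resolve_right fun h0 => hv (by rw [h0, QuadraticMap.map_zero]))).resolve_left
        (inv_ne_zero hv)
    · exact fun h => Subtype.ext (rO_fix h)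
  exact
    { toFun := fun x => ⟨⟨x.1.1, (hmem x.1).1 x.2⟩, x.1.2⟩
      invFun := fun y => ⟨⟨y.1.1, y.2⟩, (hmem _).2 y.1.2⟩
      left_inv := fun _ => rfl
      right_inv := fun _ => rfl }

theorem sphereCard_moved_even {v : V} (hv : Q v ≠ 0) :
    2 ∣ sphereCard Q ⊤ 1 - sphereCard Q (perp Q (Submodule.span F {v})) 1 ∧
      sphereCard Q (perp Q (Submodule.span F {v})) 1 ≤ sphereCard Q ⊤ 1 := by
  classical
  have : Finite V := Module.finite_of_finite F
  have := Fintype.ofFinite V
  refine ⟨?_, ?_⟩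
  · let S := (Finset.univ : Finset V).filter fun x => Q x = 1 ∧ polar Q v x ≠ 0
    have hcard : sphereCard Q ⊤ 1 - sphereCard Q (perp Q (Submodule.span F {v})) 1 = S.card := by
      have h1 : sphereCard Q (perp Q (Submodule.span F {v})) 1 =
          ((Finset.univ : Finset V).filter fun x => Q x = 1 ∧ polar Q v x = 0).card := by
        rw [sphereCard, ← Fintype.card_subtype, ← Nat.card_eq_fintype_card]
        exact Nat.card_congr
          { toFun := fun y => ⟨y.1.1, y.2, (mem_perp_span_singleton Q).1 y.1.2⟩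
            invFun := fun y => ⟨⟨y.1, (mem_perp_span_singleton Q).2 y.2.2⟩, y.2.1⟩
            left_inv := fun _ => rfl
            right_inv := fun _ => rfl }
      have h2 : sphereCard Q ⊤ 1 = ((Finset.univ : Finset V).filter fun x => Q x = 1).card := by
        rw [sphereCard_top, Nat.card_eq_fintype_card, Fintype.card_subtype]
      rw [h1, h2, ← Finset.card_sdiff_of_subset (fun x hx => by simp_all)]
      congr 1
      ext x; simp [S]; tauto
    rw [hcard]
    refine (ZMod.natCast_eq_zero_iff_even.1 ?_).two_dvd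
    rw [Finset.card_eq_sum_ones, Nat.cast_sum]
    refine Finset.sum_involution (fun x _ => (rO Q v : V ≃ₗ[F] V) x) (fun _ _ => ?_) ?_ ?_ ?_
    · decide
    · intro x hx _ h
      simp only [S, Finset.mem_filter] at hx
      rw [rO_app, sub_eq_self, smul_eq_zero] at h
      exact mul_ne_zero (inv_ne_zero hv) hx.2.2
        (h.resolve_right fun h0 => hv (by rw [h0, QuadraticMap.map_zero]))
    · intro x hx
      simp only [S, Finset.mem_filter, Finset.mem_univ, true_and] at hx ⊢
      refine ⟨by rw [O.map_app, hx.1], ?_⟩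
      rw [rO_app, polar_sub_right, polar_smul_right', polar_self']
      intro h0
      apply hx.2
      field_simp at h0
      linear_combination -h0
    · intro x _; exact reflLin_involutive Q v x
  · rw [sphereCard_top, sphereCard]
    exact Nat.card_le_card_of_injective (fun y => ⟨(y.1 : V), y.2⟩)
      fun a b h => Subtype.ext (Subtype.ext (congrArg (fun t : {x : V // Q x = 1} => t.1) h))

/-- The sign of the determinant. -/
noncomputable def detSign (Q : QuadraticForm F V) (hQ : Nondeg Q) (h2 : (2 : F) ≠ 0) :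
    O Q →* ℤˣ := by
  classical
  exact
    { toFun := fun g => if LinearMap.det ((g : V ≃ₗ[F] V) : V →ₗ[F] V) = 1 then 1 else -1
      map_one' := by simp
      map_mul' := by
        have hpm : ∀ g : O Q, LinearMap.det ((g : V ≃ₗ[F] V) : V →ₗ[F] V) = 1 ∨
            LinearMap.det ((g : V ≃ₗ[F] V) : V →ₗ[F] V) = -1 := by
          intro g
          have hg : g ∈ reflGroup Q := by
            rw [reflGroup_eq_top hQ (Or.inl fun h => by
              have := odd_natCard_of_two_ne_zero h2; rw [h] at this; norm_num at this)]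
            trivial
          induction hg using Subgroup.closure_induction with
          | mem x hx =>
            obtain ⟨v, rfl⟩ := hx
            by_cases hv : Q v = 0
            · left; rw [rO_of_singular hv]; simp
            · right
              have : ((rO Q v : V ≃ₗ[F] V) : V →ₗ[F] V) =
                  LinearMap.transvection (-(Q v)⁻¹ • Q.polarBilin v) v := by
                refine LinearMap.ext fun x => ?_
                rw [LinearEquiv.coe_coe, rO_app, LinearMap.transvection.apply, sub_eq_add_neg,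
                  ← neg_smul]
                simp [polarBilin_apply', mul_comm]
              rw [this, LinearMap.transvection.det]
              simp [polarBilin_apply', polar_self', hv]
              field_simp
              ring
          | one => left; simp
          | mul x y _ _ hx hy =>
            rw [Subgroup.coe_mul]
            change LinearMap.det (((x : V ≃ₗ[F] V) : V →ₗ[F] V) * ((y : V ≃ₗ[F] V) : V →ₗ[F] V)) = 1 ∨
              LinearMap.det (((x : V ≃ₗ[F] V) : V →ₗ[F] V) * ((y : V ≃ₗ[F] V) : V →ₗ[F] V)) = -1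
            rw [map_mul]
            rcases hx with h | h <;> rcases hy with h' | h' <;> simp [h, h']
          | inv x _ hx =>
            have h1 : LinearMap.det ((x : V ≃ₗ[F] V) : V →ₗ[F] V) *
                LinearMap.det (((x⁻¹ : O Q) : V ≃ₗ[F] V) : V →ₗ[F] V) = 1 := by
              rw [← map_mul, ← LinearMap.det_id (M := V)]
              congr 1
              refine LinearMap.ext fun z => ?_
              change (x : V ≃ₗ[F] V) (((x⁻¹ : O Q) : V ≃ₗ[F] V) z) = z
              rw [← mul_app, ← Subgroup.coe_mul, mul_inv_cancel]; rfl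
            rcases hx with h | h <;> rw [h] at h1
            · left; simpa using h1
            · right; linear_combination -h1
        intro a b
        have hne : (-1 : F) ≠ 1 := fun h => h2 (by linear_combination -h)
        have hmul : LinearMap.det (((a * b : O Q) : V ≃ₗ[F] V) : V →ₗ[F] V) =
            LinearMap.det ((a : V ≃ₗ[F] V) : V →ₗ[F] V) *
              LinearMap.det ((b : V ≃ₗ[F] V) : V →ₗ[F] V) := by
          rw [← map_mul]; rfl
        rcases hpm a with h | h <;> rcases hpm b with h' | h' <;> simp [hmul, h, h', hne] }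

theorem detSign_eq_one_iff (hQ : Nondeg Q) (h2 : (2 : F) ≠ 0) (g : O Q) :
    detSign Q hQ h2 g = 1 ↔ LinearMap.det ((g : V ≃ₗ[F] V) : V →ₗ[F] V) = 1 := by
  classical
  simp [detSign]

theorem detSign_rO (hQ : Nondeg Q) (h2 : (2 : F) ≠ 0) {v : V} (hv : Q v ≠ 0) :
    detSign Q hQ h2 (rO Q v) = -1 := by
  rcases Int.units_eq_one_or (detSign Q hQ h2 (rO Q v)) with h | h
  · exfalso
    rw [detSign_eq_one_iff] at h
    have : ((rO Q v : V ≃ₗ[F] V) : V →ₗ[F] V) =
        LinearMap.transvection (-(Q v)⁻¹ • Q.polarBilin v) v := by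
      refine LinearMap.ext fun x => ?_
      rw [LinearEquiv.coe_coe, rO_app, LinearMap.transvection.apply, sub_eq_add_neg, ← neg_smul]
      simp [polarBilin_apply', mul_comm]
    rw [this, LinearMap.transvection.det] at h
    simp [polarBilin_apply', polar_self', hv, h2] at h
  · exact h

theorem exists_spinor (hQ : Nondeg Q) (h2 : (2 : F) ≠ 0) :
    ∃ θ : O Q →* ℤˣ, ∀ v, Q v ≠ 0 → θ (rO Q v) = sqSign (Q v) := by
  by_cases hn : 2 ≤ finrank F V
  · obtain ⟨u, u', hu, hu0, hu', hpar⟩ := exists_parity_pair hQ h2 hn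
    have hu0' : Q u' ≠ 0 := fun h => hu' (by rw [h]; exact IsSquare.zero)
    have hcl : ∀ {x v : V}, Q x ≠ 0 → Q v ≠ 0 → (IsSquare (Q v) ↔ IsSquare (Q x)) →
        sphereSign Q (rO Q v) = sphereSign Q (rO Q x) := fun hx hv h =>
      (isConj_iff_eq.1 ((sphereSign Q).map_isConj (isConj_rO_of_class hQ h2 hv hx h)))
    have hne : sphereSign Q (rO Q u') = - sphereSign Q (rO Q u) := by
      rw [sphereSign_rO hu0, sphereSign_rO hu0']
      obtain ⟨⟨a, ha⟩, hle⟩ := sphereCard_moved_even (Q := Q) hu0
      obtain ⟨⟨b, hb⟩, hle'⟩ := sphereCard_moved_even (Q := Q) hu0'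
      rw [ha, hb, Nat.mul_div_cancel_left _ (by norm_num), Nat.mul_div_cancel_left _ (by norm_num)]
      rcases Nat.even_or_odd a with he | he
      · rw [he.neg_one_pow, (show Odd b by rw [Nat.odd_iff]; rw [Nat.even_iff] at he; omega).neg_one_pow]
      · rw [he.neg_one_pow, (show Even b by rw [Nat.even_iff]; rw [Nat.odd_iff] at he; omega).neg_one_pow,
          neg_neg]
    rcases Int.units_eq_one_or (sphereSign Q (rO Q u)) with h | h
    · refine ⟨sphereSign Q, fun v hv => ?_⟩
      by_cases hs : IsSquare (Q v)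
      · rw [sqSign_of_isSquare hs, hcl hu0 hv (iff_of_true hs hu), h]
      · rw [sqSign_of_not_isSquare hs, hcl hu0' hv (iff_of_false hs hu'), hne, h]
    · refine ⟨sphereSign Q * detSign Q hQ h2, fun v hv => ?_⟩
      rw [MonoidHom.mul_apply, detSign_rO hQ h2 hv]
      by_cases hs : IsSquare (Q v)
      · rw [sqSign_of_isSquare hs, hcl hu0 hv (iff_of_true hs hu), h]; decide
      · rw [sqSign_of_not_isSquare hs, hcl hu0' hv (iff_of_false hs hu'), hne, h]; decide
  · by_cases hex : ∃ v, Q v ≠ 0
    · obtain ⟨v, hv⟩ := hex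
      have hv0 : v ≠ 0 := fun h => hv (by rw [h, QuadraticMap.map_zero])
      have hn1 : finrank F V = 1 := by
        have : 0 < finrank F V :=
          (Module.finrank_pos_iff (R := F)).2 ⟨⟨v, 0, hv0⟩⟩
        omega
      have hcls : ∀ w, Q w ≠ 0 → sqSign (Q w) = sqSign (Q v) := fun w hw => by
        obtain ⟨c, rfl⟩ := (finrank_eq_one_iff_of_nonzero' v hv0).1 hn1 w
        rw [qmap_smul] at hw ⊢
        rw [sqSign_mul h2 (left_ne_zero_of_mul hw) hv, sqSign_of_isSquare ⟨c, pow_two c⟩, one_mul]
      rcases Int.units_eq_one_or (sqSign (Q v)) with h | h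
      · exact ⟨1, fun w hw => by rw [hcls w hw, h]; rfl⟩
      · exact ⟨detSign Q hQ h2, fun w hw => by rw [hcls w hw, h, detSign_rO hQ h2 hw]⟩
    · exact ⟨1, fun v hv => absurd ⟨v, hv⟩ hex⟩

/-- The spinor norm. -/
noncomputable def spinor (Q : QuadraticForm F V) (hQ : Nondeg Q) (h2 : (2 : F) ≠ 0) : O Q →* ℤˣ :=
  Classical.choose (exists_spinor hQ h2)

theorem spinor_rO (hQ : Nondeg Q) (h2 : (2 : F) ≠ 0) {v : V} (hv : Q v ≠ 0) :
    spinor Q hQ h2 (rO Q v) = sqSign (Q v) :=
  Classical.choose_spec (exists_spinor hQ h2) v hv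

theorem reflGroup_eq_top_of_odd (hQ : Nondeg Q) (h2 : (2 : F) ≠ 0) : reflGroup Q = ⊤ :=
  reflGroup_eq_top hQ (Or.inl fun h => by
    have := odd_natCard_of_two_ne_zero h2; rw [h] at this; norm_num at this)

/-- Two homomorphisms agreeing on reflections are equal. -/
theorem hom_ext_rO {M : Type*} [Group M] (hQ : Nondeg Q) (h2 : (2 : F) ≠ 0) {φ ψ : O Q →* M}
    (h : ∀ v, Q v ≠ 0 → φ (rO Q v) = ψ (rO Q v)) : φ = ψ := by
  refine MonoidHom.eq_of_eqOn_dense (reflGroup_eq_top_of_odd hQ h2) ?_
  rintro - ⟨v, rfl⟩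
  by_cases hv : Q v = 0
  · rw [rO_of_singular hv, map_one, map_one]
  · exact h v hv

/-- Every element is a product of a list of reflections in non-singular vectors. -/
theorem exists_refl_list (hQ : Nondeg Q) (h2 : (2 : F) ≠ 0) (g : O Q) :
    ∃ l : List V, (∀ v ∈ l, Q v ≠ 0) ∧ (l.map (rO Q)).prod = g := by
  have hg : g ∈ reflGroup Q := by rw [reflGroup_eq_top_of_odd hQ h2]; trivial
  induction hg using Subgroup.closure_induction_left with
  | one => exact ⟨[], by simp, rfl⟩
  | mul_left x hx y _ hy =>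
    obtain ⟨v, rfl⟩ := hx
    obtain ⟨l, hl, rfl⟩ := hy
    by_cases hv : Q v = 0
    · exact ⟨l, hl, by rw [rO_of_singular hv, one_mul]⟩
    · exact ⟨v :: l, by simpa [hv] using hl, by simp⟩
  | inv_mul_cancel x hx y _ hy =>
    obtain ⟨v, rfl⟩ := hx
    obtain ⟨l, hl, rfl⟩ := hy
    rw [rO_inv]
    by_cases hv : Q v = 0
    · exact ⟨l, hl, by rw [rO_of_singular hv, one_mul]⟩
    · exact ⟨v :: l, by simpa [hv] using hl, by simp⟩

theorem detSign_list (hQ : Nondeg Q) (h2 : (2 : F) ≠ 0) {l : List V} (hl : ∀ v ∈ l, Q v ≠ 0) :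
    detSign Q hQ h2 (l.map (rO Q)).prod = (-1) ^ l.length := by
  induction l with
  | nil => simp
  | cons a t ih =>
    rw [List.map_cons, List.prod_cons, map_mul, detSign_rO hQ h2 (hl a (by simp)),
      ih (fun v hv => hl v (by simp [hv])), List.length_cons, pow_succ']

theorem spinor_list (hQ : Nondeg Q) (h2 : (2 : F) ≠ 0) {l : List V} (hl : ∀ v ∈ l, Q v ≠ 0) :
    spinor Q hQ h2 (l.map (rO Q)).prod = sqSign (l.map fun v => Q v).prod := by
  induction l with
  | nil => simp [sqSign_of_isSquare (IsSquare.one (α := F))]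
  | cons a t ih =>
    rw [List.map_cons, List.prod_cons, map_mul, spinor_rO hQ h2 (hl a (by simp)),
      ih (fun v hv => hl v (by simp [hv])), List.map_cons, List.prod_cons,
      sqSign_mul h2 (hl a (by simp))]
    refine fun h => ?_
    obtain ⟨x, hx, hx0⟩ := List.mem_map.1 (List.prod_eq_zero_iff.1 h)
    exact hl x (by simp [hx]) hx0

/-- The commutator subgroup is the kernel of spinor norm and determinant. -/
theorem mem_commutator_iff (hQ : Nondeg Q) (h2 : (2 : F) ≠ 0) (g : O Q) :
    g ∈ commutator (O Q) ↔ detSign Q hQ h2 g = 1 ∧ spinor Q hQ h2 g = 1 := by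
  constructor
  · intro hg
    exact ⟨Abelianization.commutator_subset_ker (detSign Q hQ h2) hg,
      Abelianization.commutator_subset_ker (spinor Q hQ h2) hg⟩
  · rintro ⟨hd, hs⟩
    have hrel : ∀ v w, Q v ≠ 0 → Q w ≠ 0 → (IsSquare (Q v) ↔ IsSquare (Q w)) →
        Abelianization.of (rO Q v) = Abelianization.of (rO Q w) := fun v w hv hw h =>
      isConj_iff_eq.1 ((Abelianization.of : O Q →* _).map_isConj (isConj_rO_of_class hQ h2 hv hw h))
    obtain ⟨a, b, ha, hb, hab⟩ : ∃ a b : Abelianization (O Q), a * a = 1 ∧ b * b = 1 ∧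
        ∀ v, Q v ≠ 0 → (IsSquare (Q v) → Abelianization.of (rO Q v) = a) ∧
          (¬ IsSquare (Q v) → Abelianization.of (rO Q v) = b) := by
      classical
      refine ⟨if h : ∃ v, Q v ≠ 0 ∧ IsSquare (Q v) then Abelianization.of (rO Q h.choose) else 1,
        if h : ∃ v, Q v ≠ 0 ∧ ¬ IsSquare (Q v) then Abelianization.of (rO Q h.choose) else 1,
        ?_, ?_, fun v hv => ⟨fun hs' => ?_, fun hs' => ?_⟩⟩
      · split_ifs
        · rw [← map_mul, rO_mul_self, map_one]
        · exact one_mul 1
      · split_ifs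
        · rw [← map_mul, rO_mul_self, map_one]
        · exact one_mul 1
      · have h : ∃ v, Q v ≠ 0 ∧ IsSquare (Q v) := ⟨v, hv, hs'⟩
        rw [dif_pos h]
        exact hrel _ _ hv h.choose_spec.1 (iff_of_true hs' h.choose_spec.2)
      · have h : ∃ v, Q v ≠ 0 ∧ ¬ IsSquare (Q v) := ⟨v, hv, hs'⟩
        rw [dif_pos h]
        exact hrel _ _ hv h.choose_spec.1 (iff_of_false hs' h.choose_spec.2)
    have key : ∀ x : O Q,
        (detSign Q hQ h2 x = 1 ∧ spinor Q hQ h2 x = 1 ∧ Abelianization.of x = 1) ∨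
        (detSign Q hQ h2 x = -1 ∧ spinor Q hQ h2 x = 1 ∧ Abelianization.of x = a) ∨
        (detSign Q hQ h2 x = -1 ∧ spinor Q hQ h2 x = -1 ∧ Abelianization.of x = b) ∨
        (detSign Q hQ h2 x = 1 ∧ spinor Q hQ h2 x = -1 ∧ Abelianization.of x = a * b) := by
      intro x
      obtain ⟨l, hl, rfl⟩ := exists_refl_list hQ h2 x
      induction l with
      | nil => exact Or.inl ⟨map_one _, map_one _, map_one _⟩
      | cons v t ih =>
        have hv := hl v (by simp)
        specialize ih (fun w hw => hl w (by simp [hw]))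
        simp only [List.map_cons, List.prod_cons, map_mul, detSign_rO hQ h2 hv, spinor_rO hQ h2 hv]
        by_cases hsv : IsSquare (Q v)
        · rw [sqSign_of_isSquare hsv, (hab v hv).1 hsv]
          rcases ih with ⟨i1, i2, i3⟩ | ⟨i1, i2, i3⟩ | ⟨i1, i2, i3⟩ | ⟨i1, i2, i3⟩ <;> rw [i1, i2, i3]
          · exact Or.inr (Or.inl ⟨rfl, rfl, mul_one a⟩)
          · exact Or.inl ⟨rfl, rfl, ha⟩
          · exact Or.inr (Or.inr (Or.inr ⟨rfl, rfl, rfl⟩))
          · exact Or.inr (Or.inr (Or.inl ⟨rfl, rfl, by rw [← mul_assoc, ha, one_mul]⟩))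
        · rw [sqSign_of_not_isSquare hsv, (hab v hv).2 hsv]
          rcases ih with ⟨i1, i2, i3⟩ | ⟨i1, i2, i3⟩ | ⟨i1, i2, i3⟩ | ⟨i1, i2, i3⟩ <;> rw [i1, i2, i3]
          · exact Or.inr (Or.inr (Or.inl ⟨rfl, rfl, mul_one b⟩))
          · exact Or.inr (Or.inr (Or.inr ⟨rfl, rfl, mul_comm b a⟩))
          · exact Or.inl ⟨rfl, rfl, hb⟩
          · exact Or.inr (Or.inl ⟨rfl, rfl, by rw [mul_comm a b, ← mul_assoc, hb, one_mul]⟩)
    have hne : (-1 : ℤˣ) ≠ 1 := by decide
    rcases key g with h | h | h | h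
    · rw [← Abelianization.ker_of]; exact MonoidHom.mem_ker.2 h.2.2
    · exact absurd (h.1.symm.trans hd) hne
    · exact absurd (h.1.symm.trans hd) hne
    · exact absurd (h.2.1.symm.trans hs) hne

/-- The commutator subgroup has index four in dimension at least two. -/
theorem index_commutator_eq_four (hQ : Nondeg Q) (h2 : (2 : F) ≠ 0) (hn : 2 ≤ finrank F V) :
    (commutator (O Q)).index = 4 := by
  set φ : O Q →* ℤˣ × ℤˣ := (detSign Q hQ h2).prod (spinor Q hQ h2)
  have hker : φ.ker = commutator (O Q) := by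
    ext g
    rw [mem_commutator_iff hQ h2, MonoidHom.mem_ker]
    exact Prod.ext_iff
  obtain ⟨ν, hν⟩ := exists_not_isSquare h2
  have hν0 : ν ≠ 0 := fun h => hν (by rw [h]; exact IsSquare.zero)
  obtain ⟨u, hu⟩ := hQ.exists_value hn 1
  obtain ⟨w, hw⟩ := hQ.exists_value hn ν
  have hu0 : Q u ≠ 0 := by rw [hu]; exact one_ne_zero
  have hw0 : Q w ≠ 0 := by rw [hw]; exact hν0
  have h1 : φ (rO Q u) = (-1, 1) := Prod.ext (detSign_rO hQ h2 hu0)
    ((spinor_rO hQ h2 hu0).trans (sqSign_of_isSquare (by rw [hu]; exact IsSquare.one)))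
  have h3 : φ (rO Q w) = (-1, -1) := Prod.ext (detSign_rO hQ h2 hw0)
    ((spinor_rO hQ h2 hw0).trans (sqSign_of_not_isSquare (by rwa [hw])))
  have hsurj : Function.Surjective φ := by
    rintro ⟨a, b⟩
    rcases Int.units_eq_one_or a with rfl | rfl <;> rcases Int.units_eq_one_or b with rfl | rfl
    · exact ⟨1, map_one φ⟩
    · exact ⟨rO Q u * rO Q w, by rw [map_mul, h1, h3]; rfl⟩
    · exact ⟨_, h1⟩
    · exact ⟨_, h3⟩
  rw [← hker, Subgroup.index_ker, MonoidHom.range_eq_top.2 hsurj, Subgroup.card_top, Nat.card_prod]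
  simp

end Cfsg.Agent.Orthogonal
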