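import Cfsg.Agent.Orthogonal.Witt

/-!
Orthogonal sums: gluing isometries, extending an isometry of a non-degenerate subspace by the
identity on its complement, and restricting to an invariant subspace.
-/

set_option autoImplicit false

namespace Cfsg.Agent.Orthogonal

open QuadraticMap Module

variable {F V : Type*} [Field F] [AddCommGroup V] [Module F V]
variable {Q : QuadraticForm F V} {W W' : Submodule F V}

/-- Glue isometries of the summands of an orthogonal decomposition. -/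
noncomputable def glue (h : IsCompl W W') (ho : ∀ x ∈ W, ∀ y ∈ W', polar Q x y = 0) :
    O (restr Q W) × O (restr Q W') →* O Q where
  toFun g := ⟨(Submodule.prodEquivOfIsCompl W W' h).symm.trans
    (((g.1 : W ≃ₗ[F] W).prodCongr (g.2 : W' ≃ₗ[F] W')).trans (Submodule.prodEquivOfIsCompl W W' h)),
    fun v => by
      obtain ⟨⟨x, y⟩, rfl⟩ := (Submodule.prodEquivOfIsCompl W W' h).surjective v
      simp only [LinearEquiv.trans_apply, LinearEquiv.symm_apply_apply]
      change Q (((g.1 : W ≃ₗ[F] W) x : V) + ((g.2 : W' ≃ₗ[F] W') y : V)) = Q ((x : V) + y)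
      rw [map_add_polar, map_add_polar, ho _ (Subtype.prop _) _ (Subtype.prop _),
        ho _ x.2 _ y.2, ← restr_apply (Q := Q), ← restr_apply (Q := Q), O.map_app, O.map_app]
      rfl⟩
  map_one' := O.ext_app fun v => by
    obtain ⟨⟨x, y⟩, rfl⟩ := (Submodule.prodEquivOfIsCompl W W' h).surjective v
    simp
  map_mul' a b := O.ext_app fun v => by
    obtain ⟨⟨x, y⟩, rfl⟩ := (Submodule.prodEquivOfIsCompl W W' h).surjective v
    simp only [Subgroup.coe_mul, mul_app, LinearEquiv.trans_apply, LinearEquiv.symm_apply_apply]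
    rfl

theorem glue_app (h : IsCompl W W') (ho : ∀ x ∈ W, ∀ y ∈ W', polar Q x y = 0)
    (g : O (restr Q W) × O (restr Q W')) (x : W) (y : W') :
    (glue h ho g : V ≃ₗ[F] V) ((x : V) + y) =
      ((g.1 : W ≃ₗ[F] W) x : V) + ((g.2 : W' ≃ₗ[F] W') y : V) := by
  change (Submodule.prodEquivOfIsCompl W W' h)
    (((g.1 : W ≃ₗ[F] W).prodCongr (g.2 : W' ≃ₗ[F] W'))
      ((Submodule.prodEquivOfIsCompl W W' h).symm
        ((Submodule.prodEquivOfIsCompl W W' h) (x, y)))) = _
  rw [LinearEquiv.symm_apply_apply]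
  rfl

theorem glue_app_left (h : IsCompl W W') (ho : ∀ x ∈ W, ∀ y ∈ W', polar Q x y = 0)
    (g : O (restr Q W) × O (restr Q W')) (x : W) :
    (glue h ho g : V ≃ₗ[F] V) x = ((g.1 : W ≃ₗ[F] W) x : V) := by
  simpa using glue_app h ho g x 0

theorem glue_app_right (h : IsCompl W W') (ho : ∀ x ∈ W, ∀ y ∈ W', polar Q x y = 0)
    (g : O (restr Q W) × O (restr Q W')) (y : W') :
    (glue h ho g : V ≃ₗ[F] V) y = ((g.2 : W' ≃ₗ[F] W') y : V) := by
  simpa using glue_app h ho g 0 y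

theorem glue_injective (h : IsCompl W W') (ho : ∀ x ∈ W, ∀ y ∈ W', polar Q x y = 0) :
    Function.Injective (glue h ho) := fun a b hab => Prod.ext
  (O.ext_app fun x => Subtype.ext (by rw [← glue_app_left h ho a, hab, glue_app_left]))
  (O.ext_app fun y => Subtype.ext (by rw [← glue_app_right h ho a, hab, glue_app_right]))

theorem eq_glue_of_eqOn (h : IsCompl W W') (ho : ∀ x ∈ W, ∀ y ∈ W', polar Q x y = 0)
    (g : O Q) (a : O (restr Q W) × O (restr Q W'))
    (h1 : ∀ x : W, (g : V ≃ₗ[F] V) x = ((a.1 : W ≃ₗ[F] W) x : V))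
    (h2 : ∀ y : W', (g : V ≃ₗ[F] V) y = ((a.2 : W' ≃ₗ[F] W') y : V)) : g = glue h ho a := by
  refine O.ext_app fun v => ?_
  obtain ⟨⟨x, y⟩, rfl⟩ := (Submodule.prodEquivOfIsCompl W W' h).surjective v
  change (g : V ≃ₗ[F] V) ((x : V) + y) = (glue h ho a : V ≃ₗ[F] V) ((x : V) + y)
  rw [glue_app, map_add, h1, h2]

variable [FiniteDimensional F V]

theorem map_mem_perp (g : O Q) (hW : ∀ x ∈ W, (g : V ≃ₗ[F] V) x ∈ W) {y : V}
    (hy : y ∈ perp Q W) : (g : V ≃ₗ[F] V) y ∈ perp Q W := by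
  intro w hw
  have hsurj : W.map ((g : V ≃ₗ[F] V) : V →ₗ[F] V) = W :=
    Submodule.eq_of_le_of_finrank_eq (by rintro - ⟨x, hx, rfl⟩; exact hW x hx)
      (LinearEquiv.finrank_map_eq _ _)
  rw [← hsurj] at hw
  obtain ⟨x, hx, rfl⟩ := hw
  rw [LinearEquiv.coe_coe, O.polar_app]
  exact hy x hx

omit [FiniteDimensional F V] in
theorem perp_ortho (W : Submodule F V) : ∀ x ∈ W, ∀ y ∈ perp Q W, polar Q x y = 0 :=
  fun x hx _ hy => hy x hx

/-- Extension of an isometry of a non-degenerate subspace by the identity on its orthogonal. -/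
noncomputable def extendO (hQ : Nondeg Q) (hW : Nondeg (restr Q W)) : O (restr Q W) →* O Q :=
  (glue (hQ.isCompl_perp hW) (perp_ortho W)).comp (MonoidHom.inl _ _)

theorem extendO_app (hQ : Nondeg Q) (hW : Nondeg (restr Q W)) (g : O (restr Q W)) (x : W) :
    (extendO hQ hW g : V ≃ₗ[F] V) x = ((g : W ≃ₗ[F] W) x : V) :=
  glue_app_left (hQ.isCompl_perp hW) (perp_ortho W) _ x

theorem extendO_app_perp (hQ : Nondeg Q) (hW : Nondeg (restr Q W)) (g : O (restr Q W)) {y : V}
    (hy : y ∈ perp Q W) : (extendO hQ hW g : V ≃ₗ[F] V) y = y :=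
  glue_app_right (hQ.isCompl_perp hW) (perp_ortho W) _ ⟨y, hy⟩

theorem extendO_injective (hQ : Nondeg Q) (hW : Nondeg (restr Q W)) :
    Function.Injective (extendO hQ hW) :=
  (glue_injective (hQ.isCompl_perp hW) (perp_ortho W)).comp (fun _ _ h => congrArg Prod.fst h)

theorem extendO_rO (hQ : Nondeg Q) (hW : Nondeg (restr Q W)) (w : W) :
    extendO hQ hW (rO (restr Q W) w) = rO Q (w : V) := by
  symm
  refine eq_glue_of_eqOn (hQ.isCompl_perp hW) (perp_ortho W) _ _ (fun x => ?_) (fun y => ?_)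
  · rw [rO_app]
    change _ = ((rO (restr Q W) w : W ≃ₗ[F] W) x : V)
    rw [rO_app, polar_restr, restr_apply, Submodule.coe_sub, Submodule.coe_smul]
  · exact rO_fix (y.2 w w.2)

omit [FiniteDimensional F V] in
theorem injective_restrict (g : O Q) (hW : ∀ x ∈ W, (g : V ≃ₗ[F] V) x ∈ W) :
    Function.Injective (((g : V ≃ₗ[F] V) : V →ₗ[F] V).restrict hW) :=
  fun _ _ h => Subtype.ext ((g : V ≃ₗ[F] V).injective (congrArg Subtype.val h))

/-- The restriction of an isometry to an invariant subspace. -/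
noncomputable def restrictO (g : O Q) (hW : ∀ x ∈ W, (g : V ≃ₗ[F] V) x ∈ W) : O (restr Q W) :=
  ⟨LinearEquiv.ofInjectiveEndo _ (injective_restrict g hW), fun x => O.map_app g x⟩

theorem restrictO_app (g : O Q) (hW : ∀ x ∈ W, (g : V ≃ₗ[F] V) x ∈ W) (x : W) :
    ((restrictO g hW : W ≃ₗ[F] W) x : V) = (g : V ≃ₗ[F] V) x := rfl

theorem mem_range_extendO (hQ : Nondeg Q) (hW : Nondeg (restr Q W)) (g : O Q) :
    g ∈ (extendO hQ hW).range ↔ ∀ y ∈ perp Q W, (g : V ≃ₗ[F] V) y = y := by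
  constructor
  · rintro ⟨a, rfl⟩ y hy
    exact extendO_app_perp hQ hW a hy
  · intro hg
    have hWinv : ∀ x ∈ W, (g : V ≃ₗ[F] V) x ∈ W := by
      intro x hx
      conv at hx => rw [← hQ.perp_perp W]
      rw [← hQ.perp_perp W]
      exact map_mem_perp g (fun y hy => by rw [hg y hy]; exact hy) hx
    exact ⟨restrictO g hWinv, (eq_glue_of_eqOn (hQ.isCompl_perp hW) (perp_ortho W) g (restrictO g hWinv, 1)
      (fun _ => rfl) (fun y => hg y y.2)).symm⟩

end Cfsg.Agent.Orthogonal
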