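import Cfsg.Agent.Orthogonal.Frame

/-!
Anisotropic planes over finite fields: spheres have `q + 1` points, the orthogonal group has order
`2 * (q + 1)` and is transitive on spheres through reflections.
-/

set_option autoImplicit false

namespace Cfsg.Agent.Orthogonal

open QuadraticMap Module

variable {F V : Type*} [Field F] [AddCommGroup V] [Module F V] [FiniteDimensional F V]
variable {Q : QuadraticForm F V}

/-- In a plane, a non-zero vector has a one-dimensional orthogonal. -/
theorem Nondeg.perp_line (hQ : Nondeg Q) (h2 : finrank F V = 2) {v w : V} (hv : v ≠ 0)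
    (hw : w ≠ 0) (hvw : polar Q v w = 0) :
    perp Q (Submodule.span F {v}) = Submodule.span F {w} := by
  refine (Submodule.eq_of_le_of_finrank_eq ?_ ?_).symm
  · rw [Submodule.span_le, Set.singleton_subset_iff, SetLike.mem_coe, mem_perp_span_singleton]
    exact hvw
  · have := hQ.finrank_perp_singleton hv
    rw [finrank_span_singleton hw]; omega

theorem Nondeg.exists_perp_vec (hQ : Nondeg Q) (h2 : finrank F V = 2) {v : V} (hv : v ≠ 0) :
    ∃ w, w ≠ 0 ∧ polar Q v w = 0 := by
  obtain ⟨w, hw, hw0⟩ : ∃ w ∈ perp Q (Submodule.span F {v}), w ≠ 0 :=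
    Submodule.exists_mem_ne_zero_of_ne_bot fun h => by
      have := hQ.finrank_perp_singleton hv
      rw [h, finrank_bot] at this; omega
  exact ⟨w, hw0, (mem_perp_span_singleton Q).1 hw⟩

/-- An isometry of an anisotropic plane fixing a vector is trivial or a reflection. -/
theorem Nondeg.stab_plane (hQ : Nondeg Q) (h2 : finrank F V = 2)
    (ha : ∀ x, Q x = 0 → x = 0) {v w : V} (hv : v ≠ 0) (hw : w ≠ 0) (hvw : polar Q v w = 0)
    {g : O Q} (hg : (g : V ≃ₗ[F] V) v = v) : g = 1 ∨ g = rO Q w := by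
  obtain ⟨y, hy⟩ : ∃ y, y ∉ Submodule.span F {v} := by
    by_contra hc
    push Not at hc
    have h := Submodule.finrank_mono (fun x (_ : x ∈ (⊤ : Submodule F V)) => hc x)
    rw [finrank_top, finrank_span_singleton hv] at h; omega
  have hperp := hQ.perp_line h2 hv hw hvw
  have hd : (g : V ≃ₗ[F] V) y - y ∈ perp Q (Submodule.span F {v}) := by
    rw [mem_perp_span_singleton, polar_sub_right]
    nth_rw 1 [← hg]
    rw [O.polar_app, sub_self]
  rw [hperp] at hd
  obtain ⟨a, ha'⟩ := Submodule.mem_span_singleton.1 hd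
  have hgy : (g : V ≃ₗ[F] V) y = y + a • w := by rw [ha']; abel
  have hQw : Q w ≠ 0 := fun h => hw (ha w h)
  have hspan : ∀ x : V, ∃ s t : F, x = s • v + t • y := by
    intro x
    have hli : LinearIndependent F ![v, y] := by
      rw [LinearIndependent.pair_iff]
      intro s t hst
      by_cases ht : t = 0
      · subst ht; rw [zero_smul, add_zero, smul_eq_zero] at hst
        exact ⟨hst.resolve_right hv, rfl⟩
      · refine absurd (Submodule.mem_span_singleton.2 ⟨-s / t, ?_⟩) hy
        have : y = t⁻¹ • (-(s • v)) := by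
          rw [eq_neg_of_add_eq_zero_left hst, neg_neg, inv_smul_smul₀ ht]
        rw [this, smul_neg, smul_smul, ← neg_smul, ← neg_mul, mul_comm, neg_div, div_eq_mul_inv]
        congr 1; ring
    have hx : x ∈ Submodule.span F (Set.range ![v, y]) := by
      rw [hli.span_eq_top_of_card_eq_finrank (by simpa using h2.symm)]; trivial
    obtain ⟨c, hc⟩ := (Submodule.mem_span_range_iff_exists_fun F).1 hx
    exact ⟨c 0, c 1, by simpa [Fin.sum_univ_two] using hc.symm⟩
  have hsol : a = 0 ∨ a * Q w = -polar Q w y := by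
    have := O.map_app g y
    rw [hgy, map_add_polar, qmap_smul, polar_smul_right', polar_comm (⇑Q) y w] at this
    have : a * (a * Q w + polar Q w y) = 0 := by linear_combination this
    rcases mul_eq_zero.1 this with h | h
    · exact Or.inl h
    · exact Or.inr (by linear_combination h)
  have hrv : (rO Q w : V ≃ₗ[F] V) v = v := rO_fix (by rw [polar_comm]; exact hvw)
  rcases hsol with rfl | hsol
  · refine Or.inl (O.ext_app fun x => ?_)
    obtain ⟨s, t, rfl⟩ := hspan x
    rw [map_add, map_smul, map_smul, hg, hgy, zero_smul, add_zero]; rfl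
  · refine Or.inr (O.ext_app fun x => ?_)
    obtain ⟨s, t, rfl⟩ := hspan x
    have hry : (rO Q w : V ≃ₗ[F] V) y = y + a • w := by
      rw [rO_app, sub_eq_add_neg, ← neg_smul]
      congr 2
      rw [← mul_neg, ← hsol, mul_comm a, ← mul_assoc, inv_mul_cancel₀ hQw, one_mul]
    simp only [map_add, map_smul, hg, hgy, hrv, hry]

/-- In an anisotropic plane the sphere through `v` consists of the reflection images of `v`, one
for each line. -/
theorem Nondeg.rO_fibre (hQ : Nondeg Q) (h2 : finrank F V = 2) (ha : ∀ x, Q x = 0 → x = 0)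
    {v w w' : V} (hv : v ≠ 0) (hw : w ≠ 0) (hw' : w' ≠ 0)
    (h : (rO Q w : V ≃ₗ[F] V) v = (rO Q w' : V ≃ₗ[F] V) v) :
    w' ∈ Submodule.span F {w} := by
  rw [rO_app, rO_app, sub_right_inj] at h
  by_cases hp : polar Q w v = 0
  · rw [hp, mul_zero, zero_smul] at h
    rcases smul_eq_zero.1 h.symm with h1 | h1
    · have hp' : polar Q v w' = 0 := by
        rw [polar_comm]
        exact (mul_eq_zero.1 h1).resolve_left (inv_ne_zero fun h0 => hw' (ha w' h0))
      rw [polar_comm] at hp
      rw [← hQ.perp_line h2 hv hw hp]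
      exact (mem_perp_span_singleton Q).2 hp'
    · exact absurd h1 hw'
  · have hne : (Q w)⁻¹ * polar Q w v ≠ 0 := mul_ne_zero (inv_ne_zero fun h0 => hw (ha w h0)) hp
    have hne' : (Q w')⁻¹ * polar Q w' v ≠ 0 := fun h0 => by
      rw [h0, zero_smul, smul_eq_zero] at h
      exact h.elim hne hw
    exact Submodule.mem_span_singleton.2 ⟨((Q w')⁻¹ * polar Q w' v)⁻¹ * ((Q w)⁻¹ * polar Q w v),
      by rw [mul_smul, h, inv_smul_smul₀ hne']⟩

theorem Nondeg.rO_surj_sphere (hQ : Nondeg Q) (h2 : finrank F V = 2) (ha : ∀ x, Q x = 0 → x = 0)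
    {v x : V} (hv : v ≠ 0) (hx : Q x = Q v) :
    ∃ w, w ≠ 0 ∧ (rO Q w : V ≃ₗ[F] V) v = x := by
  by_cases hxv : x = v
  · obtain ⟨w, hw, hwp⟩ := hQ.exists_perp_vec h2 hv
    exact ⟨w, hw, by rw [hxv, rO_fix]; rw [polar_comm]; exact hwp⟩
  · exact ⟨v - x, sub_ne_zero.2 (Ne.symm hxv),
      rO_sub_swap hx.symm fun h0 => hxv (sub_eq_zero.1 (ha _ h0)).symm⟩

variable [Finite F]

/-- An anisotropic plane has `q + 1` vectors of each non-zero norm. -/
theorem Nondeg.card_sphere_plane (hQ : Nondeg Q) (h2 : finrank F V = 2)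
    (ha : ∀ x, Q x = 0 → x = 0) {c : F} (hc : c ≠ 0) :
    Nat.card {x : V // Q x = c} = Nat.card F + 1 := by
  classical
  obtain ⟨v, hv⟩ := hQ.exists_value (le_of_eq h2.symm) c
  have hv0 : v ≠ 0 := fun h => hc (by rw [← hv, h, QuadraticMap.map_zero])
  have : Finite V := Module.finite_of_finite F
  have := Fintype.ofFinite V
  have := Fintype.ofFinite F
  let φ : {w : V // w ≠ 0} → {x : V // Q x = c} := fun w =>
    ⟨(rO Q w.1 : V ≃ₗ[F] V) v, by rw [O.map_app, hv]⟩
  have hfib : ∀ x, Nat.card {w // φ w = x} = Nat.card Fˣ := by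
    rintro ⟨x, hx⟩
    obtain ⟨w₀, hw₀, hw₀x⟩ := hQ.rO_surj_sphere h2 ha hv0 (x := x) (by rw [hx, hv])
    refine (Nat.card_congr (Equiv.ofBijective (fun a : Fˣ => (⟨⟨(a : F) • w₀,
      smul_ne_zero a.ne_zero hw₀⟩, Subtype.ext (by
        change (rO Q ((a : F) • w₀) : V ≃ₗ[F] V) v = x
        rw [rO_smul a.ne_zero, hw₀x])⟩ : {w // φ w = ⟨x, hx⟩})) ⟨?_, ?_⟩)).symm
    · intro a b hab
      exact Units.ext (smul_left_injective F hw₀ (congrArg (fun t => t.1.1) hab))
    · rintro ⟨⟨w, hw⟩, hwx⟩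
      obtain ⟨a, ha'⟩ := Submodule.mem_span_singleton.1 (hQ.rO_fibre h2 ha hv0 hw₀ hw
        (hw₀x.trans (congrArg Subtype.val hwx).symm))
      have ha0 : a ≠ 0 := fun h => hw (by rw [← ha', h, zero_smul])
      exact ⟨Units.mk0 a ha0, Subtype.ext (Subtype.ext ha')⟩
  have hsum : Nat.card {w : V // w ≠ 0} = Nat.card {x : V // Q x = c} * Nat.card Fˣ := by
    rw [← Nat.card_congr (Equiv.sigmaFiberEquiv φ), Nat.card_sigma, Finset.sum_congr rfl
      (fun x _ => hfib x), Finset.sum_const, smul_eq_mul, Finset.card_univ,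
      ← Nat.card_eq_fintype_card]
  have hV : Nat.card {w : V // w ≠ 0} + 1 = Nat.card F ^ 2 := by
    rw [← h2, ← Module.natCard_eq_pow_finrank, Nat.card_eq_fintype_card, Fintype.card_subtype_compl,
      Nat.card_eq_fintype_card, Fintype.card_subtype_eq]
    have : 0 < Fintype.card V := Fintype.card_pos
    omega
  obtain ⟨t, ht⟩ := Nat.exists_eq_add_of_le (Finite.one_lt_card (α := F)).le
  rw [hsum, Nat.card_units, ht, Nat.add_sub_cancel_left] at hV
  have ht0 : 0 < t := by have := Finite.one_lt_card (α := F); omega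
  rw [ht]
  exact Nat.eq_of_mul_eq_mul_right ht0 (by
    have : (1 + t) ^ 2 = (1 + t + 1) * t + 1 := by ring
    omega)

/-- The orthogonal group of an anisotropic plane has order `2 * (q + 1)`. -/
theorem Nondeg.card_O_plane (hQ : Nondeg Q) (h2 : finrank F V = 2)
    (ha : ∀ x, Q x = 0 → x = 0) : Nat.card (O Q) = 2 * (Nat.card F + 1) := by
  classical
  obtain ⟨v, hv⟩ := hQ.exists_value (le_of_eq h2.symm) 1
  have hv0 : v ≠ 0 := fun h => one_ne_zero (by rw [← hv, h, QuadraticMap.map_zero])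
  obtain ⟨w, hw, hvw⟩ := hQ.exists_perp_vec h2 hv0
  have hQw : Q w ≠ 0 := fun h => hw (ha w h)
  choose σ hσ0 hσ using fun x : {x : V // Q x = 1} =>
    hQ.rO_surj_sphere h2 ha hv0 (x := (x : V)) (by rw [x.2, hv])
  have hr1 : rO Q w ≠ 1 := by
    intro h
    obtain ⟨y, hy⟩ := hQ.exists_polar_ne hw
    have := congrArg (fun g : O Q => (g : V ≃ₗ[F] V) y) h
    simp only [OneMemClass.coe_one, one_app, rO_app] at this
    rw [sub_eq_self, smul_eq_zero] at this
    exact (this.resolve_right hw |> mul_eq_zero.1).elim (inv_ne_zero hQw) hy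
  let ψ : {x : V // Q x = 1} × Bool → O Q :=
    fun p => rO Q (σ p.1) * if p.2 then rO Q w else 1
  have hψv : ∀ p, (ψ p : V ≃ₗ[F] V) v = p.1 := by
    rintro ⟨x, b⟩
    have hb : ((if b then rO Q w else 1 : O Q) : V ≃ₗ[F] V) v = v := by
      cases b
      · rfl
      · exact rO_fix (by rw [polar_comm]; exact hvw)
    change (rO Q (σ x) : V ≃ₗ[F] V) (((if b then rO Q w else 1 : O Q) : V ≃ₗ[F] V) v) = x
    rw [hb, hσ]
  have hbij : Function.Bijective ψ := by
    constructor
    · rintro ⟨x, b⟩ ⟨x', b'⟩ h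
      have hxx : x = x' := Subtype.ext ((hψv (x, b)).symm.trans (by rw [h, hψv]))
      subst hxx
      have : (if b then rO Q w else 1 : O Q) = if b' then rO Q w else 1 := mul_left_cancel h
      cases b <;> cases b'
      · rfl
      · exact absurd this.symm hr1
      · exact absurd this hr1
      · rfl
    · intro g
      let x : {x : V // Q x = 1} := ⟨(g : V ≃ₗ[F] V) v, by rw [O.map_app, hv]⟩
      have hfix : ((rO Q (σ x))⁻¹ * g : O Q).1 v = v := by
        rw [Subgroup.coe_mul, mul_app, show (g : V ≃ₗ[F] V) v = x from rfl]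
        have := congrArg ((rO Q (σ x))⁻¹ : O Q).1 (hσ x)
        rw [← mul_app, ← Subgroup.coe_mul, inv_mul_cancel] at this
        exact this.symm
      rcases hQ.stab_plane h2 ha hv0 hw hvw hfix with h | h
      · exact ⟨(x, false), by simp [ψ, (inv_mul_eq_one.1 h)]⟩
      · exact ⟨(x, true), by simp only [ψ, ↓reduceIte]; rw [← h, mul_inv_cancel_left]⟩
  rw [← Nat.card_eq_of_bijective ψ hbij, Nat.card_prod, hQ.card_sphere_plane h2 ha one_ne_zero]
  simp [mul_comm]

end Cfsg.Agent.Orthogonal
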