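import Cfsg.Agent.Orthogonal.Count
import Cfsg.Agent.Orthogonal.Plane
import Cfsg.Agent.Orthogonal.Extend

/-!
Orders of the finite orthogonal groups.
-/

set_option autoImplicit false

namespace Cfsg.Agent.Orthogonal

open QuadraticMap Module IsFrame

variable {F V : Type*} [Field F] [AddCommGroup V] [Module F V]
variable {Q : QuadraticForm F V}

/-- The hyperbolic pairs of `Q`. -/
abbrev HPair (Q : QuadraticForm F V) : Type _ :=
  {p : V × V // Q p.1 = 0 ∧ Q p.2 = 0 ∧ polar Q p.1 p.2 = 1}

/-- The partners of a singular vector correspond to the orthogonal of one hyperbolic plane. -/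
noncomputable def partnerEquiv {u f : V} (hu : Q u = 0) (hf : Q f = 0) (huf : polar Q u f = 1) :
    {x : V // Q x = 0 ∧ polar Q u x = 1} ≃ perp Q (Submodule.span F {u, f}) where
  toFun x := ⟨(x : V) - f - polar Q f x • u, by
    rw [mem_perp_span_pair]
    simp only [polar_sub_right, polar_smul_right', polar_self', hu, hf, huf, x.2.2,
      polar_comm (⇑Q) f u]
    constructor <;> ring⟩
  invFun w := ⟨f + (w : V) + (-Q (w : V)) • u, by
    have hw := (mem_perp_span_pair Q).1 w.2
    refine ⟨?_, ?_⟩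
    · simp only [map_add_polar, qmap_smul, polar_add_left, polar_smul_right', hu, hf, hw.2,
        polar_comm (⇑Q) f u, huf, polar_comm (⇑Q) (w : V) u, hw.1]
      ring
    · simp only [polar_add_right, polar_smul_right', polar_self', hu, huf, hw.1]
      ring⟩
  left_inv x := by
    apply Subtype.ext
    obtain ⟨x, hx0, hx1⟩ := x
    have hQw : Q (x - f - polar Q f x • u) = -polar Q f x := by
      simp only [qmap_sub, qmap_smul, polar_sub_left, polar_smul_right', hu, hf, hx0, huf,
        polar_comm (⇑Q) x u, hx1, polar_comm (⇑Q) f u, polar_comm (⇑Q) x f]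
      ring
    simp only [hQw, neg_neg]
    abel
  right_inv w := by
    apply Subtype.ext
    have hw := (mem_perp_span_pair Q).1 w.2
    have hfx : polar Q f (f + (w : V) + (-Q (w : V)) • u) = -Q (w : V) := by
      simp only [polar_add_right, polar_smul_right', polar_self', hf, hw.2, polar_comm (⇑Q) f u, huf]
      ring
    simp only [hfx]
    abel

theorem card_hpair [Finite F] [FiniteDimensional F V] (hQ : Nondeg Q) :
    Nat.card (HPair Q) * Nat.card F ^ 2 =
      (Nat.card {x : V // Q x = 0} - 1) * Nat.card F ^ finrank F V := by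
  classical
  have : Finite V := Module.finite_of_finite F
  have := Fintype.ofFinite V
  let φ : HPair Q → {u : {x : V // Q x = 0} // (u : V) ≠ 0} := fun p =>
    ⟨⟨p.1.1, p.2.1⟩, fun h => by
      have h3 := p.2.2.2
      change p.1.1 = 0 at h
      rw [h, polar_zero_left] at h3
      exact zero_ne_one h3⟩
  have hfib : ∀ u, Nat.card {p // φ p = u} * Nat.card F ^ 2 = Nat.card F ^ finrank F V := by
    rintro ⟨⟨u, hu⟩, hu0⟩
    obtain ⟨f, hf, huf⟩ := hQ.exists_partner hu0 hu
    have e : {p // φ p = ⟨⟨u, hu⟩, hu0⟩} ≃ {x : V // Q x = 0 ∧ polar Q u x = 1} :=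
      { toFun := fun p => ⟨p.1.1.2, p.1.2.2.1, by
          have h := congrArg (fun t => t.1.1) p.2
          change p.1.1.1 = u at h
          exact (congrArg (fun t => polar Q t p.1.1.2) h).symm.trans p.1.2.2.2⟩
        invFun := fun x => ⟨⟨(u, x.1), hu, x.2.1, x.2.2⟩, rfl⟩
        left_inv := fun p => by
          have h := congrArg (fun t => t.1.1) p.2
          change p.1.1.1 = u at h
          exact Subtype.ext (Subtype.ext (Prod.ext h.symm rfl))
        right_inv := fun _ => rfl }
    rw [Nat.card_congr (e.trans (partnerEquiv hu hf huf)), natCard_eq_pow, ← pow_add,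
      hQ.finrank_hyperbolic_perp hu hf huf]
  rw [← Nat.card_congr (Equiv.sigmaFiberEquiv φ), Nat.card_sigma, Finset.sum_mul,
    Finset.sum_congr rfl (fun u _ => hfib u), Finset.sum_const, smul_eq_mul, Finset.card_univ]
  congr 1
  have h0 : Fintype.card {u : {x : V // Q x = 0} // (u : V) = 0} = 1 := by
    rw [Fintype.card_eq_one_iff]
    exact ⟨⟨⟨0, QuadraticMap.map_zero Q⟩, rfl⟩, fun y => Subtype.ext (Subtype.ext y.2)⟩
  rw [Fintype.card_subtype_compl, h0, Nat.card_eq_fintype_card]

/-- Orbit–stabiliser for hyperbolic pairs. -/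
theorem card_O_step [Finite F] [FiniteDimensional F V] (hQ : Nondeg Q) {u f : V} (hu : Q u = 0)
    (hf : Q f = 0) (huf : polar Q u f = 1) :
    Nat.card (O Q) =
      Nat.card (HPair Q) * Nat.card (O (restr Q (perp Q (Submodule.span F {u, f})))) := by
  set H := Submodule.span F {u, f}
  have hH : Nondeg (restr Q (perp Q H)) := hQ.nondeg_hyperbolic_perp hu hf huf
  choose σ hσ using fun p : HPair Q =>
    exists_map_pair hQ hu hf huf p.2.1 p.2.2.1 p.2.2.2
  rw [← Nat.card_prod]
  refine (Nat.card_eq_of_bijective (fun p => σ p.1 * extendO hQ hH p.2) ⟨?_, ?_⟩).symm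
  · rintro ⟨p, a⟩ ⟨p', a'⟩ h
    simp only at h
    have key : ∀ p a, (σ p * extendO hQ hH a : O Q).1 u = p.1.1 ∧
        (σ p * extendO hQ hH a : O Q).1 f = p.1.2 := by
      intro p a
      have hfix : ∀ y ∈ H, (extendO hQ hH a : V ≃ₗ[F] V) y = y := fun y hy =>
        extendO_app_perp hQ hH a (by rw [hQ.perp_perp]; exact hy)
      simp only [Subgroup.coe_mul, mul_app, hfix u (Submodule.subset_span (by simp)),
        hfix f (Submodule.subset_span (by simp))]
      exact hσ p
    obtain ⟨h1, h2⟩ := key p a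
    obtain ⟨h1', h2'⟩ := key p' a'
    have hp : p = p' := Subtype.ext (Prod.ext (by rw [← h1, h, h1']) (by rw [← h2, h, h2']))
    subst hp
    exact Prod.ext rfl (extendO_injective hQ hH (mul_left_cancel h))
  · intro g
    let p : HPair Q := ⟨((g : V ≃ₗ[F] V) u, (g : V ≃ₗ[F] V) f), by
      rw [O.map_app]; exact hu, by rw [O.map_app]; exact hf, by rw [O.polar_app]; exact huf⟩
    have hmem : (σ p)⁻¹ * g ∈ (extendO hQ hH).range := by
      rw [mem_range_extendO, hQ.perp_perp]
      have key : ∀ x, (σ p : V ≃ₗ[F] V) x = (g : V ≃ₗ[F] V) x →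
          ((σ p)⁻¹ * g : O Q).1 x = x := fun x hx => by
        rw [Subgroup.coe_mul, mul_app, ← hx, ← mul_app, ← Subgroup.coe_mul, inv_mul_cancel]; rfl
      intro y hy
      obtain ⟨a, b, rfl⟩ := Submodule.mem_span_pair.1 hy
      rw [map_add, map_smul, map_smul, key u (hσ p).1, key f (hσ p).2]
    obtain ⟨a, ha⟩ := hmem
    exact ⟨(p, a), by simp only; rw [ha, mul_inv_cancel_left]⟩

/-- The frame left after removing the first pair, inside the orthogonal of that pair. -/
theorem IsFrame.restr_tail {k : ℕ} {e f : Fin (k + 1) → V} (h : IsFrame Q e f)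
    (ha : Aniso Q (kernel Q e f)) :
    ∃ (e' f' : Fin k → perp Q (Submodule.span F {e 0, f 0})),
      IsFrame (restr Q _) e' f' ∧ Aniso (restr Q _) (kernel (restr Q _) e' f') := by
  have he : ∀ i : Fin k, e i.succ ∈ perp Q (Submodule.span F {e 0, f 0}) := fun i =>
    (mem_perp_span_pair Q).2 ⟨h.ee _ _, by simp [h.fe, (Fin.succ_ne_zero i).symm]⟩
  have hf : ∀ i : Fin k, f i.succ ∈ perp Q (Submodule.span F {e 0, f 0}) := fun i =>
    (mem_perp_span_pair Q).2 ⟨by simp [h.ef, (Fin.succ_ne_zero i).symm], h.ff _ _⟩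
  refine ⟨fun i => ⟨e i.succ, he i⟩, fun i => ⟨f i.succ, hf i⟩,
    ⟨fun i => h.qe _, fun i => h.qf _, fun i j => ?_, fun i j => ?_, fun i j => ?_⟩, ?_⟩
  · rw [polar_restr]; simp [h.ef]
  · rw [polar_restr]; exact h.ee _ _
  · rw [polar_restr]; exact h.ff _ _
  · intro x hx hQx
    refine Subtype.ext (ha x ?_ hQx)
    have hx' := IsFrame.mem_kernel.1 hx
    have hx0 := (mem_perp_span_pair Q).1 x.2
    refine IsFrame.mem_kernel.2 ⟨fun i => ?_, fun i => ?_⟩ <;> cases i using Fin.cases with
    | zero => first | exact hx0.1 | exact hx0.2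
    | succ i => first
      | (have := hx'.1 i; rwa [polar_restr] at this)
      | (have := hx'.2 i; rwa [polar_restr] at this)

/-- The Witt-index product `∏ (q^(2i+2) - 1)`. -/
def oprod (q m : ℕ) : ℕ := ∏ i ∈ Finset.range m, (q ^ (2 * (i + 1)) - 1)

theorem oprod_succ (q m : ℕ) : oprod q (m + 1) = oprod q m * (q ^ (2 * (m + 1)) - 1) :=
  Finset.prod_range_succ _ _

universe v

variable {F : Type*} [Field F] [Finite F]

/-- `|O_{2k+1}(q)|`. -/
theorem card_O_odd : ∀ (k : ℕ) {V : Type v} [AddCommGroup V] [Module F V] [FiniteDimensional F V]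
    (Q : QuadraticForm F V), Nondeg Q → ∀ {e f : Fin k → V}, IsFrame Q e f →
    Aniso Q (kernel Q e f) → finrank F V = 2 * k + 1 →
    Nat.card (O Q) = 2 * Nat.card F ^ (k ^ 2) * oprod (Nat.card F) k := by
  intro k
  induction k with
  | zero =>
    intro V _ _ _ Q hQ e f _ _ hn
    have : Nontrivial V := Module.finrank_pos_iff.1 (by omega : 0 < finrank F V)
    obtain ⟨v, hv⟩ := exists_ne (0 : V)
    have hspan : ∀ x, ∃ c : F, c • v = x := (finrank_eq_one_iff_of_nonzero' v hv).1 (by omega)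
    have hQv : Q v ≠ 0 ∧ (2 : F) ≠ 0 := by
      obtain ⟨y, hy⟩ := hQ.exists_polar_ne hv
      obtain ⟨c, rfl⟩ := hspan y
      rw [polar_smul_right', polar_self'] at hy
      exact ⟨fun h => hy (by rw [h]; ring), fun h => hy (by rw [h]; ring)⟩
    have hne : rO Q v ≠ 1 := fun h => by
      have h1 := congrArg (fun g : O Q => (g : V ≃ₗ[F] V) v) h
      simp only [OneMemClass.coe_one, one_app, rO_self hQv.1] at h1
      rw [neg_eq_iff_add_eq_zero, ← two_smul F, smul_eq_zero] at h1
      exact h1.elim hQv.2 hv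
    have hall : ∀ g : O Q, g = 1 ∨ g = rO Q v := fun g => by
      obtain ⟨c, hc⟩ := hspan ((g : V ≃ₗ[F] V) v)
      have h1 := O.map_app g v
      rw [← hc, qmap_smul] at h1
      have h2 : (c - 1) * (c + 1) = 0 :=
        mul_right_cancel₀ hQv.1 (by linear_combination h1)
      rcases mul_eq_zero.1 h2 with h3 | h3
      · refine Or.inl (O.ext_app fun x => ?_)
        obtain ⟨a, rfl⟩ := hspan x
        rw [map_smul, ← hc, sub_eq_zero.1 h3, one_smul]; rfl
      · refine Or.inr (O.ext_app fun x => ?_)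
        obtain ⟨a, rfl⟩ := hspan x
        rw [map_smul, map_smul, ← hc, eq_neg_of_add_eq_zero_left h3, rO_self hQv.1, neg_one_smul]
    have h2 : Nat.card (O Q) = 2 :=
      Nat.card_eq_two_iff.2 ⟨1, rO Q v, hne.symm, Set.eq_univ_of_forall fun g => by
        simpa using hall g⟩
    rw [h2]; simp [oprod]
  | succ k ih =>
    intro V _ _ _ Q hQ e f h ha hn
    obtain ⟨e', f', h', ha'⟩ := h.restr_tail ha
    have huf : polar Q (e 0) (f 0) = 1 := by simp [h.ef]
    have hH := hQ.nondeg_hyperbolic_perp (h.qe 0) (h.qf 0) huf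
    have hn' := hQ.finrank_hyperbolic_perp (h.qe 0) (h.qf 0) huf
    rw [card_O_step hQ (h.qe 0) (h.qf 0) huf, ih _ hH h' ha' (by omega), oprod_succ]
    have hr := h.finrank_kernel hQ
    have hz := card_zero_frame h ha
    have hp := card_hpair hQ
    rw [hn] at hr hp
    rw [show finrank F (kernel Q e f) = 1 by omega] at hz
    set q := Nat.card F with hq
    have hq0 : 0 < q := Nat.card_pos
    set N := Nat.card {x : V // Q x = 0}
    have hN : N = q ^ (2 * (k + 1)) :=
      Nat.eq_of_mul_eq_mul_left hq0 (by rw [← pow_succ']; omega)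
    rw [hN] at hp
    have hP : Nat.card (HPair Q) = (q ^ (2 * (k + 1)) - 1) * q ^ (2 * k + 1) :=
      Nat.eq_of_mul_eq_mul_right (pow_pos hq0 2) (by rw [hp, mul_assoc, ← pow_add]; ring_nf)
    rw [hP, show (k + 1) ^ 2 = (2 * k + 1) + k ^ 2 by ring, pow_add]
    ring

/-- `|O⁺_{2(k+1)}(q)|`. -/
theorem card_O_plus : ∀ (k : ℕ) {V : Type v} [AddCommGroup V] [Module F V] [FiniteDimensional F V]
    (Q : QuadraticForm F V), Nondeg Q → ∀ {e f : Fin (k + 1) → V}, IsFrame Q e f →
    Aniso Q (kernel Q e f) → finrank F V = 2 * (k + 1) →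
    Nat.card (O Q) =
      2 * Nat.card F ^ ((k + 1) * k) * (Nat.card F ^ (k + 1) - 1) * oprod (Nat.card F) k := by
  intro k
  induction k with
  | zero =>
    intro V _ _ _ Q hQ e f h ha hn
    have huf : polar Q (e 0) (f 0) = 1 := by simp [h.ef]
    have hn' := hQ.finrank_hyperbolic_perp (h.qe 0) (h.qf 0) huf
    have : Subsingleton (perp Q (Submodule.span F {e 0, f 0})) :=
      Module.finrank_zero_iff.1 (by omega : finrank F (perp Q (Submodule.span F {e 0, f 0})) = 0)
    have h1 : Nat.card (O (restr Q (perp Q (Submodule.span F {e 0, f 0})))) = 1 :=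
      Nat.card_eq_one_iff_unique.2 ⟨⟨fun a b => O.ext_app fun _ => Subsingleton.elim _ _⟩, ⟨1⟩⟩
    rw [card_O_step hQ (h.qe 0) (h.qf 0) huf, h1]
    have hz := card_zero_frame h ha
    have hr := h.finrank_kernel hQ
    have hp := card_hpair hQ
    rw [hn] at hr hp
    rw [show finrank F (kernel Q e f) = 0 by omega] at hz
    set q := Nat.card F with hq
    have hq0 : 0 < q := Nat.card_pos
    set N := Nat.card {x : V // Q x = 0}
    have hN : N + 1 = 2 * q :=
      Nat.eq_of_mul_eq_mul_left hq0 (by simp at hz; rw [mul_add, mul_one]; linarith)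
    have hP : Nat.card (HPair Q) = N - 1 :=
      Nat.eq_of_mul_eq_mul_right (pow_pos hq0 2) (by simpa using hp)
    simp [oprod, hP]
    omega
  | succ k ih =>
    intro V _ _ _ Q hQ e f h ha hn
    obtain ⟨e', f', h', ha'⟩ := h.restr_tail ha
    have huf : polar Q (e 0) (f 0) = 1 := by simp [h.ef]
    have hH := hQ.nondeg_hyperbolic_perp (h.qe 0) (h.qf 0) huf
    have hn' := hQ.finrank_hyperbolic_perp (h.qe 0) (h.qf 0) huf
    rw [card_O_step hQ (h.qe 0) (h.qf 0) huf, ih _ hH h' ha' (by omega), oprod_succ]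
    have hr := h.finrank_kernel hQ
    have hz := card_zero_frame h ha
    have hp := card_hpair hQ
    rw [hn] at hr hp
    rw [show finrank F (kernel Q e f) = 0 by omega] at hz
    set q := Nat.card F with hq
    have hq0 : 0 < q := Nat.card_pos
    set N := Nat.card {x : V // Q x = 0}
    obtain ⟨a, ha1⟩ : ∃ a, q ^ (k + 1) = a + 1 := ⟨q ^ (k + 1) - 1, by
      have := pow_pos hq0 (k + 1); omega⟩
    obtain ⟨b, hb1⟩ : ∃ b, q ^ (k + 2) = b + 1 := ⟨q ^ (k + 2) - 1, by
      have := pow_pos hq0 (k + 2); omega⟩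
    have hN : N = b * (a + 2) + 1 := by
      refine Nat.eq_of_mul_eq_mul_left hq0 ?_
      have e1 : q ^ (2 * (k + 1 + 1) + 0) = q * ((b + 1) * (a + 1)) := by
        rw [← hb1, ← ha1]; ring
      have e2 : q ^ (k + 1 + 1 + 1) = q * (b + 1) := by rw [← hb1]; ring
      have e3 : q ^ (k + 1 + 1 + 0) = q * (a + 1) := by rw [← ha1]; ring
      rw [e1, e2, e3] at hz
      linarith
    rw [hN, Nat.add_sub_cancel] at hp
    have hP : Nat.card (HPair Q) = b * (a + 2) * q ^ (2 * (k + 1)) :=
      Nat.eq_of_mul_eq_mul_right (pow_pos hq0 2) (by rw [hp]; ring)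
    have h2 : q ^ (2 * (k + 1)) - 1 = a * (a + 2) := by
      rw [show 2 * (k + 1) = (k + 1) + (k + 1) by ring, pow_add, ha1]
      exact Nat.sub_eq_of_eq_add (by ring)
    rw [hP, show (k + 1 + 1) * (k + 1) = (k + 1) * k + 2 * (k + 1) by ring, h2,
      show k + 1 + 1 = k + 2 from rfl, hb1, ha1, Nat.add_sub_cancel, Nat.add_sub_cancel, pow_add]
    ring

/-- `|O⁻_{2(k+1)}(q)|`, for a frame of length `k`. -/
theorem card_O_minus : ∀ (k : ℕ) {V : Type v} [AddCommGroup V] [Module F V] [FiniteDimensional F V]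
    (Q : QuadraticForm F V), Nondeg Q → ∀ {e f : Fin k → V}, IsFrame Q e f →
    Aniso Q (kernel Q e f) → finrank F V = 2 * (k + 1) →
    Nat.card (O Q) =
      2 * Nat.card F ^ ((k + 1) * k) * (Nat.card F ^ (k + 1) + 1) * oprod (Nat.card F) k := by
  intro k
  induction k with
  | zero =>
    intro V _ _ _ Q hQ e f h ha hn
    have hk : kernel Q e f = ⊤ :=
      eq_top_iff.2 fun x _ => IsFrame.mem_kernel.2 ⟨fun i => i.elim0, fun i => i.elim0⟩
    rw [hQ.card_O_plane hn fun x hx => ha x (by rw [hk]; trivial) hx]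
    simp [oprod]
  | succ k ih =>
    intro V _ _ _ Q hQ e f h ha hn
    obtain ⟨e', f', h', ha'⟩ := h.restr_tail ha
    have huf : polar Q (e 0) (f 0) = 1 := by simp [h.ef]
    have hH := hQ.nondeg_hyperbolic_perp (h.qe 0) (h.qf 0) huf
    have hn' := hQ.finrank_hyperbolic_perp (h.qe 0) (h.qf 0) huf
    rw [card_O_step hQ (h.qe 0) (h.qf 0) huf, ih _ hH h' ha' (by omega), oprod_succ]
    have hr := h.finrank_kernel hQ
    have hz := card_zero_frame h ha
    have hp := card_hpair hQ
    rw [hn] at hr hp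
    rw [show finrank F (kernel Q e f) = 2 by omega] at hz
    set q := Nat.card F with hq
    have hq0 : 0 < q := Nat.card_pos
    set N := Nat.card {x : V // Q x = 0}
    obtain ⟨a, ha1⟩ : ∃ a, q ^ (k + 1) = a + 1 := ⟨q ^ (k + 1) - 1, by
      have := pow_pos hq0 (k + 1); omega⟩
    obtain ⟨b, hb1⟩ : ∃ b, q ^ (k + 2) = b + 1 := ⟨q ^ (k + 2) - 1, by
      have := pow_pos hq0 (k + 2); omega⟩
    have hN : N = a * (b + 2) + 1 := by
      refine Nat.eq_of_mul_eq_mul_left hq0 ?_
      have e1 : q ^ (2 * (k + 1) + 2) = q * ((b + 1) * (a + 1)) := by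
        rw [← hb1, ← ha1]; ring
      have e2 : q ^ (k + 1 + 1) = q * (a + 1) := by rw [← ha1]; ring
      have e3 : q ^ (k + 1 + 2) = q * (b + 1) := by rw [← hb1]; ring
      rw [e1, e2, e3] at hz
      linarith
    rw [hN, Nat.add_sub_cancel] at hp
    have hP : Nat.card (HPair Q) = a * (b + 2) * q ^ (2 * (k + 1)) :=
      Nat.eq_of_mul_eq_mul_right (pow_pos hq0 2) (by rw [hp]; ring)
    have h2 : q ^ (2 * (k + 1)) - 1 = a * (a + 2) := by
      rw [show 2 * (k + 1) = (k + 1) + (k + 1) by ring, pow_add, ha1]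
      exact Nat.sub_eq_of_eq_add (by ring)
    rw [hP, show (k + 1 + 1) * (k + 1) = (k + 1) * k + 2 * (k + 1) by ring, h2,
      show k + 1 + 1 = k + 2 from rfl, hb1, ha1, pow_add]
    ring

end Cfsg.Agent.Orthogonal
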