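import Cfsg.Agent.Orthogonal.Frame

/-!
Point counts of quadratic forms over finite fields, by splitting off hyperbolic pairs.
-/

set_option autoImplicit false

namespace Cfsg.Agent.Orthogonal

open QuadraticMap Module IsFrame

variable {F V : Type*} [Field F] [AddCommGroup V] [Module F V]
variable {Q : QuadraticForm F V}

/-- The number of vectors of `K` on which `Q` takes the value `c`. -/
noncomputable def sphereCard (Q : QuadraticForm F V) (K : Submodule F V) (c : F) : ℕ :=
  Nat.card {x : K // Q (x : V) = c}

theorem sphereCard_top (Q : QuadraticForm F V) (c : F) :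
    sphereCard Q ⊤ c = Nat.card {x : V // Q x = c} :=
  Nat.card_congr ((Submodule.topEquiv.toEquiv).subtypeEquiv fun _ => Iff.rfl)

/-- Splitting a hyperbolic pair `u, v` off a subspace. -/
noncomputable def splitPair {K : Submodule F V} {u v : V} (hu : u ∈ K) (hv : v ∈ K)
    (hQu : Q u = 0) (hQv : Q v = 0) (huv : polar Q u v = 1) :
    K ≃ (F × F) × (K ⊓ perp Q (Submodule.span F {u, v}) : Submodule F V) where
  toFun x := ((polar Q v x, polar Q u x), ⟨(x : V) - polar Q v x • u - polar Q u x • v,
    K.sub_mem (K.sub_mem x.2 (K.smul_mem _ hu)) (K.smul_mem _ hv), by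
      rw [SetLike.mem_coe, mem_perp_span_pair]
      constructor <;>
      · simp only [polar_sub_right, polar_smul_right', polar_self', hQu, hQv, huv,
          polar_comm (⇑Q) v u]
        ring⟩)
  invFun p := ⟨p.1.1 • u + p.1.2 • v + (p.2 : V),
    K.add_mem (K.add_mem (K.smul_mem _ hu) (K.smul_mem _ hv)) p.2.2.1⟩
  left_inv x := Subtype.ext (by simp only; abel)
  right_inv p := by
    obtain ⟨⟨a, b⟩, w, hwK, hw⟩ := p
    rw [SetLike.mem_coe, mem_perp_span_pair] at hw
    have ha : polar Q v (a • u + b • v + w) = a := by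
      simp only [polar_add_right, polar_smul_right', polar_self', hQv, huv, hw.2,
        polar_comm (⇑Q) v u]
      ring
    have hb : polar Q u (a • u + b • v + w) = b := by
      simp only [polar_add_right, polar_smul_right', polar_self', hQu, huv, hw.1]
      ring
    refine Prod.ext (Prod.ext ha hb) (Subtype.ext ?_)
    simp only [ha, hb]
    abel

theorem splitPair_value {K : Submodule F V} {u v : V} (hu : u ∈ K) (hv : v ∈ K)
    (hQu : Q u = 0) (hQv : Q v = 0) (huv : polar Q u v = 1) (a b : F)
    (w : (K ⊓ perp Q (Submodule.span F {u, v}) : Submodule F V)) :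
    Q ((splitPair hu hv hQu hQv huv).symm ((a, b), w) : V) = a * b + Q (w : V) := by
  have hw := (mem_perp_span_pair Q).1 w.2.2
  simp only [splitPair, Equiv.coe_fn_symm_mk, map_add_polar, qmap_smul, hQu, hQv, polar_add_left,
    polar_smul_left', polar_smul_right', huv, hw.1, hw.2]
  ring

variable [Finite F]

/-- The number of pairs `(a, b)` with `a * b = d`. -/
theorem card_mul_eq (d : F) [Decidable (d = 0)] :
    Nat.card {p : F × F // p.1 * p.2 = d} + 1 =
      Nat.card F + if d = 0 then Nat.card F else 0 := by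
  classical
  have : Fintype F := Fintype.ofFinite F
  have hcard : Nat.card {p : F × F // p.1 * p.2 = d} =
      ∑ a : F, Nat.card {b : F // a * b = d} := by
    rw [← Nat.card_sigma]
    exact Nat.card_congr
      { toFun := fun p => ⟨p.1.1, p.1.2, p.2⟩
        invFun := fun s => ⟨(s.1, s.2.1), s.2.2⟩
        left_inv := fun _ => rfl
        right_inv := fun _ => rfl }
  rw [hcard, ← Finset.sum_erase_add Finset.univ _ (Finset.mem_univ 0)]
  have h1 : ∀ a ∈ (Finset.univ : Finset F).erase 0, Nat.card {b : F // a * b = d} = 1 := by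
    intro a ha
    have ha0 := Finset.ne_of_mem_erase ha
    rw [Nat.card_eq_one_iff_unique]
    exact ⟨⟨fun x y => Subtype.ext (mul_left_cancel₀ ha0 (x.2.trans y.2.symm))⟩,
      ⟨⟨d / a, mul_div_cancel₀ d ha0⟩⟩⟩
  rw [Finset.sum_congr rfl h1, Finset.sum_const, smul_eq_mul, mul_one,
    Finset.card_erase_of_mem (Finset.mem_univ 0), Finset.card_univ, Nat.card_eq_fintype_card
      (α := F)]
  have hpos : 1 ≤ Fintype.card F := Fintype.card_pos
  split_ifs with hd
  · subst hd
    have : Nat.card {b : F // 0 * b = 0} = Fintype.card F := by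
      rw [← Nat.card_eq_fintype_card]
      exact Nat.card_congr (Equiv.subtypeUnivEquiv fun b => zero_mul b)
    omega
  · have : Nat.card {b : F // 0 * b = d} = 0 := by
      rw [Nat.card_eq_zero]
      exact Or.inl ⟨fun x => hd (by rw [← x.2, zero_mul])⟩
    omega

variable [FiniteDimensional F V]

omit [Finite F] in
theorem natCard_eq_pow (W : Submodule F V) : Nat.card W = Nat.card F ^ finrank F W :=
  Module.natCard_eq_pow_finrank

/-- The recursion for sphere counts: splitting off a hyperbolic pair. -/
theorem sphereCard_step {K : Submodule F V} {u v : V} (hu : u ∈ K) (hv : v ∈ K)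
    (hQu : Q u = 0) (hQv : Q v = 0) (huv : polar Q u v = 1) (c : F) :
    sphereCard Q K c + Nat.card (K ⊓ perp Q (Submodule.span F {u, v}) : Submodule F V) =
      Nat.card F * Nat.card (K ⊓ perp Q (Submodule.span F {u, v}) : Submodule F V) +
        Nat.card F * sphereCard Q (K ⊓ perp Q (Submodule.span F {u, v})) c := by
  classical
  set K' := K ⊓ perp Q (Submodule.span F {u, v})
  have : Finite V := Module.finite_of_finite F
  have : Fintype K' := Fintype.ofFinite K'
  have e : {x : K // Q (x : V) = c} ≃ Σ w : K', {p : F × F // p.1 * p.2 = c - Q (w : V)} :=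
    { toFun := fun x => ⟨(splitPair hu hv hQu hQv huv x.1).2,
        (splitPair hu hv hQu hQv huv x.1).1, by
          have h := splitPair_value hu hv hQu hQv huv (splitPair hu hv hQu hQv huv x.1).1.1
            (splitPair hu hv hQu hQv huv x.1).1.2 (splitPair hu hv hQu hQv huv x.1).2
          simp only [Prod.mk.eta, Equiv.symm_apply_apply, x.2] at h
          linear_combination -h⟩
      invFun := fun p => ⟨(splitPair hu hv hQu hQv huv).symm (p.2.1, p.1), by
          have h := p.2.2
          rw [splitPair_value hu hv hQu hQv huv p.2.1.1 p.2.1.2 p.1]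
          linear_combination h⟩
      left_inv := fun x => Subtype.ext (Equiv.symm_apply_apply _ _)
      right_inv := by
        rintro ⟨w, p, hp⟩
        have h := Equiv.apply_symm_apply (splitPair hu hv hQu hQv huv) (p, w)
        refine Sigma.subtype_ext ?_ ?_
        · exact (congrArg Prod.snd h)
        · exact (congrArg Prod.fst h) }
  have hsum : sphereCard Q K c + Nat.card K' =
      ∑ w : K', (Nat.card F + if Q (w : V) = c then Nat.card F else 0) := by
    rw [sphereCard, Nat.card_congr e, Nat.card_sigma, Nat.card_eq_fintype_card (α := K'),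
      ← Finset.card_univ, Finset.card_eq_sum_ones, ← Finset.sum_add_distrib]
    refine Finset.sum_congr rfl fun w _ => ?_
    rw [card_mul_eq]
    congr 1
    by_cases hw : Q (w : V) = c
    · rw [if_pos (sub_eq_zero.2 hw.symm), if_pos hw]
    · rw [if_neg (fun h0 => hw (sub_eq_zero.1 h0).symm), if_neg hw]
  rw [hsum, Finset.sum_add_distrib, Finset.sum_const, smul_eq_mul, ← Finset.sum_filter,
    Finset.sum_const, smul_eq_mul, Finset.card_univ, ← Nat.card_eq_fintype_card, sphereCard,
    Nat.card_eq_fintype_card (α := {x : K' // Q (x : V) = c}), Fintype.card_subtype]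
  ring

omit [Finite F] [FiniteDimensional F V] in
theorem kernel_succ {k : ℕ} (e f : Fin (k + 1) → V) :
    kernel Q e f =
      kernel Q (Fin.tail e) (Fin.tail f) ⊓ perp Q (Submodule.span F {e 0, f 0}) := by
  rw [IsFrame.kernel, IsFrame.kernel, ← perp_sup, hspan, hspan, ← Submodule.span_union]
  congr 2
  ext x
  simp only [Set.mem_range, Sum.exists, Sum.elim_inl, Sum.elim_inr, Fin.exists_fin_succ,
    Set.mem_union, Set.mem_insert_iff, Set.mem_singleton_iff, Fin.tail]
  tauto

/-- The count of vectors of a given norm, in terms of a frame and its kernel. -/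
theorem sphereCard_frame {k : ℕ} {e f : Fin k → V} (h : IsFrame Q e f) (c : F) :
    Nat.card F * sphereCard Q ⊤ c + Nat.card F ^ k * Nat.card (kernel Q e f) =
        Nat.card V + Nat.card F ^ (k + 1) * sphereCard Q (kernel Q e f) c ∧
      Nat.card V = Nat.card F ^ (2 * k) * Nat.card (kernel Q e f) := by
  induction k with
  | zero =>
    have hk : kernel Q e f = ⊤ := by
      refine eq_top_iff.2 fun x _ => mem_kernel.2 ⟨fun i => i.elim0, fun i => i.elim0⟩
    rw [hk]
    have hc : Nat.card (⊤ : Submodule F V) = Nat.card V := Nat.card_congr Submodule.topEquiv.toEquiv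
    constructor
    · rw [hc]; ring
    · rw [hc]; ring
  | succ k ih =>
    obtain ⟨ih1, ih2⟩ := ih h.tail
    have hu : e 0 ∈ kernel Q (Fin.tail e) (Fin.tail f) :=
      mem_kernel.2 ⟨fun i => h.ee _ _, fun i => by simp [Fin.tail, h.fe, Fin.succ_ne_zero]⟩
    have hv : f 0 ∈ kernel Q (Fin.tail e) (Fin.tail f) :=
      mem_kernel.2 ⟨fun i => by simp [Fin.tail, h.ef, Fin.succ_ne_zero], fun i => h.ff _ _⟩
    have huv : polar Q (e 0) (f 0) = 1 := by simp [h.ef]
    have hstep := sphereCard_step hu hv (h.qe 0) (h.qf 0) huv c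
    have hcard : Nat.card (kernel Q (Fin.tail e) (Fin.tail f)) =
        Nat.card F ^ 2 * Nat.card (kernel Q e f) := by
      rw [kernel_succ e f, Nat.card_congr (splitPair hu hv (h.qe 0) (h.qf 0) huv), Nat.card_prod,
        Nat.card_prod, pow_two]
    rw [← kernel_succ e f] at hstep
    rw [hcard] at ih1 ih2
    set N := sphereCard Q ⊤ c
    set q := Nat.card F
    set C := Nat.card (kernel Q e f)
    set S := sphereCard Q (kernel Q (Fin.tail e) (Fin.tail f)) c
    set S' := sphereCard Q (kernel Q e f) c
    refine ⟨?_, ?_⟩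
    · have h2 : q ^ (k + 1) * (S + C) = q ^ (k + 1) * (q * C + q * S') := by rw [hstep]
      linarith [pow_succ q (k + 1), pow_succ q k,
        show q ^ k * (q ^ 2 * C) = q ^ (k + 2) * C by ring,
        show q ^ (k + 1) * (q * C + q * S') = q ^ (k + 2) * C + q ^ (k + 2) * S' by ring,
        show q ^ (k + 1) * (S + C) = q ^ (k + 1) * S + q ^ (k + 1) * C by ring]
    · rw [ih2]; ring

omit [Finite F] [FiniteDimensional F V] in
theorem sphereCard_zero_of_aniso {K : Submodule F V} (ha : Aniso Q K) : sphereCard Q K 0 = 1 := by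
  rw [sphereCard, Nat.card_eq_one_iff_unique]
  exact ⟨⟨fun x y => Subtype.ext (Subtype.ext ((ha _ x.1.2 x.2).trans (ha _ y.1.2 y.2).symm))⟩,
    ⟨⟨0, by simp⟩⟩⟩

/-- The number of zeros, for a frame with anisotropic kernel. -/
theorem card_zero_frame {k : ℕ} {e f : Fin k → V} (h : IsFrame Q e f)
    (ha : Aniso Q (kernel Q e f)) :
    Nat.card F * Nat.card {x : V // Q x = 0} + Nat.card F ^ (k + finrank F (kernel Q e f)) =
      Nat.card F ^ (2 * k + finrank F (kernel Q e f)) + Nat.card F ^ (k + 1) := by
  obtain ⟨h1, h2⟩ := sphereCard_frame h 0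
  rw [sphereCard_top, sphereCard_zero_of_aniso ha, natCard_eq_pow, ← pow_add, mul_one] at h1
  rw [h1, h2, natCard_eq_pow, ← pow_add]

/-- The length of a frame with anisotropic kernel is determined by the space. -/
theorem frame_length_eq {k k' : ℕ} {e f : Fin k → V} {e' f' : Fin k' → V} (hQ : Nondeg Q)
    (h : IsFrame Q e f) (ha : Aniso Q (kernel Q e f)) (h' : IsFrame Q e' f')
    (ha' : Aniso Q (kernel Q e' f')) : k = k' := by
  suffices key : ∀ {j j' : ℕ} {a b : Fin j → V} {a' b' : Fin j' → V}, IsFrame Q a b →
      Aniso Q (kernel Q a b) → IsFrame Q a' b' → Aniso Q (kernel Q a' b') → ¬ j < j' by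
    have := key h ha h' ha'
    have := key h' ha' h ha
    omega
  intro j j' a b a' b' h ha h' ha' hlt
  have h1 := card_zero_frame h ha
  have h2 := card_zero_frame h' ha'
  have hr := h.finrank_kernel hQ
  have hr' := h'.finrank_kernel hQ
  have hle := finrank_le_two_of_aniso (h.nondeg_kernel hQ) ha
  have h3 : finrank F (kernel Q a b) = 2 := by omega
  have h4 : finrank F (kernel Q a' b') = 0 := by omega
  have hj : j' = j + 1 := by omega
  rw [h3] at h1
  rw [h4, hj] at h2
  rw [show 2 * (j + 1) + 0 = 2 * j + 2 by ring, Nat.add_zero, show j + 1 + 1 = j + 2 by ring] at h2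
  have hlt2 : Nat.card F ^ (j + 1) < Nat.card F ^ (j + 2) :=
    Nat.pow_lt_pow_right Finite.one_lt_card (by omega)
  omega

end Cfsg.Agent.Orthogonal
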