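import Cfsg.Agent.Orthogonal.Index2Iso
import Cfsg.Agent.Orthogonal.Simple
import Cfsg.Prelude

/-!
The group generated by the reflections of one norm over the field with three elements: its
commutator subgroup, generalised Fitting subgroup, and primitivity on the reflections.
-/

set_option autoImplicit false

namespace Cfsg.Agent.Orthogonal

open QuadraticMap Module
open scoped commutatorElement

variable {F V : Type*} [Field F] [AddCommGroup V] [Module F V] [FiniteDimensional F V] [Finite F]
variable {Q : QuadraticForm F V}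

/-- Two vectors, one non-singular, have common perpendiculars of every norm. -/
theorem exists_perp_pair_value (hQ : Nondeg Q) (h2 : (2 : F) ≠ 0) (hn : 5 ≤ finrank F V) {u : V}
    (hu : Q u ≠ 0) (w : V) (d : F) :
    ∃ y, polar Q u y = 0 ∧ polar Q w y = 0 ∧ Q y = d := by
  set P := Submodule.span F {u, w} with hP
  have hPr : finrank F P ≤ 2 := by
    classical
    refine (finrank_span_le_card ({u, w} : Set V)).trans ?_
    rw [Set.toFinset_insert, Set.toFinset_singleton]
    exact Finset.card_le_two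
  have huP : u ∈ P := Submodule.subset_span (by simp)
  set R₀ := P ⊓ perp Q P with hR₀
  have hlt : R₀ < P := lt_of_le_of_ne inf_le_left fun h => by
    have := (h.symm ▸ huP : u ∈ R₀).2 u huP
    rw [polar_self'] at this
    exact mul_ne_zero h2 hu this
  have hR₀r := Submodule.finrank_lt_finrank_of_lt hlt
  obtain ⟨C, hC⟩ := Submodule.exists_isCompl (R₀.comap (perp Q P).subtype)
  set C' := C.map (perp Q P).subtype with hC'
  have hC'le : C' ≤ perp Q P := Submodule.map_subtype_le _ _
  have hsup : R₀ ⊔ C' = perp Q P := by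
    have := congrArg (Submodule.map (perp Q P).subtype) hC.sup_eq_top
    rw [Submodule.map_sup, Submodule.map_comap_subtype, Submodule.map_subtype_top,
      inf_of_le_right (inf_le_right : R₀ ≤ perp Q P)] at this
    exact this
  have hinf : R₀ ⊓ C' = ⊥ := by
    have := congrArg (Submodule.map (perp Q P).subtype) hC.inf_eq_bot
    rw [Submodule.map_inf _ (perp Q P).injective_subtype, Submodule.map_comap_subtype,
      Submodule.map_bot, inf_of_le_right (inf_le_right : R₀ ≤ perp Q P)] at this
    exact this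
  have hn' : Nondeg (restr Q C') := by
    rw [nondeg_restr_iff, eq_bot_iff]
    rintro x ⟨hx, hx'⟩
    rw [← hinf]
    refine ⟨⟨?_, hC'le hx⟩, hx⟩
    have : x ∈ perp Q (perp Q P) := by
      rw [← hsup, perp_sup]
      exact ⟨fun r hr => hC'le hx r hr.1, hx'⟩
    rwa [hQ.perp_perp] at this
  have h1 := hQ.finrank_add_perp P
  have h3 := Submodule.finrank_sup_add_finrank_inf_eq R₀ C'
  rw [hsup, hinf, finrank_bot] at h3
  obtain ⟨y, hy⟩ := hn'.exists_value (by omega) d
  obtain ⟨hy1, hy2⟩ := (mem_perp_span_pair (Q := Q)).1 (hC'le y.2)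
  exact ⟨y, hy1, hy2, hy⟩

/-- An isometry commuting with the commutator subgroup is a scalar. -/
theorem exists_scalar_of_commute (hQ : Nondeg Q) (hn : 5 ≤ finrank F V) (g : O Q)
    (hg : ∀ x ∈ commutator (O Q), g * x = x * g) : ∃ s : F, ∀ x, (g : V ≃ₗ[F] V) x = s • x := by
  refine exists_scalar_of_fix_points hQ hn g fun u hu0 hu => ?_
  set y := (g : V ≃ₗ[F] V) u
  have hfix : ∀ (w : V) (hw : polar Q u w = 0), (sie u w hu hw : V ≃ₗ[F] V) y = y := by
    intro w hw
    have h := hg _ (by rw [← sieGroup_eq_commutator hQ hn]; exact sie_mem hu hw)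
    have h' := congrArg (fun z : O Q => (z : V ≃ₗ[F] V) u) h
    simp only [Subgroup.coe_mul, mul_app, sie_fix] at h'
    exact h'.symm
  have hy : polar Q u y = 0 := by
    by_contra hc
    obtain ⟨w, hw, hwu⟩ : ∃ w ∈ perp Q (Submodule.span F {u}), w ∉ Submodule.span F {u} :=
      SetLike.not_le_iff_exists.1 fun h => by
        have h1 := Submodule.finrank_mono h
        have h2 := hQ.finrank_perp_singleton hu0
        rw [finrank_span_singleton hu0] at h1
        omega
    have := hfix w ((mem_perp_span_singleton (Q := Q)).1 hw)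
    rw [sie_app, add_sub_assoc, add_eq_left, sub_eq_zero] at this
    refine hwu (Submodule.mem_span_singleton.2
      ⟨(polar Q u y)⁻¹ * (polar Q w y - Q w * polar Q u y), ?_⟩)
    rw [mul_smul, this, inv_smul_smul₀ hc]
  have hmem : y ∈ perp Q (perp Q (Submodule.span F {u})) := fun w hw => by
    have := hfix w ((mem_perp_span_singleton (Q := Q)).1 hw)
    rw [sie_app, hy, zero_smul, sub_zero, mul_zero, sub_zero, add_eq_left, smul_eq_zero] at this
    exact this.resolve_right hu0
  rwa [hQ.perp_perp] at hmem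

variable {c : F}

theorem value_cases (h3 : ∀ x : F, x = 0 ∨ x = 1 ∨ x = -1) (hc : c ≠ 0) (x : F) :
    x = 0 ∨ x = c ∨ x = -c := by
  rcases h3 (x / c) with h | h | h
  · exact Or.inl ((div_eq_zero_iff.1 h).resolve_right hc)
  · exact Or.inr (Or.inl (by rw [div_eq_one_iff_eq hc] at h; exact h))
  · exact Or.inr (Or.inr (by rw [div_eq_iff hc] at h; rw [h]; ring))

theorem rO_mem_classGroup_of_value (hc : c ≠ 0) {v : V} (hv : Q v = c) : rO Q v ∈ classGroup Q c :=
  Subgroup.subset_closure ⟨v, 1, one_ne_zero, by rw [hv]; ring, rfl⟩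

theorem rO_not_mem_classGroup (hQ : Nondeg Q) (h2 : (2 : F) ≠ 0)
    (h3 : ∀ x : F, x = 0 ∨ x = 1 ∨ x = -1) (hc : c ≠ 0) (hn : 5 ≤ finrank F V) {y : V}
    (hy : Q y = -c) : rO Q y ∉ classGroup Q c := by
  intro hmem
  have hidx := index_classGroup hQ h2 hc (Or.inr (Or.inl hn))
  have hN : (classGroup Q c).Normal := Subgroup.normal_of_index_eq_two hidx
  have hy0 : y ≠ 0 := fun h => hc (by
    rw [h, QuadraticMap.map_zero] at hy; exact neg_eq_zero.1 hy.symm)
  have htop : classGroup Q c = ⊤ := by
    rw [eq_top_iff, ← reflGroup_eq_top_of_odd hQ h2, reflGroup, Subgroup.closure_le]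
    rintro _ ⟨v, rfl⟩
    rcases value_cases h3 hc (Q v) with h | h | h
    · rw [SetLike.mem_coe, rO_of_singular h]; exact one_mem _
    · exact rO_mem_classGroup_of_value hc h
    · obtain ⟨g, hg⟩ := exists_map_vec hQ hy0
        (w := v) (fun h0 => hc (by rw [h0, QuadraticMap.map_zero] at h; exact neg_eq_zero.1 h.symm))
        (by rw [h, hy])
      rw [SetLike.mem_coe, ← hg, ← conj_rO]
      exact hN.conj_mem _ hmem g
  rw [htop, Subgroup.index_top] at hidx
  omega

/-- Reflections of equal norm coincide only for opposite vectors. -/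
theorem eq_or_neg_of_rO_eq (h2 : (2 : F) ≠ 0) (hc : c ≠ 0) {u v : V} (hu : Q u = c) (hv : Q v = c)
    (h : rO Q u = rO Q v) : v = u ∨ v = -u := by
  have h1 : (rO Q u : V ≃ₗ[F] V) v = -v := by rw [h]; exact rO_self (by rw [hv]; exact hc)
  rw [rO_app, sub_eq_iff_eq_add, neg_add_eq_sub, eq_comm, sub_eq_iff_eq_add] at h1
  have h1' : v = (2⁻¹ * ((Q u)⁻¹ * polar Q u v)) • u := by
    rw [mul_smul, h1, ← two_smul F v, inv_smul_smul₀ h2]
  have hq := hv
  rw [h1', qmap_smul, hu] at hq
  rcases sq_eq_one_iff.1 (mul_right_cancel₀ hc (hq.trans (one_mul c).symm)) with h' | h'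
  · left; rw [h1', hu, h', one_smul]
  · right; rw [h1', hu, h', neg_one_smul]

/-- The reflection group of one class is transitive on pairs with given inner product. -/
theorem exists_classGroup_map_pair (hQ : Nondeg Q) (h2 : (2 : F) ≠ 0)
    (h3 : ∀ x : F, x = 0 ∨ x = 1 ∨ x = -1) (hc : c ≠ 0) (hn : 5 ≤ finrank F V) {u w u' w' : V}
    (hu : Q u = c) (hw : Q w = c) (hu' : Q u' = c) (hw' : Q w' = c)
    (hB : polar Q u w = polar Q u' w') (hne : w ≠ u ∧ w ≠ -u) (hne' : w' ≠ u' ∧ w' ≠ -u') :
    ∃ r ∈ classGroup Q c, (r : V ≃ₗ[F] V) u = u' ∧ (r : V ≃ₗ[F] V) w = w' := by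
  have hli : ∀ {a b : V}, Q a = c → Q b = c → b ≠ a ∧ b ≠ -a → LinearIndependent F ![a, b] := by
    intro a b ha hb hab
    rw [LinearIndependent.pair_iff]
    intro s t hst
    have ha0 : a ≠ 0 := fun h => hc (by rw [← ha, h, QuadraticMap.map_zero])
    by_cases ht : t = 0
    · subst ht; rw [zero_smul, add_zero, smul_eq_zero] at hst
      exact ⟨hst.resolve_right ha0, rfl⟩
    · exfalso
      have hb' : b = (-(t⁻¹ * s)) • a := by
        rw [neg_smul, mul_smul, eq_neg_of_add_eq_zero_left hst, smul_neg, neg_neg,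
          inv_smul_smul₀ ht]
      have := hb
      rw [hb', qmap_smul, ha] at this
      rcases sq_eq_one_iff.1 (mul_right_cancel₀ hc (this.trans (one_mul c).symm)) with h | h
      · exact hab.1 (by rw [hb', h, one_smul])
      · exact hab.2 (by rw [hb', h, neg_one_smul])
  obtain ⟨g, hg⟩ := exists_map_family hQ (hli hu hw hne) (hli hu' hw' hne')
    (fun i => by fin_cases i <;> simp [hu, hw, hu', hw'])
    (fun i j hij => by
      fin_cases i <;> fin_cases j <;> simp_all [polar_comm (⇑Q) w u, polar_comm (⇑Q) w' u'])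
  have hg0 : (g : V ≃ₗ[F] V) u = u' := hg 0
  have hg1 : (g : V ≃ₗ[F] V) w = w' := hg 1
  by_cases hgR : g ∈ classGroup Q c
  · exact ⟨g, hgR, hg0, hg1⟩
  obtain ⟨y, hy1, hy2, hy⟩ := exists_perp_pair_value hQ h2 hn (by rw [hu]; exact hc : Q u ≠ 0) w (-c)
  refine ⟨g * rO Q y, ?_, ?_, ?_⟩
  · rw [Subgroup.mul_mem_iff_of_index_two (index_classGroup hQ h2 hc (Or.inr (Or.inl hn)))]
    exact iff_of_false hgR (rO_not_mem_classGroup hQ h2 h3 hc hn hy)
  · rw [Subgroup.coe_mul, mul_app, rO_fix (by rw [polar_comm]; exact hy1), hg0]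
  · rw [Subgroup.coe_mul, mul_app, rO_fix (by rw [polar_comm]; exact hy2), hg1]

theorem exists_classGroup_map (hQ : Nondeg Q) (h2 : (2 : F) ≠ 0)
    (h3 : ∀ x : F, x = 0 ∨ x = 1 ∨ x = -1) (hc : c ≠ 0) (hn : 5 ≤ finrank F V) {u u' : V}
    (hu : Q u = c) (hu' : Q u' = c) : ∃ r ∈ classGroup Q c, (r : V ≃ₗ[F] V) u = u' := by
  obtain ⟨w, hw, -, hwQ⟩ := exists_perp_pair_value hQ h2 hn (by rw [hu]; exact hc : Q u ≠ 0) u c
  obtain ⟨w', hw', -, hwQ'⟩ :=
    exists_perp_pair_value hQ h2 hn (by rw [hu']; exact hc : Q u' ≠ 0) u' c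
  have hne : ∀ {a b : V}, Q a = c → polar Q a b = 0 → b ≠ a ∧ b ≠ -a := by
    intro a b ha hab
    constructor <;> rintro rfl
    · rw [polar_self', ha] at hab; exact mul_ne_zero h2 hc hab
    · rw [polar_neg_right, polar_self', ha, neg_eq_zero] at hab; exact mul_ne_zero h2 hc hab
  obtain ⟨r, hr, h1, -⟩ := exists_classGroup_map_pair hQ h2 h3 hc hn hu hwQ hu' hwQ'
    (by rw [hw, hw']) (hne hu hw) (hne hu' hw')
  exact ⟨r, hr, h1⟩

/-- A block of reflections with two members contains all of them. -/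
theorem block_eq_all (hQ : Nondeg Q) (h2 : (2 : F) ≠ 0)
    (h3 : ∀ x : F, x = 0 ∨ x = 1 ∨ x = -1) (hc : c ≠ 0) (hn : 5 ≤ finrank F V) (T : Set V)
    (hneg : ∀ x ∈ T, -x ∈ T)
    (hblock : ∀ r ∈ classGroup Q c, ∀ x ∈ T, (r : V ≃ₗ[F] V) x ∈ T →
      ∀ y ∈ T, (r : V ≃ₗ[F] V) y ∈ T)
    {u w : V} (hu : u ∈ T) (hw : w ∈ T) (hQu : Q u = c) (hQw : Q w = c)
    (hne : w ≠ u ∧ w ≠ -u) : ∀ v, Q v = c → v ∈ T := by
  set β := polar Q u w
  -- neighbours of the same kind stay inside
  have hclosed : ∀ b ∈ T, Q b = c → ∀ v, Q v = c → polar Q b v = β → v ≠ b → v ≠ -b → v ∈ T := by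
    intro b hb hQb v hv hbv h1 h2'
    obtain ⟨r, hr, hru, hrw⟩ :=
      exists_classGroup_map_pair hQ h2 h3 hc hn hQu hQw hQb hv hbv.symm hne ⟨h1, h2'⟩
    have := hblock r hr u hu (by rw [hru]; exact hb) w hw
    rwa [hrw] at this
  have hclosed' : ∀ b ∈ T, Q b = c → ∀ v, Q v = c → polar Q b v = -β → v ≠ b → v ≠ -b → v ∈ T := by
    intro b hb hQb v hv hbv h1 h2'
    have := hneg _ (hclosed b hb hQb (-v) (by rw [QuadraticMap.map_neg, hv])
      (by rw [polar_neg_right, hbv, neg_neg]) (fun h => h2' (by rw [← h, neg_neg]))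
      (fun h => h1 (neg_injective h)))
    rwa [neg_neg] at this
  have hd : ∀ {a b : V}, Q a = c → polar Q a b = 0 → b ≠ a ∧ b ≠ -a := by
    intro a b ha hab
    constructor <;> rintro rfl
    · rw [polar_self', ha] at hab; exact mul_ne_zero h2 hc hab
    · rw [polar_neg_right, polar_self', ha, neg_eq_zero] at hab; exact mul_ne_zero h2 hc hab
  intro v hv
  by_cases h : v = u ∨ v = -u
  · rcases h with rfl | rfl
    · exact hu
    · exact hneg u hu
  push Not at h
  by_cases hβ : β = 0
  · -- common perpendicular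
    obtain ⟨y, hy1, hy2, hy⟩ :=
      exists_perp_pair_value hQ h2 hn (by rw [hQu]; exact hc : Q u ≠ 0) v c
    have hyT := hclosed u hu hQu y hy (by rw [hy1, hβ]) (hd hQu hy1).1 (hd hQu hy1).2
    exact hclosed y hyT hy v hv (by rw [polar_comm, hy2, hβ])
      (hd hy (by rw [polar_comm]; exact hy2)).1 (hd hy (by rw [polar_comm]; exact hy2)).2
  · have hnear : ∀ b ∈ T, Q b = c → ∀ z, Q z = c → polar Q b z ≠ 0 → z ≠ b → z ≠ -b → z ∈ T := by
      intro b hb hQb z hz hbz h1 h2'
      rcases value_cases h3 hβ (polar Q b z) with e | e | e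
      · exact absurd e hbz
      · exact hclosed b hb hQb z hz e h1 h2'
      · exact hclosed' b hb hQb z hz e h1 h2'
    by_cases hv' : polar Q u v = 0
    · obtain ⟨y, hy1, hy2, hy⟩ :=
        exists_perp_pair_value hQ h2 hn (by rw [hQu]; exact hc : Q u ≠ 0) v (-c)
      set z := u + v + y with hz
      have hQz : Q z = c := by
        rw [hz, map_add_polar, map_add_polar, polar_add_left, hQu, hv, hy, hv', hy1, hy2]; ring
      have huz : polar Q u z = 2 * c := by
        rw [hz, polar_add_right, polar_add_right, polar_self', hQu, hv', hy1]; ring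
      have hzv : polar Q z v = 2 * c := by
        rw [hz, polar_add_left, polar_add_left, polar_self', hv, hv',
          polar_comm (⇑Q) y v, hy2]; ring
      have hy0 : y ≠ 0 := fun h0 => hc (by
        rw [h0, QuadraticMap.map_zero] at hy; exact neg_eq_zero.1 hy.symm)
      have h2c : (2 : F) * c ≠ 0 := mul_ne_zero h2 hc
      have hzu : z ≠ u ∧ z ≠ -u := by
        constructor
        · intro e
          have := congrArg (fun t => polar Q v t) e
          simp only [hz, polar_add_right, polar_self', hv, hy2, polar_comm (⇑Q) v u, hv'] at this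
          exact h2c (by linear_combination this)
        · intro e
          have := congrArg (fun t => polar Q u t) e
          simp only [huz, polar_neg_right, polar_self', hQu] at this
          exact h2c ((mul_eq_zero.1 (by linear_combination this :
            (2 : F) * (2 * c) = 0)).resolve_left h2)
      have hvz : v ≠ z ∧ v ≠ -z := by
        constructor
        · intro e
          have := congrArg (fun t => polar Q u t) e
          simp only [huz, hv'] at this
          exact h2c this.symm
        · intro e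
          have := congrArg (fun t => polar Q u t) e
          simp only [polar_neg_right, huz, hv', zero_eq_neg] at this
          exact h2c this
      have hzT := hnear u hu hQu z hQz (by rw [huz]; exact h2c) hzu.1 hzu.2
      exact hnear z hzT hQz v hv (by rw [hzv]; exact h2c) hvz.1 hvz.2
    · exact hnear u hu hQu v hv hv' h.1 h.2

section Group

variable {G : Type*} [Group G]

/-- Transport of simplicity of the central quotient. -/
theorem isSimpleGroup_quot_center_congr {A B : Type*} [Group A] [Group B] (e : A ≃* B)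
    [IsSimpleGroup (B ⧸ Subgroup.center B)] : IsSimpleGroup (A ⧸ Subgroup.center A) := by
  refine MulEquiv.isSimpleGroup (QuotientGroup.congr (Subgroup.center A) (Subgroup.center B) e ?_)
  ext x
  constructor
  · rintro ⟨y, hy, rfl⟩
    refine Subgroup.mem_center_iff.2 fun z => ?_
    obtain ⟨z, rfl⟩ := e.surjective z
    exact (map_mul e z y).symm.trans
      ((congrArg e (Subgroup.mem_center_iff.1 hy z)).trans (map_mul e y z))
  · intro hx
    refine ⟨e.symm x, Subgroup.mem_center_iff.2 fun z => ?_, e.apply_symm_apply x⟩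
    apply e.injective
    simp only [map_mul, MulEquiv.apply_symm_apply]
    exact Subgroup.mem_center_iff.1 hx _

variable (hQ : Nondeg Q) (h2 : (2 : F) ≠ 0) (hc : c ≠ 0) (hn : 5 ≤ finrank F V)
  (ψ : G →* O Q) (hψ : Function.Injective ψ) (hrange : ψ.range = classGroup Q c)

include hQ h2 hc hn hrange in
theorem map_commutator_classGroup : (commutator G).map ψ = commutator (O Q) := by
  rw [commutator_def G, Subgroup.map_commutator, ← MonoidHom.range_eq_map, hrange]
  refine le_antisymm (Subgroup.commutator_mono le_top le_top) ?_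
  have h := commutator_le_of_index_two _ (index_classGroup hQ h2 hc (Or.inr (Or.inl hn)))
  calc commutator (O Q) = ⁅commutator (O Q), commutator (O Q)⁆ :=
        (commutator_commutator hQ hn).symm
    _ ≤ _ := Subgroup.commutator_mono h h

include hQ h2 hc hn hrange hψ in
theorem index_commutator_classGroup : (commutator G).index = 2 := by
  have h := Subgroup.index_map_of_injective (commutator G) hψ
  rw [map_commutator_classGroup hQ h2 hc hn ψ hrange, hrange,
    index_commutator_eq_four hQ h2 (by omega), index_classGroup hQ h2 hc (Or.inr (Or.inl hn))] at h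
  omega

include hQ h2 hc hn hrange hψ in
theorem isQuasisimple_commutator_classGroup : Cfsg.IsQuasisimple (commutator G) := by
  have hmap := map_commutator_classGroup hQ h2 hc hn ψ hrange
  refine ⟨Subgroup.isPerfect_iff.2 (Subgroup.map_injective hψ ?_), ?_⟩
  · rw [Subgroup.map_commutator, hmap, commutator_commutator hQ hn]
  · haveI := isSimpleGroup_quot_center hQ hn
    exact isSimpleGroup_quot_center_congr
      (((commutator G).equivMapOfInjective ψ hψ).trans (MulEquiv.subgroupCongr hmap))

include hQ h2 hc hn hrange hψ in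
theorem genFitting_classGroup : Cfsg.generalizedFittingSubgroup G =
    Subgroup.center G ⊔ commutator G := by
  have hmap := map_commutator_classGroup hQ h2 hc hn ψ hrange
  have hqs := isQuasisimple_commutator_classGroup hQ h2 hc hn ψ hψ hrange
  haveI := hqs.2
  haveI : Group.IsPerfect (commutator G) := hqs.1
  haveI : Nontrivial (commutator G) := by
    by_contra hnt
    rw [not_nontrivial_iff_subsingleton] at hnt
    haveI : Subsingleton (↥(commutator G) ⧸ Subgroup.center ↥(commutator G)) :=
      Quotient.instSubsingletonQuotient _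
    exact (IsSimpleGroup.toNontrivial (G := ↥(commutator G) ⧸ Subgroup.center _)).exists_pair_ne.elim
      fun a ⟨b, hab⟩ => hab (Subsingleton.elim a b)
  refine le_antisymm (sup_le ((sSup_le fun K hK => ?_).trans le_sup_right)
    ((sSup_le fun N hN => ?_).trans le_sup_left)) (sup_le ?_ ?_)
  · haveI : Group.IsPerfect K := hK.2.1
    rw [← Subgroup.commutator_eq_self (H := K), commutator_def]
    exact Subgroup.commutator_mono le_top le_top
  · obtain ⟨hN, hnil⟩ := hN
    set C := commutator G
    have hM : (N.subgroupOf C) ≤ Subgroup.center C := by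
      haveI : (N.subgroupOf C).Normal := hN.subgroupOf C
      rcases eq_or_ne (N.subgroupOf C) ⊤ with h | h
      · exfalso
        have hle : C ≤ N := Subgroup.subgroupOf_eq_top.1 h
        haveI := hnil
        haveI : Group.IsNilpotent C :=
          isNilpotent_of_ker_le_center (Subgroup.inclusion hle)
            (by rw [(MonoidHom.ker_eq_bot_iff _).2 (Subgroup.inclusion_injective hle)]; exact bot_le)
        exact Group.IsPerfect.not_isNilpotent C inferInstance
      · by_contra hnc
        set e := ((commutator G).equivMapOfInjective ψ hψ).trans (MulEquiv.subgroupCongr hmap)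
        rcases normal_le_center_or_eq_top hQ hn ((N.subgroupOf C).map e.toMonoidHom)
          (Subgroup.Normal.map inferInstance _ e.surjective) with h' | h'
        · refine hnc fun x hx => Subgroup.mem_center_iff.2 fun y => e.injective ?_
          rw [map_mul, map_mul]
          exact Subgroup.mem_center_iff.1 (h' ⟨x, hx, rfl⟩) _
        · exact h (Subgroup.map_injective e.injective
            (h'.trans (Subgroup.map_top_of_surjective _ e.surjective).symm))
    haveI := hN
    have hz : ∀ z ∈ ⁅N, C⁆, ∀ x ∈ C, x * z = z * x := by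
      intro z hz x hx
      have hzN : z ∈ N := Subgroup.commutator_le_left _ _ hz
      have hzC : z ∈ C := Subgroup.commutator_le_right _ _ hz
      exact congrArg Subtype.val (Subgroup.mem_center_iff.1
        (hM (x := ⟨z, hzC⟩) (Subgroup.mem_subgroupOf.2 hzN)) ⟨x, hx⟩)
    have h1 : ⁅⁅N, C⁆, C⁆ = ⊥ := by
      rw [Subgroup.commutator_eq_bot_iff_le_centralizer]
      exact fun z hz' => Subgroup.mem_centralizer_iff.2 fun x hx => hz z hz' x hx
    have h4 : ⁅⁅C, C⁆, N⁆ = ⊥ := Subgroup.commutator_commutator_eq_bot_of_rotate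
      (by rw [Subgroup.commutator_comm C N]; exact h1) h1
    rw [Subgroup.commutator_eq_self (H := C), Subgroup.commutator_eq_bot_iff_le_centralizer] at h4
    intro g hg
    obtain ⟨s, hs⟩ := exists_scalar_of_commute hQ hn (ψ g) fun x hx => by
      rw [← hmap] at hx
      obtain ⟨y, hy, rfl⟩ := hx
      rw [← map_mul, ← map_mul, (Subgroup.mem_centralizer_iff.1 (h4 hy) g hg)]
    refine Subgroup.mem_center_iff.2 fun y => hψ (O.ext_app fun x => ?_)
    simp only [map_mul, Subgroup.coe_mul, mul_app, hs, map_smul]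
  · refine le_trans ?_ le_sup_right
    exact le_sSup (show Subgroup.center G ∈ {N : Subgroup G | N.Normal ∧ Group.IsNilpotent N} from
      ⟨inferInstance, @CommGroup.isNilpotent _ { (inferInstance : Group (Subgroup.center G)) with
        mul_comm := fun a b => Subtype.ext (Subgroup.mem_center_iff.1 b.2 a) }⟩)
  · exact le_trans (le_sSup (show commutator G ∈ {K : Subgroup G | Cfsg.IsComponent K} from
      ⟨Subgroup.Normal.isSubnormal inferInstance, hqs⟩)) le_sup_left

include hQ h2 hc hn hrange hψ in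
theorem isPrimitive_classGroup (h3 : ∀ x : F, x = 0 ∨ x = 1 ∨ x = -1) (D : Set G)
    (hD : ∀ g, g ∈ D ↔ ∃ v, Q v = c ∧ ψ g = rO Q v) : Cfsg.IsPrimitiveUnderConj D := by
  have hlift : ∀ r ∈ classGroup Q c, ∃ g, ψ g = r := fun r hr => by rwa [← hrange] at hr
  have hmk : ∀ v, Q v = c → ∃ g ∈ D, ψ g = rO Q v := fun v hv => by
    obtain ⟨g, hg⟩ := hlift _ (rO_mem_classGroup_of_value hc hv)
    exact ⟨g, (hD g).2 ⟨v, hv, hg⟩, hg⟩
  have hconj : ∀ (g x : G) (v : V), ψ x = rO Q v →
      ψ (g * x * g⁻¹) = rO Q ((ψ g : V ≃ₗ[F] V) v) := fun g x v hx => by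
    rw [map_mul, map_mul, map_inv, hx, conj_rO]
  refine ⟨fun a ha b hb => ?_, ?_, fun B hB hblock => ?_⟩
  · obtain ⟨u, hu, ha⟩ := (hD a).1 ha
    obtain ⟨v, hv, hb⟩ := (hD b).1 hb
    obtain ⟨r, hr, hru⟩ := exists_classGroup_map hQ h2 h3 hc hn hu hv
    obtain ⟨g, rfl⟩ := hlift r hr
    exact ⟨g, hψ (by rw [hconj g a u ha, hru, hb])⟩
  · obtain ⟨u, hu⟩ := hQ.exists_value (show 2 ≤ finrank F V by omega) c
    obtain ⟨w, hw, -, hwQ⟩ := exists_perp_pair_value hQ h2 hn (by rw [hu]; exact hc : Q u ≠ 0) u c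
    obtain ⟨a, ha, hau⟩ := hmk u hu
    obtain ⟨b, hb, hbw⟩ := hmk w hwQ
    refine ⟨a, ha, b, hb, fun e => ?_⟩
    rcases eq_or_neg_of_rO_eq h2 hc hu hwQ (by rw [← hau, e, hbw]) with rfl | rfl
    · rw [polar_self', hu] at hw; exact mul_ne_zero h2 hc hw
    · rw [polar_neg_right, polar_self', hu, neg_eq_zero] at hw; exact mul_ne_zero h2 hc hw
  · by_cases hsub : B.Subsingleton
    · exact Or.inl hsub
    right
    obtain ⟨a, ha, b, hb, hab⟩ := Set.not_subsingleton_iff.1 hsub
    obtain ⟨u, hu, hau⟩ := (hD a).1 (hB ha)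
    obtain ⟨w, hw, hbw⟩ := (hD b).1 (hB hb)
    set T := {v : V | Q v = c ∧ ∃ x ∈ B, ψ x = rO Q v}
    have hT : ∀ v, Q v = c → v ∈ T := by
      refine block_eq_all hQ h2 h3 hc hn T ?_ ?_ (u := u) (w := w) ⟨hu, a, ha, hau⟩
        ⟨hw, b, hb, hbw⟩ hu hw ⟨fun e => hab (hψ (by rw [hau, hbw, e])),
          fun e => hab (hψ (by rw [hau, hbw, e, ← neg_one_smul F u,
            rO_smul (neg_ne_zero.2 one_ne_zero)]))⟩
      · rintro v ⟨hv, x, hx, hxv⟩
        exact ⟨by rw [QuadraticMap.map_neg, hv], x, hx,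
          by rw [hxv, ← neg_one_smul F v, rO_smul (neg_ne_zero.2 one_ne_zero)]⟩
      · rintro r hr v ⟨hv, x, hx, hxv⟩ ⟨-, y, hy, hyv⟩ z ⟨hz, t, ht, htz⟩
        obtain ⟨g, rfl⟩ := hlift r hr
        have hyx : g * x * g⁻¹ = y := hψ (by rw [hconj g x v hxv, hyv])
        rcases hblock g with h | h
        · exact ⟨by rw [O.map_app, hz], g * t * g⁻¹, h ▸ ⟨t, ht, rfl⟩, hconj g t z htz⟩
        · exact absurd hy (Set.disjoint_left.1 h ⟨x, hx, hyx⟩)
    refine Set.Subset.antisymm hB fun d hd => ?_
    obtain ⟨v, hv, hdv⟩ := (hD d).1 hd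
    obtain ⟨-, x, hx, hxv⟩ := hT v hv
    rwa [hψ (hdv.trans hxv.symm)]

end Group

end Cfsg.Agent.Orthogonal
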