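import Cfsg.Agent.Orthogonal.Generation

/-!
The Dickson invariant: the parity of the dimension of the fixed space (equivalently of the rank of
`g - 1`), and the commutator subgroup in characteristic two.
-/

set_option autoImplicit false

namespace Cfsg.Agent.Orthogonal

open QuadraticMap Module

variable {F V : Type*} [Field F] [AddCommGroup V] [Module F V] [FiniteDimensional F V]
variable {Q : QuadraticForm F V}

/-- The fixed space of an isometry. -/
def fixSpace (g : O Q) : Submodule F V :=
  LinearMap.ker (((g : V ≃ₗ[F] V) : V →ₗ[F] V) - LinearMap.id)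

omit [FiniteDimensional F V] in
theorem mem_fixSpace {g : O Q} {x : V} : x ∈ fixSpace g ↔ (g : V ≃ₗ[F] V) x = x := by
  simp [fixSpace, sub_eq_zero]

theorem range_sub_eq_perp_fixSpace (hQ : Nondeg Q) (g : O Q) :
    LinearMap.range (((g : V ≃ₗ[F] V) : V →ₗ[F] V) - LinearMap.id) = perp Q (fixSpace g) := by
  refine Submodule.eq_of_le_of_finrank_eq ?_ ?_
  · rintro - ⟨x, rfl⟩ k hk
    rw [mem_fixSpace] at hk
    simp only [LinearMap.sub_apply, LinearEquiv.coe_coe, LinearMap.id_apply, polar_sub_right]
    nth_rw 1 [← hk]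
    rw [O.polar_app, sub_self]
  · have := LinearMap.finrank_range_add_finrank_ker (((g : V ≃ₗ[F] V) : V →ₗ[F] V) - LinearMap.id)
    have := hQ.finrank_add_perp (fixSpace g)
    unfold fixSpace at *
    omega

/-- Multiplying by a reflection changes the dimension of the fixed space by exactly one. -/
theorem finrank_fixSpace_rO_mul (hQ : Nondeg Q) {u : V} (hu : Q u ≠ 0) (g : O Q) :
    finrank F (fixSpace (rO Q u * g)) + 1 = finrank F (fixSpace g) ∨
      finrank F (fixSpace g) + 1 = finrank F (fixSpace (rO Q u * g)) := by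
  have hu0 : u ≠ 0 := fun h => hu (by rw [h, QuadraticMap.map_zero])
  have happ : ∀ x, ((rO Q u * g : O Q) : V ≃ₗ[F] V) x =
      (rO Q u : V ≃ₗ[F] V) ((g : V ≃ₗ[F] V) x) := fun x => rfl
  have hdiff : ∀ x, ((rO Q u * g : O Q) : V ≃ₗ[F] V) x = x →
      (g : V ≃ₗ[F] V) x - x = (-((Q u)⁻¹ * polar Q u x)) • u := by
    intro x hx
    rw [happ] at hx
    have h1 := congrArg (rO Q u : V ≃ₗ[F] V) hx
    rw [← mul_app, ← Subgroup.coe_mul, rO_mul_self] at h1
    change (g : V ≃ₗ[F] V) x = _ at h1
    rw [h1, rO_app, sub_sub_cancel_left, ← neg_smul]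
  by_cases hR : u ∈ LinearMap.range (((g : V ≃ₗ[F] V) : V →ₗ[F] V) - LinearMap.id)
  · right
    obtain ⟨w, hw⟩ := hR
    simp only [LinearMap.sub_apply, LinearEquiv.coe_coe, LinearMap.id_apply] at hw
    have hperp : u ∈ perp Q (fixSpace g) := by
      rw [← range_sub_eq_perp_fixSpace hQ]; exact ⟨w, by simpa using hw⟩
    have hwK : w ∉ fixSpace g := fun h => hu0 (by rw [← hw, mem_fixSpace.1 h, sub_self])
    have heq : fixSpace (rO Q u * g) = fixSpace g ⊔ Submodule.span F {w} := by
      refine le_antisymm (fun x hx => ?_) (sup_le (fun x hx => ?_) ?_)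
      · have h := hdiff x (mem_fixSpace.1 hx)
        set l := -((Q u)⁻¹ * polar Q u x)
        refine Submodule.mem_sup.2 ⟨x - l • w, ?_, l • w,
          Submodule.smul_mem _ _ (Submodule.mem_span_singleton_self w), sub_add_cancel _ _⟩
        rw [← hw] at h
        rw [mem_fixSpace, map_sub, map_smul, sub_eq_sub_iff_sub_eq_sub, h, smul_sub]
      · rw [mem_fixSpace, happ, mem_fixSpace.1 hx]
        exact rO_fix (by rw [polar_comm]; exact hperp x hx)
      · rw [Submodule.span_le, Set.singleton_subset_iff, SetLike.mem_coe, mem_fixSpace, happ, ← hw]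
        exact rO_sub_swap (O.map_app g w) (by rw [hw]; exact hu)
    rw [heq, Submodule.finrank_sup_span_singleton hwK]
  · left
    have heq : fixSpace (rO Q u * g) = fixSpace g ⊓ perp Q (Submodule.span F {u}) := by
      refine le_antisymm (fun x hx => ?_) (fun x hx => ?_)
      · have h := hdiff x (mem_fixSpace.1 hx)
        have h0 : polar Q u x = 0 := by
          by_contra hne
          refine hR ⟨(-((Q u)⁻¹ * polar Q u x))⁻¹ • x, ?_⟩
          simp only [LinearMap.sub_apply, LinearEquiv.coe_coe, LinearMap.id_apply, map_smul,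
            ← smul_sub, h]
          exact inv_smul_smul₀ (neg_ne_zero.2 (mul_ne_zero (inv_ne_zero hu) hne)) u
        refine ⟨mem_fixSpace.2 ?_, (mem_perp_span_singleton Q).2 h0⟩
        rwa [h0, mul_zero, neg_zero, zero_smul, sub_eq_zero] at h
      · rw [mem_fixSpace, happ, mem_fixSpace.1 hx.1]
        exact rO_fix ((mem_perp_span_singleton Q).1 hx.2)
    rw [range_sub_eq_perp_fixSpace hQ] at hR
    have hnot : ¬ fixSpace g ≤ perp Q (Submodule.span F {u}) := fun hle => hR fun k hk => by
      rw [polar_comm]; exact (mem_perp_span_singleton Q).1 (hle hk)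
    have h1 := Submodule.finrank_sup_add_finrank_inf_eq (fixSpace g) (perp Q (Submodule.span F {u}))
    have h2 := hQ.finrank_perp_singleton hu0
    have h3 : fixSpace g ⊔ perp Q (Submodule.span F {u}) = ⊤ := by
      refine Submodule.eq_top_of_finrank_eq (le_antisymm (Submodule.finrank_le _) ?_)
      have := Submodule.finrank_lt_finrank_of_lt (lt_of_le_of_ne
        (le_sup_right (a := fixSpace g)) (fun h => hnot (le_sup_left.trans h.ge)))
      omega
    rw [h3, finrank_top] at h1
    rw [heq]
    omega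

omit [FiniteDimensional F V] in
theorem finrank_fixSpace_one : finrank F (fixSpace (1 : O Q)) = finrank F V := by
  have : fixSpace (1 : O Q) = ⊤ := eq_top_iff.2 fun x _ => mem_fixSpace.2 rfl
  rw [this, finrank_top]

/-- The parity of the codimension of the fixed space. -/
noncomputable def dicksonSign (g : O Q) : ℤˣ := (-1) ^ (finrank F V + finrank F (fixSpace g))

theorem dicksonSign_rO_mul (hQ : Nondeg Q) {u : V} (hu : Q u ≠ 0) (g : O Q) :
    dicksonSign (rO Q u * g) = - dicksonSign g := by
  rcases finrank_fixSpace_rO_mul hQ hu g with h | h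
  · simp [dicksonSign, ← h, ← add_assoc, pow_succ]
  · simp [dicksonSign, ← h, ← add_assoc, pow_succ]

theorem dicksonSign_one : dicksonSign (1 : O Q) = 1 := by
  rw [dicksonSign, finrank_fixSpace_one, ← two_mul, pow_mul, neg_one_sq, one_pow]

theorem dicksonSign_mul (hQ : Nondeg Q) (hgen : reflGroup Q = ⊤) (g h : O Q) :
    dicksonSign (g * h) = dicksonSign g * dicksonSign h := by
  have hg : g ∈ reflGroup Q := by rw [hgen]; trivial
  induction hg using Subgroup.closure_induction_left with
  | one => rw [one_mul, dicksonSign_one, one_mul]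
  | mul_left x hx y _ hy =>
    obtain ⟨v, rfl⟩ := hx
    by_cases hv : Q v = 0
    · rw [rO_of_singular hv, one_mul]; exact hy
    · rw [mul_assoc, dicksonSign_rO_mul hQ hv, dicksonSign_rO_mul hQ hv, hy, neg_mul]
  | inv_mul_cancel x hx y _ hy =>
    obtain ⟨v, rfl⟩ := hx
    rw [rO_inv]
    by_cases hv : Q v = 0
    · rw [rO_of_singular hv, one_mul]; exact hy
    · rw [mul_assoc, dicksonSign_rO_mul hQ hv, dicksonSign_rO_mul hQ hv, hy, neg_mul]

/-- The Dickson homomorphism. -/
noncomputable def dickson (hQ : Nondeg Q) (hgen : reflGroup Q = ⊤) : O Q →* ℤˣ where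
  toFun := dicksonSign
  map_one' := dicksonSign_one
  map_mul' := dicksonSign_mul hQ hgen

theorem dickson_apply (hQ : Nondeg Q) (hgen : reflGroup Q = ⊤) (g : O Q) :
    dickson hQ hgen g = dicksonSign g := rfl

theorem dickson_rO (hQ : Nondeg Q) (hgen : reflGroup Q = ⊤) {u : V} (hu : Q u ≠ 0) :
    dickson hQ hgen (rO Q u) = -1 := by
  have := dicksonSign_rO_mul hQ hu (1 : O Q)
  rwa [mul_one, dicksonSign_one] at this

variable [Finite F]

/-- In characteristic two all reflections are conjugate. -/
theorem isConj_rO_char_two (hQ : Nondeg Q) (h2 : (2 : F) = 0) {u v : V} (hu : Q u ≠ 0)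
    (hv : Q v ≠ 0) : IsConj (rO Q u) (rO Q v) := by
  obtain ⟨t, ht⟩ := isSquare_of_two_eq_zero h2 (Q v / Q u)
  have ht0 : t ≠ 0 := fun h => div_ne_zero hv hu (by rw [ht, h, mul_zero])
  obtain ⟨g, hg⟩ := exists_map_vec hQ (v := t • u) (w := v)
    (smul_ne_zero ht0 fun h0 => hu (by rw [h0, QuadraticMap.map_zero]))
    (fun h0 => hv (by rw [h0, QuadraticMap.map_zero]))
    (by rw [qmap_smul, pow_two, ← ht, div_mul_cancel₀ _ hu])
  have := isConj_rO g (t • u)
  rwa [hg, rO_smul ht0] at this

/-- In characteristic two the commutator subgroup is the kernel of the Dickson homomorphism. -/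
theorem commutator_eq_ker_dickson (hQ : Nondeg Q) (hgen : reflGroup Q = ⊤) (h2 : (2 : F) = 0) :
    commutator (O Q) = (dickson hQ hgen).ker := by
  refine le_antisymm (Abelianization.commutator_subset_ker _) fun g hg => ?_
  rw [← Abelianization.ker_of, MonoidHom.mem_ker]
  have key : ∃ a : Abelianization (O Q), a * a = 1 ∧
      ∀ v, Q v ≠ 0 → Abelianization.of (rO Q v) = a := by
    by_cases h : ∃ v, Q v ≠ 0
    · obtain ⟨v, hv⟩ := h
      exact ⟨Abelianization.of (rO Q v), by rw [← map_mul, rO_mul_self, map_one], fun w hw =>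
        isConj_iff_eq.1 ((Abelianization.of : O Q →* _).map_isConj
          (isConj_rO_char_two hQ h2 hw hv))⟩
    · exact ⟨1, one_mul 1, fun v hv => absurd ⟨v, hv⟩ h⟩
  obtain ⟨a, ha, hab⟩ := key
  have hall : ∀ x : O Q, (dicksonSign x = 1 ∧ Abelianization.of x = 1) ∨
      (dicksonSign x = -1 ∧ Abelianization.of x = a) := by
    intro x
    have hx : x ∈ reflGroup Q := by rw [hgen]; trivial
    have hstep : ∀ v y, ((dicksonSign y = 1 ∧ Abelianization.of y = 1) ∨
        (dicksonSign y = -1 ∧ Abelianization.of y = a)) →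
        ((dicksonSign (rO Q v * y) = 1 ∧ Abelianization.of (rO Q v * y) = 1) ∨
        (dicksonSign (rO Q v * y) = -1 ∧ Abelianization.of (rO Q v * y) = a)) := by
      intro v y hy
      by_cases hv : Q v = 0
      · rw [rO_of_singular hv, one_mul]; exact hy
      · rw [dicksonSign_rO_mul hQ hv, map_mul, hab v hv]
        rcases hy with ⟨h1, h3⟩ | ⟨h1, h3⟩
        · exact Or.inr ⟨by rw [h1], by rw [h3, mul_one]⟩
        · exact Or.inl ⟨by rw [h1, neg_neg], by rw [h3, ha]⟩
    induction hx using Subgroup.closure_induction_left with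
    | one => exact Or.inl ⟨dicksonSign_one, map_one _⟩
    | mul_left x hx y _ hy => obtain ⟨v, rfl⟩ := hx; exact hstep v y hy
    | inv_mul_cancel x hx y _ hy => obtain ⟨v, rfl⟩ := hx; rw [rO_inv]; exact hstep v y hy
  rcases hall g with h | h
  · exact h.2
  · rw [MonoidHom.mem_ker, dickson_apply, h.1] at hg
    exact absurd hg (by decide)

theorem index_commutator_eq_two (hQ : Nondeg Q) (hgen : reflGroup Q = ⊤) (h2 : (2 : F) = 0)
    (hn : 2 ≤ finrank F V) : (commutator (O Q)).index = 2 := by
  obtain ⟨u, hu⟩ := hQ.exists_value hn 1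
  have hu0 : Q u ≠ 0 := by rw [hu]; exact one_ne_zero
  have hsurj : Function.Surjective (dickson hQ hgen) := fun a => by
    rcases Int.units_eq_one_or a with rfl | rfl
    · exact ⟨1, map_one _⟩
    · exact ⟨_, dickson_rO hQ hgen hu0⟩
  rw [commutator_eq_ker_dickson hQ hgen h2, Subgroup.index_ker,
    MonoidHom.range_eq_top.2 hsurj, Subgroup.card_top]
  simp

end Cfsg.Agent.Orthogonal
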