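import Cfsg.Agent.Orthogonal.Index2

/-!
Index-two subgroups of `Cfsg.isometryGroup` and `Cfsg.specialIsometryGroup`.
-/

set_option autoImplicit false

namespace Cfsg.Agent.Orthogonal

open QuadraticMap Module
open scoped commutatorElement

/-- A subgroup of index two contains the commutator subgroup. -/
theorem commutator_le_of_index_two {G : Type*} [Group G] (H : Subgroup G) (hH : H.index = 2) :
    commutator G ≤ H := by
  rw [commutator_def, Subgroup.commutator_le]
  intro a _ b _
  have e : ∀ x y : G, x * y ∈ H ↔ (x ∈ H ↔ y ∈ H) := fun x y =>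
    Subgroup.mul_mem_iff_of_index_two hH
  rw [commutatorElement_def, e, e, e]
  simp only [inv_mem_iff]
  tauto

variable {F : Type*} [Field F] [Finite F] {ι : Type} [Fintype ι] [DecidableEq ι]
variable {Q : QuadraticForm F (ι → F)}

theorem mem_specialIsometryGroup_iff (g : Cfsg.isometryGroup F (⇑Q)) :
    g ∈ Cfsg.specialIsometryGroup F (⇑Q) ↔
      ((g : GL ι F) : Matrix ι ι F).det = 1 := by
  rw [Cfsg.specialIsometryGroup, MonoidHom.mem_ker]
  exact ⟨fun h => congrArg Units.val h, fun h => Units.ext h⟩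

theorem omega_le_special : Cfsg.Omega F (⇑Q) ≤ Cfsg.specialIsometryGroup F (⇑Q) :=
  Abelianization.commutator_subset_ker _

theorem existsUnique_index_two_special (hQ : Nondeg Q) (hn : 2 ≤ Fintype.card ι)
    (h : Nat.card F ≠ 2 ∨ Fintype.card ι ≠ 4) :
    ∃! H : Subgroup ↥(Cfsg.specialIsometryGroup F (⇑Q)), H.index = 2 := by
  set SO := Cfsg.specialIsometryGroup F (⇑Q) with hSO
  set Ω := Cfsg.Omega F (⇑Q) with hΩ
  have hfr : finrank F (ι → F) = Fintype.card ι := Module.finrank_fintype_fun_eq_card F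
  have hdet : ∀ g : Cfsg.isometryGroup F (⇑Q), ((g : GL ι F) : Matrix ι ι F).det = 1 ∨
      ((g : GL ι F) : Matrix ι ι F).det = -1 := fun g => sq_eq_one_iff.1 (det_sq_eq_one hQ g)
  haveI : SO.Normal := MonoidHom.normal_ker _
  have hinner : Ω.relIndex SO = 2 := by
    by_cases h2 : (2 : F) = 0
    · have htop : SO = ⊤ := by
        refine eq_top_iff.2 fun g _ => (mem_specialIsometryGroup_iff g).2 ?_
        rcases hdet g with h' | h' <;> rw [h']
        linear_combination -h2
      rw [htop, Subgroup.relIndex_top_right, hΩ, omega_index]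
      exact index_commutator_eq_two hQ (reflGroup_eq_top hQ (by rwa [hfr])) h2 (by omega)
    · have hSO2 : SO.index = 2 := by
        obtain ⟨v, hv⟩ := hQ.exists_value (show 2 ≤ finrank F (ι → F) by omega) 1
        have hv0 : Q v ≠ 0 := by rw [hv]; exact one_ne_zero
        refine Subgroup.index_eq_two_iff.2 ⟨reflIso Q v, fun g => ?_⟩
        have hm : ((((g * reflIso Q v : Cfsg.isometryGroup F (⇑Q)) : GL ι F)) : Matrix ι ι F).det =
            -((g : GL ι F) : Matrix ι ι F).det := by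
          rw [Subgroup.coe_mul, Units.val_mul, Matrix.det_mul, reflIso_val,
            det_reflectionMatrix hv0, mul_neg_one]
        have hne : (-1 : F) ≠ 1 := fun h' => h2 (by linear_combination -h')
        rcases hdet g with h' | h'
        · refine Or.inr ⟨(mem_specialIsometryGroup_iff g).2 h', fun hh => hne ?_⟩
          rw [mem_specialIsometryGroup_iff, hm, h'] at hh
          exact hh
        · refine Or.inl ⟨(mem_specialIsometryGroup_iff _).2 (by rw [hm, h', neg_neg]), fun hh => ?_⟩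
          rw [mem_specialIsometryGroup_iff, h'] at hh
          exact hne hh
      have := Subgroup.relIndex_mul_index (show Ω ≤ SO from omega_le_special)
      rw [hΩ, omega_index, index_commutator_eq_four hQ h2 (by omega), ← hΩ, hSO2] at this
      omega
  have hsub : ∀ H : Subgroup SO, H.index = 2 → Ω.subgroupOf SO ≤ H := by
    intro H hH x hx
    set R := {g : Cfsg.isometryGroup F (⇑Q) | ∃ v : ι → F, Q v ≠ 0 ∧
      ((g : GL ι F) : Matrix ι ι F) = Cfsg.reflectionMatrix (⇑Q) v}
    have hcl := commutator_le_closure_squares R (closure_reflections_eq_top hQ h) (by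
      rintro r ⟨v, hv, hr⟩
      refine (toO Q).injective ?_
      rw [map_mul, (toO_eq_rO_iff Q r v).2 hr, rO_mul_self, map_one]) SO (by
      rintro r ⟨v, hv, hr⟩ r' ⟨w, hw, hr'⟩
      rw [mem_specialIsometryGroup_iff, Subgroup.coe_mul, Units.val_mul, Matrix.det_mul, hr, hr',
        det_reflectionMatrix hv, det_reflectionMatrix hw]
      norm_num)
    have hle : Subgroup.closure {g | ∃ y ∈ SO, g = y * y} ≤ H.map SO.subtype := by
      refine (Subgroup.closure_le _).2 ?_
      rintro _ ⟨y, hy, rfl⟩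
      exact ⟨⟨y, hy⟩ * ⟨y, hy⟩, Subgroup.mul_self_mem_of_index_two hH _, rfl⟩
    obtain ⟨z, hz, he⟩ := hle (hcl hx)
    rwa [← Subtype.ext (p := (· ∈ SO)) he]
  refine ⟨Ω.subgroupOf SO, hinner, fun H hH => ?_⟩
  refine ((hsub H hH).lt_or_eq.resolve_left fun hlt => ?_).symm
  have := Subgroup.relIndex_mul_index hlt.le
  rw [hH, show (Ω.subgroupOf SO).index = 2 from hinner] at this
  have h1 : (Ω.subgroupOf SO).relIndex H = 1 := by omega
  exact hlt.not_ge (Subgroup.relIndex_eq_one.1 h1)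

theorem card_index_two_isometryGroup (hQ : Nondeg Q) (h2 : (2 : F) ≠ 0)
    (hn : 2 ≤ Fintype.card ι) :
    Nat.card {H : Subgroup ↥(Cfsg.isometryGroup F ⇑Q) // H.index = 2} = 3 := by
  have hn' : 2 ≤ finrank F (ι → F) := by rw [Module.finrank_fintype_fun_eq_card]; exact hn
  refine card_index_two_eq_three
    (((detSign Q hQ h2).prod (spinor Q hQ h2)).comp (toO Q).toMonoidHom) ?_ ?_
  · obtain ⟨ν, hν⟩ := exists_not_isSquare h2
    have hν0 : ν ≠ 0 := fun h => hν (by rw [h]; exact IsSquare.zero)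
    obtain ⟨u, hu⟩ := hQ.exists_value hn' 1
    obtain ⟨w, hw⟩ := hQ.exists_value hn' ν
    have hu0 : Q u ≠ 0 := by rw [hu]; exact one_ne_zero
    have hw0 : Q w ≠ 0 := by rw [hw]; exact hν0
    refine fun p => ?_
    suffices h : ∃ g : O Q, ((detSign Q hQ h2).prod (spinor Q hQ h2)) g = p by
      obtain ⟨g, hg⟩ := h
      exact ⟨(toO Q).symm g, by simpa using hg⟩
    obtain ⟨a, b⟩ := p
    rcases Int.units_eq_one_or a with rfl | rfl <;> rcases Int.units_eq_one_or b with rfl | rfl
    · exact ⟨1, map_one _⟩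
    · exact ⟨rO Q u * rO Q w, by
        simp [MonoidHom.prod_apply, detSign_rO hQ h2 hu0, detSign_rO hQ h2 hw0,
          spinor_rO hQ h2 hu0, spinor_rO hQ h2 hw0, hu, hw, sqSign, hν]⟩
    · exact ⟨rO Q u, by simp [MonoidHom.prod_apply, detSign_rO hQ h2 hu0, spinor_rO hQ h2 hu0, hu, sqSign]⟩
    · exact ⟨rO Q w, by simp [MonoidHom.prod_apply, detSign_rO hQ h2 hw0, spinor_rO hQ h2 hw0, hw, sqSign, hν]⟩
  · intro H hH g hg
    have : g ∈ Cfsg.Omega F (⇑Q) := by
      rw [mem_omega_iff, mem_commutator_iff hQ h2]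
      exact Prod.ext_iff.1 hg
    exact commutator_le_of_index_two H hH this

theorem index_closure_class (hQ : Nondeg Q) (h2 : (2 : F) ≠ 0) {c : F} (hc : c ≠ 0)
    (hn : Fintype.card ι = 2 ∨ 5 ≤ Fintype.card ι ∨ (3 ≤ Fintype.card ι ∧ 3 < Nat.card F)) :
    (Subgroup.closure {g : ↥(Cfsg.isometryGroup F ⇑Q) | ∃ (v : ι → F) (t : F), t ≠ 0 ∧
      Q v = c * t ^ 2 ∧ ((g : Matrix.GeneralLinearGroup ι F) : Matrix ι ι F) =
        Cfsg.reflectionMatrix ⇑Q v}).index = 2 := by
  rw [← Subgroup.index_map_equiv _ (toO Q), MonoidHom.map_closure]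
  refine Eq.trans (congrArg Subgroup.index ?_) (index_classGroup hQ h2 hc
    (by rwa [Module.finrank_fintype_fun_eq_card]))
  rw [classGroup]
  congr 1
  ext x
  constructor
  · rintro ⟨g, ⟨v, t, ht, hv, hg⟩, rfl⟩
    exact ⟨v, t, ht, hv, (toO_eq_rO_iff Q g v).2 hg⟩
  · rintro ⟨v, t, ht, hv, rfl⟩
    exact ⟨reflIso Q v, ⟨v, t, ht, hv, reflIso_val v⟩, (toO Q).apply_symm_apply _⟩

end Cfsg.Agent.Orthogonal
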