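import Cfsg.Agent.Orthogonal.Simple
import Cfsg.Agent.Orthogonal.Spinor
import Cfsg.Agent.Orthogonal.Dickson

/-!
The groups `Cfsg.Omega` and `Cfsg.POmega` of a quadratic form in dimension at least five over a
finite field: simplicity, the centre, and the order.
-/

set_option autoImplicit false

namespace Cfsg.Agent.Orthogonal

open QuadraticMap Module

variable {F : Type*} [Field F] {ι : Type} [Fintype ι] [DecidableEq ι]

/-- `Cfsg.Omega` is the commutator subgroup of the orthogonal group. -/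
noncomputable def omegaEquiv (Q : QuadraticForm F (ι → F)) :
    Cfsg.Omega F (⇑Q) ≃* commutator (O Q) :=
  ((toO Q).subgroupMap _).trans (MulEquiv.subgroupCongr (toO_map_omega Q))

theorem coe_omegaEquiv (Q : QuadraticForm F (ι → F)) (g : Cfsg.Omega F (⇑Q)) :
    (omegaEquiv Q g : O Q) = toO Q g := rfl

variable [Finite F] {Q : QuadraticForm F (ι → F)}

theorem isSimpleGroup_POmega (hQ : Nondeg Q) (hn : 5 ≤ finrank F (ι → F)) :
    IsSimpleGroup (Cfsg.POmega F (⇑Q)) := by
  haveI := isSimpleGroup_quot_center hQ hn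
  refine MulEquiv.isSimpleGroup (QuotientGroup.congr (Subgroup.center (Cfsg.Omega F (⇑Q)))
    (Subgroup.center (commutator (O Q))) (omegaEquiv Q) ?_)
  ext x
  constructor
  · rintro ⟨y, hy, rfl⟩
    refine Subgroup.mem_center_iff.2 fun z => ?_
    obtain ⟨z, rfl⟩ := (omegaEquiv Q).surjective z
    exact (map_mul (omegaEquiv Q) z y).symm.trans
      ((congrArg (omegaEquiv Q) (Subgroup.mem_center_iff.1 hy z)).trans (map_mul (omegaEquiv Q) y z))
  · intro hx
    refine ⟨(omegaEquiv Q).symm x, Subgroup.mem_center_iff.2 fun z => ?_,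
      (omegaEquiv Q).apply_symm_apply x⟩
    apply (omegaEquiv Q).injective
    simp only [map_mul, MulEquiv.apply_symm_apply]
    exact Subgroup.mem_center_iff.1 hx _

/-- The centre of `Cfsg.Omega` consists of `1` and `-1` at most. -/
theorem center_omega_cases (hQ : Nondeg Q) (hn : 5 ≤ finrank F (ι → F))
    {g : Cfsg.Omega F (⇑Q)} (hg : g ∈ Subgroup.center (Cfsg.Omega F (⇑Q))) :
    (((g : Cfsg.isometryGroup F (⇑Q)) : Matrix.GeneralLinearGroup ι F) : Matrix ι ι F) = 1 ∨
      (((g : Cfsg.isometryGroup F (⇑Q)) : Matrix.GeneralLinearGroup ι F) : Matrix ι ι F) = -1 := by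
  have hc : omegaEquiv Q g ∈ Subgroup.center (commutator (O Q)) := by
    refine Subgroup.mem_center_iff.2 fun z => ?_
    obtain ⟨z, rfl⟩ := (omegaEquiv Q).surjective z
    rw [← map_mul, ← map_mul, Subgroup.mem_center_iff.1 hg z]
  obtain ⟨s, hs⟩ := (mem_center_commutator_iff hQ hn _).1 hc
  obtain ⟨u, hu⟩ := hQ.exists_value (show 2 ≤ finrank F (ι → F) by omega) 1
  have h1 := O.map_app (omegaEquiv Q g : O Q) u
  rw [hs, qmap_smul, hu, mul_one] at h1
  have hmat : ∀ x, (((g : Cfsg.isometryGroup F (⇑Q)) : Matrix.GeneralLinearGroup ι F) :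
      Matrix ι ι F).mulVec x = s • x := fun x => by
    rw [← toO_apply, ← coe_omegaEquiv, hs]
  rcases sq_eq_one_iff.1 h1 with h | h
  · left
    refine Matrix.ext_iff_mulVec.2 fun x => ?_
    rw [hmat, h, one_smul, Matrix.one_mulVec]
  · right
    refine Matrix.ext_iff_mulVec.2 fun x => ?_
    rw [hmat, h, Matrix.neg_mulVec, Matrix.one_mulVec, neg_one_smul]

theorem card_center_omega_eq_one (hQ : Nondeg Q) (hn : 5 ≤ finrank F (ι → F))
    (h : ∀ g : Cfsg.isometryGroup F (⇑Q), g ∈ Cfsg.Omega F (⇑Q) →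
      ((g : Matrix.GeneralLinearGroup ι F) : Matrix ι ι F) = -1 → (-1 : Matrix ι ι F) = 1) :
    Nat.card (Subgroup.center (Cfsg.Omega F (⇑Q))) = 1 := by
  rw [Subgroup.card_eq_one, eq_bot_iff]
  intro g hg
  refine Subgroup.mem_bot.2 (Subtype.ext (Subtype.ext (Units.ext ?_)))
  rcases center_omega_cases hQ hn hg with h' | h'
  · exact h'
  · exact h'.trans (h _ g.2 h')

theorem card_center_omega_eq_two (hQ : Nondeg Q) (hn : 5 ≤ finrank F (ι → F))
    (hne : (-1 : Matrix ι ι F) ≠ 1) (g : Cfsg.isometryGroup F (⇑Q)) (hg : g ∈ Cfsg.Omega F (⇑Q))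
    (hgm : ((g : Matrix.GeneralLinearGroup ι F) : Matrix ι ι F) = -1) :
    Nat.card (Subgroup.center (Cfsg.Omega F (⇑Q))) = 2 := by
  have hgc : (⟨g, hg⟩ : Cfsg.Omega F (⇑Q)) ∈ Subgroup.center (Cfsg.Omega F (⇑Q)) := by
    refine Subgroup.mem_center_iff.2 fun z => Subtype.ext (Subtype.ext (Units.ext ?_))
    simp only [Subgroup.coe_mul, Units.val_mul, hgm, mul_neg, neg_mul, mul_one, one_mul]
  refine Nat.card_eq_two_iff' (1 : Subgroup.center (Cfsg.Omega F (⇑Q))) |>.2
    ⟨⟨⟨g, hg⟩, hgc⟩, fun h => hne ?_, fun y hy => ?_⟩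
  · have := congrArg (fun z : Subgroup.center (Cfsg.Omega F (⇑Q)) =>
      (((z : Cfsg.Omega F (⇑Q)) : Cfsg.isometryGroup F (⇑Q)) : Matrix.GeneralLinearGroup ι F).val) h
    exact hgm.symm.trans this
  · obtain ⟨y, hyc⟩ := y
    refine Subtype.ext (Subtype.ext (Subtype.ext (Units.ext ?_)))
    rcases center_omega_cases hQ hn hyc with h' | h'
    · exact absurd (Subtype.ext (Subtype.ext (Subtype.ext (Units.ext h')))) hy
    · exact h'.trans hgm.symm

/-- Elements of `Cfsg.Omega` have determinant one. -/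
theorem det_eq_one_of_mem_omega (g : Cfsg.isometryGroup F (⇑Q)) (hg : g ∈ Cfsg.Omega F (⇑Q)) :
    ((g : Matrix.GeneralLinearGroup ι F) : Matrix ι ι F).det = 1 := by
  have h := Abelianization.commutator_subset_ker
    (Matrix.GeneralLinearGroup.det.comp (Cfsg.isometryGroup F (⇑Q)).subtype) hg
  rw [MonoidHom.mem_ker] at h
  exact congrArg Units.val h

theorem card_POmega_mul (hi : Nat) (hidx : (Cfsg.Omega F (⇑Q)).index = hi) (c : ℕ)
    (hc : Nat.card (Subgroup.center (Cfsg.Omega F (⇑Q))) = c) :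
    hi * c * Nat.card (Cfsg.POmega F (⇑Q)) = Nat.card (O Q) := by
  rw [← card_isometryGroup, ← (Cfsg.Omega F (⇑Q)).card_mul_index, hidx,
    Subgroup.card_eq_card_quotient_mul_card_subgroup (Subgroup.center (Cfsg.Omega F (⇑Q))), hc]
  ring

end Cfsg.Agent.Orthogonal
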