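import Cfsg.Agent.Orthogonal.Extend
import Cfsg.Agent.Orthogonal.Plane

/-!
Generation of the orthogonal group by reflections over finite fields, with the single exception of
the hyperbolic four-space over the field of two elements.
-/

set_option autoImplicit false

namespace Cfsg.Agent.Orthogonal

open QuadraticMap Module

variable {F V : Type*} [Field F] [AddCommGroup V] [Module F V] [FiniteDimensional F V]
variable {Q : QuadraticForm F V}

/-- The subgroup generated by the reflections. -/
def reflGroup (Q : QuadraticForm F V) : Subgroup (O Q) := Subgroup.closure (Set.range (rO Q))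

omit [FiniteDimensional F V] in
theorem rO_mem_reflGroup (v : V) : rO Q v ∈ reflGroup Q := Subgroup.subset_closure ⟨v, rfl⟩

theorem Nondeg.nondeg_inf_perp (hQ : Nondeg Q) {W P : Submodule F V} (hW : Nondeg (restr Q W))
    (hP : Nondeg (restr Q P)) (hPW : P ≤ W) :
    Nondeg (restr Q (W ⊓ perp Q P)) ∧
      perp Q (W ⊓ perp Q P) = perp Q W ⊔ P ∧
      finrank F (W ⊓ perp Q P : Submodule F V) + finrank F P = finrank F W := by
  have hperp : perp Q (W ⊓ perp Q P) = perp Q W ⊔ P := by
    conv_lhs => rw [← hQ.perp_perp W, ← perp_sup, hQ.perp_perp]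
  have hdisj : perp Q W ⊓ P = ⊥ := by
    refine eq_bot_iff.2 fun x hx => ?_
    have : x ∈ W ⊓ perp Q W := ⟨hPW hx.2, hx.1⟩
    rwa [(nondeg_restr_iff W).1 hW] at this
  refine ⟨?_, hperp, ?_⟩
  · rw [nondeg_restr_iff, hperp]
    refine eq_bot_iff.2 fun x hx => ?_
    obtain ⟨⟨hxW, hxP⟩, hx2⟩ := hx
    obtain ⟨a, ha, p, hp, rfl⟩ := Submodule.mem_sup.1 hx2
    have ha0 : a = 0 := by
      have : a ∈ W ⊓ perp Q W :=
        ⟨by simpa using W.sub_mem hxW (hPW hp), ha⟩
      rwa [(nondeg_restr_iff W).1 hW, Submodule.mem_bot] at this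
    subst ha0
    rw [zero_add] at hxP ⊢
    have : p ∈ P ⊓ perp Q P := ⟨hp, hxP⟩
    rwa [(nondeg_restr_iff P).1 hP] at this
  · have h1 := Submodule.finrank_sup_add_finrank_inf_eq (perp Q W) P
    rw [hdisj, finrank_bot] at h1
    have h2 := hQ.finrank_add_perp (W ⊓ perp Q P)
    rw [hperp] at h2
    have h3 := hQ.finrank_add_perp W
    omega

/-- Two reflections in orthogonal-transvection vectors `t`, `t + a` in characteristic two. -/
theorem rO_pair_char_two (h2 : (2 : F) = 0) {t a : V} (ht : Q t = 1) (ha : Q a = 0)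
    (hta : polar Q t a = 0) (x : V) :
    (rO Q t * rO Q (t + a) : O Q).1 x =
      x + polar Q a x • t + (polar Q t x + polar Q a x) • a := by
  have hneg : ∀ c : F, -c = c := fun c => by linear_combination -c * h2
  have hQ1 : Q (t + a) = 1 := by rw [map_add_polar, ht, ha, hta, add_zero, add_zero]
  rw [Subgroup.coe_mul, mul_app, rO_app, rO_app, hQ1, ht, inv_one, one_mul, one_mul,
    polar_sub_right, polar_smul_right', polar_add_right, polar_self', ht, hta, polar_add_left]
  simp only [sub_eq_add_neg, ← neg_smul, hneg, smul_add]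
  have hc : polar Q t x + (polar Q t x + polar Q a x) * (2 * 1 + 0) = polar Q t x := by
    rw [h2]; ring
  rw [hc]
  match_scalars <;>
    first
      | exact hneg _
      | ring1
      | (ring_nf; simp [hneg, h2])

/-- The Siegel element of an orthogonal pair of singular vectors as a product of four reflections,
in characteristic two. -/
theorem siegel_eq_four (h2 : (2 : F) = 0) {t a b : V} (ht : Q t = 1) (ha : Q a = 0) (hb : Q b = 0)
    (hta : polar Q t a = 0) (htb : polar Q t b = 0) (hab : polar Q a b = 0) (x : V) :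
    (rO Q t * rO Q (t + a) * (rO Q (t + b) * rO Q (t + b + a)) : O Q).1 x =
      x + polar Q a x • b + polar Q b x • a := by
  have hQb : Q (t + b) = 1 := by rw [map_add_polar, ht, hb, htb, add_zero, add_zero]
  have hba : polar Q (t + b) a = 0 := by
    rw [polar_add_left, hta, polar_comm, hab, add_zero]
  rw [Subgroup.coe_mul, mul_app, rO_pair_char_two h2 hQb ha hba x, rO_pair_char_two h2 ht ha hta]
  simp only [polar_add_right, polar_smul_right', polar_self', ht, ha, hab, hta, htb,
    polar_comm (⇑Q) a t, polar_add_left]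
  have h4 : (4 : F) = 0 := by linear_combination 2 * h2
  match_scalars <;> ring_nf <;> simp [h2, h4]

omit [FiniteDimensional F V] in
theorem rO_fix_perp {W : Submodule F V} {v : V} (hv : v ∈ W) {y : V} (hy : y ∈ perp Q W) :
    (rO Q v : V ≃ₗ[F] V) y = y :=
  rO_fix (hy v hv)

/-- The stabiliser of all vectors orthogonal to `W`, inside the group generated by reflections. -/
def reflFixPerp (Q : QuadraticForm F V) (W : Submodule F V) : Subgroup (O Q) where
  carrier := {g | g ∈ reflGroup Q ∧ ∀ y ∈ perp Q W, (g : V ≃ₗ[F] V) y = y}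
  mul_mem' {a b} ha hb := ⟨mul_mem ha.1 hb.1, fun y hy => by
    rw [Subgroup.coe_mul, mul_app, hb.2 y hy, ha.2 y hy]⟩
  one_mem' := ⟨one_mem _, fun _ _ => rfl⟩
  inv_mem' {a} ha := ⟨inv_mem ha.1, fun y hy => by
    conv_lhs => rw [← ha.2 y hy]
    rw [← mul_app, ← Subgroup.coe_mul, inv_mul_cancel]; rfl⟩

omit [FiniteDimensional F V] in
theorem rO_mem_reflFixPerp {W : Submodule F V} {v : V} (hv : v ∈ W) :
    rO Q v ∈ reflFixPerp Q W :=
  ⟨rO_mem_reflGroup v, fun _ hy => rO_fix_perp hv hy⟩

/-- Transitivity on singular vectors of `W` by reflections in vectors of `W`. -/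
theorem exists_singular_move {W : Submodule F V} (hW : Nondeg (restr Q W)) {u u' : V}
    (hu : u ∈ W) (hu' : u' ∈ W) (hu0 : u ≠ 0) (hu0' : u' ≠ 0) (hQu : Q u = 0) (hQu' : Q u' = 0) :
    ∃ r ∈ reflFixPerp Q W, (r : V ≃ₗ[F] V) u = u' := by
  have step : ∀ {a b : V}, a ∈ W → b ∈ W → Q a = 0 → Q b = 0 → polar Q a b ≠ 0 →
      rO Q (a - b) ∈ reflFixPerp Q W ∧ (rO Q (a - b) : V ≃ₗ[F] V) a = b := by
    intro a b ha hb hQa hQb hab
    refine ⟨rO_mem_reflFixPerp (W.sub_mem ha hb), rO_sub_swap (hQa.trans hQb.symm) ?_⟩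
    rw [qmap_sub, hQa, hQb, zero_add, zero_sub]
    exact neg_ne_zero.2 hab
  by_cases hB : polar Q u u' ≠ 0
  · exact ⟨_, step hu hu' hQu hQu' hB⟩
  push Not at hB
  obtain ⟨w, hw, hQw, hw1, hw2⟩ :
      ∃ w ∈ W, Q w = 0 ∧ polar Q u w ≠ 0 ∧ polar Q u' w ≠ 0 := by
    obtain ⟨l, -, hl1, hl2⟩ := exists_dual_ne_zero_two (V := W) (H := (⊥ : Submodule F W))
      (x := ⟨u, hu⟩) (y := ⟨u', hu'⟩) (by simpa using hu0) (by simpa using hu0')
    obtain ⟨y, hy⟩ := hW.exists_repr l
    have h1 : polar Q u y ≠ 0 := by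
      have := hy ⟨u, hu⟩; rw [polar_restr, polar_comm] at this; rw [this]; exact hl1
    have h2 : polar Q u' y ≠ 0 := by
      have := hy ⟨u', hu'⟩; rw [polar_restr, polar_comm] at this; rw [this]; exact hl2
    refine ⟨(y : V) + (-Q (y : V) / polar Q u y) • u, W.add_mem y.2 (W.smul_mem _ hu), ?_, ?_, ?_⟩
    · rw [map_add_polar, qmap_smul, hQu, polar_smul_right', polar_comm (⇑Q) (y : V) u,
        div_mul_cancel₀ _ h1]
      ring
    · rwa [polar_add_right, polar_smul_right', polar_self', hQu, mul_zero, mul_zero, add_zero]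
    · rwa [polar_add_right, polar_smul_right', polar_comm (⇑Q) u' u, hB, mul_zero, add_zero]
  obtain ⟨h1, h1'⟩ := step hu hw hQu hQw hw1
  obtain ⟨h2, h2'⟩ := step hw hu' hQw hQu' (by rwa [polar_comm])
  exact ⟨_, mul_mem h2 h1, by rw [Subgroup.coe_mul, mul_app, h1', h2']⟩

/-- The condition on a subspace `W` under which reflections of `V` generate its isometries:
it fails only for the hyperbolic four-space over `F₂` which is the whole space. -/
def Generic (Q : QuadraticForm F V) (W : Submodule F V) : Prop :=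
  (∃ a : F, a ≠ 0 ∧ a ≠ 1) ∨ finrank F W ≠ 4 ∨
    (∀ a ∈ W, ∀ b ∈ W, Q a = 0 → Q b = 0 → polar Q a b = 0 → ¬ LinearIndependent F ![a, b]) ∨
    ∃ t ∈ perp Q W, Q t = 1

/-- Moving a partner of `u` to another one by reflections fixing `u`. -/
theorem exists_partner_move (hQ : Nondeg Q) {W : Submodule F V} (hW : Nondeg (restr Q W))
    (hgen : Generic Q W) {u f f' : V} (hu : u ∈ W) (hf : f ∈ W) (hf' : f' ∈ W) (hQu : Q u = 0)
    (hQf : Q f = 0) (hQf' : Q f' = 0) (huf : polar Q u f = 1) (huf' : polar Q u f' = 1) :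
    ∃ r ∈ reflFixPerp Q W, (r : V ≃ₗ[F] V) u = u ∧ (r : V ≃ₗ[F] V) f = f' := by
  have step : ∀ {a b : V}, a ∈ W → b ∈ W → Q a = 0 → Q b = 0 → polar Q u a = 1 → polar Q u b = 1 →
      polar Q a b ≠ 0 → rO Q (a - b) ∈ reflFixPerp Q W ∧ (rO Q (a - b) : V ≃ₗ[F] V) u = u ∧
        (rO Q (a - b) : V ≃ₗ[F] V) a = b := by
    intro a b ha hb hQa hQb hua hub hab
    refine ⟨rO_mem_reflFixPerp (W.sub_mem ha hb), rO_fix ?_, rO_sub_swap (hQa.trans hQb.symm) ?_⟩
    · rw [polar_sub_left, polar_comm, hua, polar_comm, hub, sub_self]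
    · rw [qmap_sub, hQa, hQb, zero_add, zero_sub]
      exact neg_ne_zero.2 hab
  by_cases hB : polar Q f f' ≠ 0
  · exact ⟨_, step hf hf' hQf hQf' huf huf' hB⟩
  push Not at hB
  by_cases hff : f = f'
  · exact ⟨1, one_mem _, rfl, hff⟩
  set P := Submodule.span F {u, f}
  have hP : P ≤ W := Submodule.span_le.2 (by simp [Set.insert_subset_iff, hu, hf])
  obtain ⟨hK, -, hKr⟩ := hQ.nondeg_inf_perp hW (nondeg_hyperbolic_plane hQu hQf huf) hP
  rw [finrank_hyperbolic_plane hQu hQf huf] at hKr
  set K := W ⊓ perp Q P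
  set w' := f' - f with hw'
  have hw'u : polar Q u w' = 0 := by rw [hw', polar_sub_right, huf', huf, sub_self]
  have hw'f : polar Q f w' = 0 := by
    rw [hw', polar_sub_right, hB, polar_self', hQf]; ring
  have hw'K : w' ∈ K := ⟨W.sub_mem hf' hf, (mem_perp_span_pair Q).2 ⟨hw'u, hw'f⟩⟩
  have hQw' : Q w' = 0 := by
    rw [hw', qmap_sub, hQf, hQf', polar_comm, hB]; ring
  have hw'0 : w' ≠ 0 := sub_ne_zero.2 (Ne.symm hff)
  obtain ⟨z, hQz, hwz⟩ := hK.exists_partner (u := ⟨w', hw'K⟩)
    (fun h => hw'0 (congrArg Subtype.val h)) hQw'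
  rw [polar_restr] at hwz
  change polar Q w' (z : V) = 1 at hwz
  rw [restr_apply] at hQz
  by_cases hex : ∃ w ∈ K, Q w ≠ 0 ∧ Q w ≠ polar Q w' w
  · obtain ⟨w, hwK, hw1, hw2⟩ := hex
    have hwp := (mem_perp_span_pair Q).1 hwK.2
    set f'' := f + w + (-Q w) • u with hf''
    have hf''W : f'' ∈ W := W.add_mem (W.add_mem hf hwK.1) (W.smul_mem _ hu)
    have hQf'' : Q f'' = 0 := by
      simp only [hf'', map_add_polar, qmap_smul, polar_add_left, polar_smul_right', hQu, hQf,
        hwp.2, polar_comm (⇑Q) f u, huf, polar_comm (⇑Q) w u, hwp.1]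
      ring
    have huf'' : polar Q u f'' = 1 := by
      simp only [hf'', polar_add_right, polar_smul_right', polar_self', hQu, huf, hwp.1]
      ring
    have h1 : polar Q f f'' ≠ 0 := by
      simp only [hf'', polar_add_right, polar_smul_right', polar_self', hQf, hwp.2,
        polar_comm (⇑Q) f u, huf]
      simpa using hw1
    have h2 : polar Q f'' f' ≠ 0 := by
      have hf'eq : f' = f + w' := by rw [hw']; abel
      have : polar Q f'' f' = polar Q w' w - Q w := by
        rw [hf'eq, hf'']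
        simp only [polar_add_right, polar_add_left, polar_smul_left', polar_self', hQf,
          polar_comm (⇑Q) w f, hwp.2, huf, hw'f, hw'u, polar_comm (⇑Q) w w']
        ring
      rw [this, sub_ne_zero]; exact hw2.symm
    obtain ⟨a1, a2, a3⟩ := step hf hf''W hQf hQf'' huf huf'' h1
    obtain ⟨b1, b2, b3⟩ := step hf''W hf' hQf'' hQf' huf'' huf' h2
    exact ⟨_, mul_mem b1 a1, by rw [Subgroup.coe_mul, mul_app, a2, b2],
      by rw [Subgroup.coe_mul, mul_app, a3, b3]⟩
  push Not at hex
  have hq : ∀ a : F, a ≠ 0 → a = 1 := fun a ha => by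
    have h := hex (a • w' + (z : V)) (K.add_mem (K.smul_mem _ hw'K) z.2) (by
      rw [map_add_polar, qmap_smul, hQw', hQz, polar_smul_left', hwz]
      simpa using ha)
    rw [map_add_polar, qmap_smul, hQw', hQz, polar_smul_left', hwz, polar_add_right,
      polar_smul_right', polar_self', hQw', hwz] at h
    linear_combination h
  have h2 : (2 : F) = 0 := by
    by_contra h2
    exact one_ne_zero (α := F) (by linear_combination hq 2 h2)
  have hK2 : finrank F K = 2 := by
    by_contra hne
    set P' := Submodule.span F {w', (z : V)}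
    have hP' : P' ≤ K := Submodule.span_le.2 (by simp [Set.insert_subset_iff, hw'K])
    obtain ⟨hK', -, hr'⟩ := hQ.nondeg_inf_perp hK (nondeg_hyperbolic_plane hQw' hQz hwz) hP'
    rw [finrank_hyperbolic_plane hQw' hQz hwz] at hr'
    obtain ⟨x, hx⟩ : ∃ x : (K ⊓ perp Q P' : Submodule F V), restr Q _ x ≠ 0 := by
      by_contra hzero
      push Not at hzero
      have hTS : ∀ x : (K ⊓ perp Q P' : Submodule F V), x = 0 := fun x => hK' x fun y => by
        rw [polar, hzero, hzero, hzero, sub_zero, sub_zero]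
      have : Subsingleton (K ⊓ perp Q P' : Submodule F V) :=
        ⟨fun a b => (hTS a).trans (hTS b).symm⟩
      have h0 : finrank F (K ⊓ perp Q P' : Submodule F V) = 0 := finrank_zero_of_subsingleton
      exact hne (hr'.symm.trans ((congrArg (· + 2) h0).trans (Nat.zero_add 2)))
    have hxp := (mem_perp_span_pair Q).1 x.2.2
    exact hx (by rw [restr_apply]; exact (hex _ x.2.1 hx).trans hxp.1)
  rcases hgen with ⟨a, ha, ha1⟩ | h4 | hts | ⟨t, ht, hQt⟩
  · exact absurd (hq a ha) ha1
  · exact absurd (show finrank F W = 4 by omega) h4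
  · refine absurd ?_ (hts u hu w' hw'K.1 hQu hQw' hw'u)
    rw [LinearIndependent.pair_iff]
    intro a b hab
    have hb : b = 0 := by
      have := congrArg (polar Q (z : V)) hab
      rwa [polar_add_right, polar_smul_right', polar_smul_right', polar_zero_right,
        polar_comm (⇑Q) (z : V) w', hwz, polar_comm (⇑Q) (z : V) u,
        ((mem_perp_span_pair Q).1 z.2.2).1, mul_zero, zero_add, mul_one] at this
    subst hb
    rw [zero_smul, add_zero, smul_eq_zero] at hab
    exact ⟨hab.resolve_right fun h => by rw [h, polar_zero_left] at huf; exact zero_ne_one huf, rfl⟩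
  · have htu : polar Q t u = 0 := (mem_perp' Q).1 ht u hu
    have htw : polar Q t w' = 0 := (mem_perp' Q).1 ht w' hw'K.1
    have hfix : ∀ y ∈ perp Q W,
        (rO Q t * rO Q (t + u) * (rO Q (t + w') * rO Q (t + w' + u)) : O Q).1 y = y := fun y hy => by
      rw [siegel_eq_four h2 hQt hQu hQw' htu htw hw'u, hy u hu, hy w' hw'K.1]; simp
    refine ⟨_, ⟨mul_mem (mul_mem (rO_mem_reflGroup _) (rO_mem_reflGroup _))
      (mul_mem (rO_mem_reflGroup _) (rO_mem_reflGroup _)), hfix⟩, ?_, ?_⟩
    · rw [siegel_eq_four h2 hQt hQu hQw' htu htw hw'u, polar_self', hQu, polar_comm (⇑Q) w' u, hw'u]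
      simp
    · rw [siegel_eq_four h2 hQt hQu hQw' htu htw hw'u, huf, polar_comm (⇑Q) w' f, hw'f, hw']
      simp

variable [Finite F]

/-- The key induction: isometries fixing `perp W` pointwise are products of reflections. -/
theorem mem_reflGroup_of_fix (hQ : Nondeg Q) : ∀ (W : Submodule F V), Nondeg (restr Q W) →
    Generic Q W → ∀ g : O Q, (∀ y ∈ perp Q W, (g : V ≃ₗ[F] V) y = y) → g ∈ reflGroup Q := by
  intro W
  induction hd : finrank F W using Nat.strong_induction_on generalizing W with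
  | _ d ih =>
  subst hd
  intro hW hgen g hg
  have hWinv : ∀ g : O Q, (∀ y ∈ perp Q W, (g : V ≃ₗ[F] V) y = y) →
      ∀ x ∈ W, (g : V ≃ₗ[F] V) x ∈ W := fun g hg x hx => by
    have := map_mem_perp g (W := perp Q W) (fun y hy => by rw [hg y hy]; exact hy)
      (y := x) (by rw [hQ.perp_perp]; exact hx)
    rwa [hQ.perp_perp] at this
  suffices ∃ r ∈ reflGroup Q, r * g ∈ reflGroup Q by
    obtain ⟨r, hr, hrg⟩ := this
    simpa using mul_mem (inv_mem hr) hrg
  by_cases hiso : ∃ u ∈ W, u ≠ 0 ∧ Q u = 0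
  · obtain ⟨u, hu, hu0, hQu⟩ := hiso
    obtain ⟨f, hQf, huf⟩ := hW.exists_partner (u := ⟨u, hu⟩)
      (fun h => hu0 (congrArg Subtype.val h)) hQu
    rw [polar_restr] at huf
    rw [restr_apply] at hQf
    change polar Q u (f : V) = 1 at huf
    obtain ⟨r, hr, hru⟩ := exists_singular_move hW (hWinv g hg u hu) hu
      (fun h => hu0 ((g : V ≃ₗ[F] V).map_eq_zero_iff.1 h)) hu0 (by rw [O.map_app]; exact hQu) hQu
    have hrg1 : ∀ y ∈ perp Q W, ((r * g : O Q) : V ≃ₗ[F] V) y = y := fun y hy => by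
      rw [Subgroup.coe_mul, mul_app, hg y hy, hr.2 y hy]
    have hf1 := hWinv _ hrg1 f f.2
    obtain ⟨s, hs, hsu, hsf⟩ := exists_partner_move hQ hW hgen hu hf1 f.2 hQu
      (by rw [O.map_app]; exact hQf) hQf
      (by
        have hp := O.polar_app (r * g) u f
        rw [Subgroup.coe_mul, mul_app, mul_app, hru] at hp
        rw [Subgroup.coe_mul, mul_app, hp, huf]) huf
    refine ⟨s * r, mul_mem hs.1 hr.1, ?_⟩
    set P := Submodule.span F {u, (f : V)}
    have hP : P ≤ W := Submodule.span_le.2 (by simp [Set.insert_subset_iff, hu])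
    obtain ⟨hK, hKperp, hKr⟩ := hQ.nondeg_inf_perp hW (nondeg_hyperbolic_plane hQu hQf huf) hP
    rw [finrank_hyperbolic_plane hQu hQf huf] at hKr
    refine ih _ (Nat.lt_of_lt_of_eq (Nat.lt_add_of_pos_right (by norm_num)) hKr) (W ⊓ perp Q P)
      rfl hK (Or.inr (Or.inr (Or.inr ⟨u + (f : V), ?_, ?_⟩)))
      _ ?_
    · rw [hKperp]
      exact Submodule.mem_sup_right
        (P.add_mem (Submodule.subset_span (by simp)) (Submodule.subset_span (by simp)))
    · rw [map_add_polar, hQu, hQf, huf]; ring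
    · rw [hKperp]
      intro y hy
      obtain ⟨a, ha, p, hp, rfl⟩ := Submodule.mem_sup.1 hy
      have e : ∀ x, ((s * r * g : O Q) : V ≃ₗ[F] V) x =
          (s : V ≃ₗ[F] V) (((r * g : O Q) : V ≃ₗ[F] V) x) := fun x => by
        simp only [Subgroup.coe_mul, mul_app]
      obtain ⟨c, d, rfl⟩ := Submodule.mem_span_pair.1 hp
      simp only [map_add, map_smul, e, hrg1 a ha, hs.2 a ha, hsf]
      rw [Subgroup.coe_mul, mul_app, hru, hsu]
  · push Not at hiso
    have ha : ∀ x : W, restr Q W x = 0 → x = 0 := fun x hx => Subtype.ext (by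
      by_contra h; exact hiso x x.2 h hx)
    have hle : finrank F W ≤ 2 :=
      finrank_le_two_of_aniso hW fun x hx hQx => by by_contra h; exact hiso x hx h hQx
    have hgext : g = extendO hQ hW (restrictO g (hWinv g hg)) :=
      eq_glue_of_eqOn (hQ.isCompl_perp hW) (perp_ortho W) g (restrictO g (hWinv g hg), 1)
        (fun _ => rfl) (fun y => hg y y.2)
    have key : ∀ a : O (restr Q W), a ∈ reflGroup (restr Q W) := by
      intro a
      rcases Nat.eq_zero_or_pos (finrank F W) with h0 | hpos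
      · have : Subsingleton W := Module.finrank_zero_iff.1 h0
        rw [show a = 1 from O.ext_app fun _ => Subsingleton.elim _ _]; exact one_mem _
      have : Nontrivial W := Module.finrank_pos_iff.1 hpos
      obtain ⟨v, hv⟩ := exists_ne (0 : W)
      obtain ⟨r, hr, hrv⟩ : ∃ r ∈ reflGroup (restr Q W),
          (r : W ≃ₗ[F] W) ((a : W ≃ₗ[F] W) v) = v := by
        by_cases h : (a : W ≃ₗ[F] W) v = v
        · exact ⟨1, one_mem _, h⟩
        · exact ⟨_, rO_mem_reflGroup _, rO_sub_swap (O.map_app a v)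
            fun h0 => h (sub_eq_zero.1 (ha _ h0))⟩
      suffices r * a ∈ reflGroup (restr Q W) by simpa using mul_mem (inv_mem hr) this
      have hfix : ((r * a : O (restr Q W)) : W ≃ₗ[F] W) v = v := by
        rw [Subgroup.coe_mul, mul_app, hrv]
      rcases (by omega : finrank F W = 1 ∨ finrank F W = 2) with h1 | h2
      · have hra : r * a = 1 := O.ext_app fun x => by
          obtain ⟨c, rfl⟩ := (finrank_eq_one_iff_of_nonzero' v hv).1 h1 x
          rw [map_smul, hfix]; rfl
        rw [hra]; exact one_mem _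
      · obtain ⟨w, hw, hvw⟩ := hW.exists_perp_vec h2 hv
        rcases hW.stab_plane h2 ha hv hw hvw hfix with h | h <;> rw [h]
        · exact one_mem _
        · exact rO_mem_reflGroup w
    refine ⟨1, one_mem _, ?_⟩
    rw [one_mul, hgext]
    have hle' : (reflGroup (restr Q W)).map (extendO hQ hW) ≤ reflGroup Q := by
      rw [reflGroup, MonoidHom.map_closure]
      refine Subgroup.closure_mono ?_
      rintro - ⟨-, ⟨w, rfl⟩, rfl⟩
      exact ⟨(w : V), (extendO_rO hQ hW w).symm⟩
    exact hle' ⟨_, key _, rfl⟩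

/-- Reflections generate the orthogonal group of a finite space with non-degenerate polar form,
unless it is a hyperbolic four-space over the field of two elements. -/
theorem reflGroup_eq_top' (hQ : Nondeg Q) (h : Generic Q ⊤) : reflGroup Q = ⊤ :=
  eq_top_iff.2 fun g _ => mem_reflGroup_of_fix hQ ⊤ (nondeg_restr_top hQ) h g
    (fun y hy => by rw [hQ.perp_top, Submodule.mem_bot] at hy; rw [hy, map_zero])

theorem reflGroup_eq_top (hQ : Nondeg Q) (h : Nat.card F ≠ 2 ∨ finrank F V ≠ 4) :
    reflGroup Q = ⊤ := by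
  refine reflGroup_eq_top' hQ ?_
  rcases h with h | h
  · refine Or.inl ?_
    by_contra hc
    push Not at hc
    refine h (Nat.card_eq_two_iff.2 ⟨0, 1, zero_ne_one, Set.eq_univ_of_forall fun a => ?_⟩)
    by_cases ha : a = 0
    · simp [ha]
    · simp [hc a ha]
  · exact Or.inr (Or.inl (by rwa [finrank_top]))

end Cfsg.Agent.Orthogonal
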