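import Mathlib
import Cfsg.Agent.H56.OutPSL

/-!
Frobenius of a finite field as an element of the automorphism group, and the absolute trace
criterion for `t ^ 2 + t = c` in characteristic two.
-/

set_option autoImplicit false

namespace Cfsg.Agent.Orthogonal

open Polynomial

variable {F : Type*} [Field F] [Fintype F] {p f : ℕ} [Fact p.Prime]

theorem charP_of_card (hf : 1 ≤ f) (hF : Fintype.card F = p ^ f) : CharP F p := by
  obtain ⟨r, hr⟩ := CharP.exists F
  obtain ⟨k, hrp, hk⟩ := FiniteField.card F r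
  have hd : r ∣ p ^ f := hF ▸ hk ▸ dvd_pow_self r k.pos.ne'
  obtain rfl : r = p :=
    (Nat.prime_dvd_prime_iff_eq hrp Fact.out).mp (hrp.dvd_of_dvd_pow hd)
  exact hr

section

variable [CharP F p]

/-- The Frobenius automorphism. -/
noncomputable def frobAut (F : Type*) [Field F] [Fintype F] (p : ℕ) [Fact p.Prime] [CharP F p] :
    RingAut F :=
  haveI : ExpChar F p := .prime Fact.out
  RingEquiv.ofBijective (frobenius F p)
    ⟨frobenius_inj F p, Finite.injective_iff_surjective.1 (frobenius_inj F p)⟩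

theorem frobAut_apply (x : F) : frobAut F p x = x ^ p := rfl

theorem frobAut_pow_apply (k : ℕ) (x : F) : (frobAut F p ^ k) x = x ^ p ^ k := by
  induction k generalizing x with
  | zero => simp
  | succ k ih =>
    rw [pow_succ, RingAut.mul_apply, frobAut_apply, ih, ← pow_mul, ← pow_succ']

theorem orderOf_frobAut (hf : 1 ≤ f) (hF : Fintype.card F = p ^ f) :
    orderOf (frobAut F p) = f := by
  have hpow : frobAut F p ^ f = 1 := RingEquiv.ext fun x => by
    rw [frobAut_pow_apply, ← hF, FiniteField.pow_card, RingAut.one_apply]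
  refine le_antisymm (orderOf_le_of_pow_eq_one hf hpow) ?_
  by_contra hlt
  push Not at hlt
  obtain ⟨k, hk⟩ : ∃ k, k = orderOf (frobAut F p) := ⟨_, rfl⟩
  have hk0 : 0 < k := hk ▸ orderOf_pos_iff.2 (isOfFinOrder_iff_pow_eq_one.2 ⟨f, hf, hpow⟩)
  have hall : ∀ x : F, x ^ p ^ k = x := fun x => by
    rw [← frobAut_pow_apply, hk, pow_orderOf_eq_one, RingAut.one_apply]
  have h1 : 1 < p ^ k := Nat.one_lt_pow hk0.ne' (Fact.out : p.Prime).one_lt
  have hdeg : ((X : F[X]) ^ p ^ k - X).natDegree = p ^ k :=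
    FiniteField.X_pow_card_sub_X_natDegree_eq F h1
  have hne : (X : F[X]) ^ p ^ k - X ≠ 0 := FiniteField.X_pow_card_sub_X_ne_zero F h1
  have hsub : (Finset.univ : Finset F).val ⊆ ((X : F[X]) ^ p ^ k - X).roots := by
    intro x _
    rw [Polynomial.mem_roots hne]
    simp [hall x]
  have hle := (Multiset.card_le_card ((Multiset.le_iff_subset Finset.univ.nodup).2 hsub)).trans
    (Polynomial.card_roots' _)
  rw [hdeg, Finset.card_val, Finset.card_univ, hF] at hle
  have := Nat.pow_lt_pow_right (Fact.out : p.Prime).one_lt (hk ▸ hlt)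
  omega

theorem exists_pow_frobAut (hf : 1 ≤ f) (hF : Fintype.card F = p ^ f) (σ : RingAut F) :
    ∃ j : ℕ, frobAut F p ^ j = σ := by
  obtain ⟨e⟩ := Cfsg.Agent.H56.ringAut_equiv F hf hF
  have : NeZero f := ⟨by omega⟩
  have : Finite (RingAut F) := Finite.of_equiv _ e.toEquiv.symm
  have hcard : Nat.card (RingAut F) = f := by
    rw [Nat.card_congr e.toEquiv, Nat.card_congr Multiplicative.toAdd, Nat.card_zmod]
  have htop : Subgroup.zpowers (frobAut F p) = ⊤ :=
    Subgroup.eq_top_of_card_eq _ (by rw [Nat.card_zpowers, orderOf_frobAut hf hF, hcard])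
  have h : σ ∈ Subgroup.zpowers (frobAut F p) := htop ▸ Subgroup.mem_top σ
  exact mem_powers_iff_mem_zpowers.2 h

end

/-! ### The absolute trace in characteristic two -/

/-- The absolute trace, defined recursively. -/
def traceTwo (c : F) : ℕ → F
  | 0 => 0
  | k + 1 => traceTwo c k ^ 2 + c

theorem traceTwo_sq_add (h2 : (2 : F) = 0) (t : F) (k : ℕ) :
    traceTwo (t ^ 2 + t) k = t ^ 2 ^ k + t := by
  induction k with
  | zero =>
    rw [traceTwo, pow_zero, pow_one]
    linear_combination (-t) * h2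
  | succ k ih =>
    rw [traceTwo, ih, pow_succ 2 k, pow_mul]
    linear_combination (t ^ 2 ^ k * t + t ^ 2) * h2

theorem exists_root_of_traceTwo_eq_zero {f : ℕ} (hf : 1 ≤ f) (hF : Fintype.card F = 2 ^ f) {c : F}
    (hc : traceTwo c f = 0) : ∃ t : F, t ^ 2 + t = c := by
  classical
  have : Fact (Nat.Prime 2) := ⟨Nat.prime_two⟩
  have : CharP F 2 := charP_of_card hf hF
  have h2 : (2 : F) = 0 := CharTwo.two_eq_zero
  obtain ⟨T, hT⟩ : ∃ T : ℕ → F[X], ∀ k x, (T k).eval x = traceTwo x k ∧
      (1 ≤ k → (T k).natDegree ≤ 2 ^ (k - 1) ∧ (T k).coeff 1 = 1) := by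
    refine ⟨fun k => Nat.rec 0 (fun _ q => q ^ 2 + X) k, fun k x => ?_⟩
    induction k with
    | zero => exact ⟨by simp [traceTwo], fun h => absurd h (by omega)⟩
    | succ k ih =>
      refine ⟨by simp [traceTwo, ← ih.1], fun _ => ?_⟩
      rcases Nat.eq_zero_or_pos k with rfl | hk
      · simp [Polynomial.coeff_X]
      · obtain ⟨hd, -⟩ := ih.2 hk
        refine ⟨(Polynomial.natDegree_add_le _ _).trans (max_le ?_ ?_), ?_⟩
        · rw [Polynomial.natDegree_pow]
          calc 2 * _ ≤ 2 * 2 ^ (k - 1) := Nat.mul_le_mul_left 2 hd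
            _ = 2 ^ (k + 1 - 1) := by rw [← pow_succ', Nat.add_sub_cancel, Nat.sub_add_cancel hk]
        · rw [Polynomial.natDegree_X]; exact Nat.one_le_two_pow
        · rw [Polynomial.coeff_add, Polynomial.coeff_X_one, pow_two, Polynomial.coeff_mul]
          simp [Finset.Nat.antidiagonal_succ, mul_comm]
          rw [← two_mul, h2, zero_mul]
  obtain ⟨hdeg, hco⟩ := (hT f c).2 hf
  have hne : T f ≠ 0 := fun h => by rw [h, Polynomial.coeff_zero] at hco; exact zero_ne_one hco
  let K : Finset F := Finset.univ.filter fun x => traceTwo x f = 0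
  let R : Finset F := Finset.univ.image fun t : F => t ^ 2 + t
  have hRK : R ⊆ K := by
    intro x hx
    obtain ⟨t, -, rfl⟩ := Finset.mem_image.1 hx
    refine Finset.mem_filter.2 ⟨Finset.mem_univ _, ?_⟩
    rw [traceTwo_sq_add h2, ← hF, FiniteField.pow_card, ← two_mul, h2, zero_mul]
  have hK : K.card ≤ 2 ^ (f - 1) := by
    refine le_trans ?_ (((T f).card_roots').trans hdeg)
    refine le_trans ?_ (Multiset.toFinset_card_le _)
    refine Finset.card_le_card fun x hx => ?_
    rw [Multiset.mem_toFinset, Polynomial.mem_roots hne, Polynomial.IsRoot, (hT f x).1]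
    exact (Finset.mem_filter.1 hx).2
  have hR : 2 ^ f ≤ 2 * R.card := by
    have h1 : (Finset.univ : Finset F).card ≤ 2 * R.card := by
      refine Finset.card_le_mul_card_image _ 2 fun b hb => ?_
      obtain ⟨t, -, rfl⟩ := Finset.mem_image.1 hb
      refine le_trans (Finset.card_le_card (t := {t, t + 1}) fun s hs => ?_) Finset.card_le_two
      have hs' : s ^ 2 + s = t ^ 2 + t := (Finset.mem_filter.1 hs).2
      have h4 : (s - t) * (s - (t + 1)) = 0 := by
        linear_combination hs' + (t ^ 2 + t - s * t - s) * h2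
      rcases mul_eq_zero.1 h4 with h | h
      · simp [sub_eq_zero.1 h]
      · simp [sub_eq_zero.1 h]
    rwa [Finset.card_univ, hF] at h1
  have heq : R = K := Finset.eq_of_subset_of_card_le hRK (by
    have : 2 ^ f = 2 * 2 ^ (f - 1) := by rw [← pow_succ', Nat.sub_add_cancel hf]
    omega)
  have hm : c ∈ R := heq ▸ Finset.mem_filter.2 ⟨Finset.mem_univ _, hc⟩
  obtain ⟨t, -, ht⟩ := Finset.mem_image.1 hm
  exact ⟨t, ht⟩

end Cfsg.Agent.Orthogonal
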