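import Cfsg.Agent.Orthogonal.Generation

/-!
Determinants of isometries and reflections, in the matrix model `Cfsg.isometryGroup`.
-/

set_option autoImplicit false

namespace Cfsg.Agent.Orthogonal

open QuadraticMap Module Matrix

variable {F : Type*} [Field F] {ι : Type} [Fintype ι] [DecidableEq ι]
variable {Q : QuadraticForm F (ι → F)}

theorem det_sq_eq_one (hQ : Nondeg Q) (g : Cfsg.isometryGroup F (⇑Q)) :
    ((g : GL ι F) : Matrix ι ι F).det ^ 2 = 1 := by
  set A : Matrix ι ι F := ((g : GL ι F) : Matrix ι ι F)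
  set G : Matrix ι ι F := LinearMap.BilinForm.toMatrix' Q.polarBilin with hG
  have hG0 : G.det ≠ 0 := by
    exact (LinearMap.BilinForm.nondegenerate_toMatrix'_iff).2 hQ.polarBilin |> Matrix.nondegenerate_iff_det_ne_zero.1
  have h : Aᵀ * G * A = G := by
    have h1 : LinearMap.BilinForm.toMatrix' (LinearMap.BilinForm.comp Q.polarBilin (Matrix.toLin' A) (Matrix.toLin' A))
        = G := by
      congr 1
      refine LinearMap.ext₂ fun x y => ?_
      exact O.polar_app (toO Q g) x y
    rw [LinearMap.BilinForm.toMatrix'_comp, LinearMap.toMatrix'_toLin'] at h1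
    exact h1
  have h2 := congrArg Matrix.det h
  rw [det_mul, det_mul, det_transpose] at h2
  exact mul_right_cancel₀ hG0 (by linear_combination h2)

theorem det_reflectionMatrix {v : ι → F} (hv : Q v ≠ 0) :
    (Cfsg.reflectionMatrix (⇑Q) v).det = -1 := by
  have hp := polarVec_dot Q v v
  rw [polar_self'] at hp
  have hv' : (Q v)⁻¹ * Q v = 1 := inv_mul_cancel₀ hv
  rw [Cfsg.reflectionMatrix, sub_eq_add_neg, ← neg_smul, ← Matrix.smul_vecMulVec,
    Matrix.vecMulVec_eq Unit, Matrix.det_one_add_replicateCol_mul_replicateRow, dotProduct_smul,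
    hp, smul_eq_mul]
  linear_combination (-2 : F) * hv'

/-- The reflection in `v` as an element of `Cfsg.isometryGroup`. -/
noncomputable def reflIso (Q : QuadraticForm F (ι → F)) (v : ι → F) :
    Cfsg.isometryGroup F (⇑Q) := (toO Q).symm (rO Q v)

theorem reflIso_val (v : ι → F) :
    ((reflIso Q v : GL ι F) : Matrix ι ι F) = Cfsg.reflectionMatrix (⇑Q) v :=
  (toO_eq_rO_iff Q _ v).1 (MulEquiv.apply_symm_apply _ _)

/-- The reflections generate `Cfsg.isometryGroup`. -/
theorem closure_reflections_eq_top [Finite F] (hQ : Nondeg Q)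
    (h : Nat.card F ≠ 2 ∨ Fintype.card ι ≠ 4) :
    Subgroup.closure {g : Cfsg.isometryGroup F (⇑Q) | ∃ v : ι → F, Q v ≠ 0 ∧
      ((g : GL ι F) : Matrix ι ι F) = Cfsg.reflectionMatrix (⇑Q) v} = ⊤ := by
  refine eq_top_iff.2 fun g _ => ?_
  have hg : toO Q g ∈ reflGroup Q := by
    rw [reflGroup_eq_top hQ (by rwa [Module.finrank_fintype_fun_eq_card])]; trivial
  have : g ∈ (reflGroup Q).map (toO Q).symm.toMonoidHom :=
    ⟨toO Q g, hg, (toO Q).symm_apply_apply g⟩
  rw [reflGroup, MonoidHom.map_closure] at this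
  refine (Subgroup.closure_le _).2 ?_ this
  rintro - ⟨-, ⟨v, rfl⟩, rfl⟩
  by_cases hv : Q v = 0
  · rw [rO_of_singular hv, map_one]; exact one_mem _
  · exact Subgroup.subset_closure ⟨v, hv, reflIso_val v⟩

end Cfsg.Agent.Orthogonal
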