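import Cfsg.Agent.Orthogonal.AutStab

/-!
Automorphisms of the simple orthogonal group (commutator modulo centre) permute the stabilisers of
singular points, and hence their unipotent radicals.
-/

set_option autoImplicit false
set_option linter.unusedSectionVars false

namespace Cfsg.Agent.Orthogonal

open QuadraticMap Module

variable {F V : Type*} [Field F] [AddCommGroup V] [Module F V] [FiniteDimensional F V] [Finite F]
variable {Q : QuadraticForm F V}

/-- The projective commutator group. -/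
abbrev PC (Q : QuadraticForm F V) : Type _ :=
  commutator (O Q) ⧸ Subgroup.center (commutator (O Q))

/-- The projection onto the projective commutator group. -/
abbrev toPC (Q : QuadraticForm F V) : commutator (O Q) →* PC Q :=
  QuotientGroup.mk' (Subgroup.center (commutator (O Q)))

/-- The stabiliser of a point in the projective group. -/
def stabP (Q : QuadraticForm F V) (u : V) : Subgroup (PC Q) :=
  ((stabT Q (Submodule.span F {u})).subgroupOf (commutator (O Q))).map (toPC Q)

/-- The image of the unipotent radical. -/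
noncomputable def unipP (Q : QuadraticForm F V) (u : V) (hu : Q u = 0) : Subgroup (PC Q) :=
  ((unip Q u hu).subgroupOf (commutator (O Q))).map (toPC Q)

/-- Excludes the maximal totally singular subspaces in dimension 8. -/
def NoTriality (Q : QuadraticForm F V) : Prop :=
  ¬ (finrank F V = 8 ∧ ∃ T : Submodule F V, TotSing Q T ∧ finrank F T = 4)

theorem finite_O : Finite (O Q) := by
  have : Finite V := Module.finite_of_finite F
  exact Finite.of_injective (fun g : O Q => fun x => (g : V ≃ₗ[F] V) x)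
    fun a b h => O.ext_app fun x => congrFun h x

theorem toPC_surjective : Function.Surjective (toPC Q) :=
  QuotientGroup.mk'_surjective _

theorem center_scalar (hQ : Nondeg Q) (hn : 5 ≤ finrank F V) {z : commutator (O Q)}
    (hz : z ∈ Subgroup.center (commutator (O Q))) :
    ∃ s : F, s * s = 1 ∧ ∀ x, ((z : O Q) : V ≃ₗ[F] V) x = s • x := by
  obtain ⟨s, hs⟩ := (mem_center_commutator_iff hQ hn z).1 hz
  obtain ⟨v, hv⟩ := hQ.exists_value (by omega) 1
  have h := O.map_app (z : O Q) v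
  rw [hs, qmap_smul, hv] at h
  exact ⟨s, by linear_combination h, hs⟩

theorem center_eq_one_of_pow (hQ : Nondeg Q) (hn : 5 ≤ finrank F V) {p : ℕ} [Fact p.Prime]
    [CharP F p] {z : commutator (O Q)} (hz : z ∈ Subgroup.center (commutator (O Q))) {k : ℕ}
    (hk : z ^ p ^ k = 1) : z = 1 := by
  obtain ⟨s, -, hs⟩ := center_scalar hQ hn hz
  obtain ⟨v, hv0, -⟩ := hQ.exists_singular (by omega)
  have hpow : ∀ (j : ℕ) (x : V),
      (((z ^ j : commutator (O Q)) : O Q) : V ≃ₗ[F] V) x = s ^ j • x := by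
    intro j x
    induction j with
    | zero => rw [pow_zero, pow_zero, one_smul]; rfl
    | succ j ih =>
      rw [pow_succ', Subgroup.coe_mul, Subgroup.coe_mul, mul_app, ih, map_smul, hs, smul_smul,
        pow_succ]
  have h1 := hpow (p ^ k) v
  rw [hk] at h1
  have h2 : (s ^ p ^ k - 1) • v = 0 := by rw [sub_smul, one_smul, ← h1]; simp
  have h3 : s ^ p ^ k = 1 := sub_eq_zero.1 ((smul_eq_zero.1 h2).resolve_right hv0)
  have : ExpChar F p := .prime Fact.out
  have hs1 : s = 1 := iterateFrobenius_inj F p k (by rw [iterateFrobenius_def, h3, map_one])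
  exact Subtype.ext (O.ext_app fun x => by rw [hs, hs1, one_smul]; rfl)

theorem center_le_stab (hQ : Nondeg Q) (hn : 5 ≤ finrank F V) (T : Submodule F V) :
    (toPC Q).ker ≤ (stabT Q T).subgroupOf (commutator (O Q)) := by
  intro z hz
  rw [QuotientGroup.ker_mk'] at hz
  obtain ⟨s, hs2, hs⟩ := center_scalar hQ hn hz
  rw [Subgroup.mem_subgroupOf, mem_stabT]
  refine le_antisymm ?_ fun x hx => ?_
  · rintro _ ⟨x, hx, rfl⟩
    rw [LinearEquiv.coe_coe, hs]; exact T.smul_mem _ hx
  · exact ⟨s • x, T.smul_mem _ hx, by rw [LinearEquiv.coe_coe, hs, smul_smul, hs2, one_smul]⟩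

theorem mem_stabP (hQ : Nondeg Q) (hn : 5 ≤ finrank F V) {u : V} {g : commutator (O Q)} :
    toPC Q g ∈ stabP Q u ↔ (g : O Q) ∈ stabT Q (Submodule.span F {u}) := by
  constructor
  · intro h
    have h1 : g ∈ (((stabT Q (Submodule.span F {u})).subgroupOf (commutator (O Q))).map
        (toPC Q)).comap (toPC Q) := h
    rwa [Subgroup.comap_map_eq_self (center_le_stab hQ hn _), Subgroup.mem_subgroupOf] at h1
  · exact fun h => ⟨g, h, rfl⟩

theorem index_stabP (hQ : Nondeg Q) (hn : 5 ≤ finrank F V) {u : V} (hu0 : u ≠ 0) (hu : Q u = 0) :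
    (stabP Q u).index = pointCount Q := by
  rw [stabP, Subgroup.index_map_eq _ toPC_surjective (center_le_stab hQ hn _)]
  exact index_stab_point hQ (by omega) _ (sieGroup_eq_commutator hQ hn).le hu0 hu

theorem unipP_le_stabP {u : V} (hu : Q u = 0) : unipP Q u hu ≤ stabP Q u := by
  refine Subgroup.map_mono fun g hg => ?_
  rw [Subgroup.mem_subgroupOf, mem_stabT, Submodule.map_span, Set.image_singleton,
    LinearEquiv.coe_coe, unip_fix hu (show (g : O Q) ∈ _ from hg)]

theorem unipP_normal {u : V} (hu0 : u ≠ 0) (hu : Q u = 0) :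
    ∀ x ∈ stabP Q u, ∀ d ∈ unipP Q u hu, x * d * x⁻¹ ∈ unipP Q u hu := by
  rintro _ ⟨a, ha, rfl⟩ _ ⟨b, hb, rfl⟩
  obtain ⟨t, ht, hta⟩ := (mem_stabT_singleton hu0).1 ha
  refine ⟨a * b * a⁻¹, ?_, by simp⟩
  exact unip_normal hu ht hta hb

theorem isPGroup_unipP {p : ℕ} [CharP F p] {u : V} (hu : Q u = 0) :
    IsPGroup p (unipP Q u hu) := by
  refine IsPGroup.map (fun x => ⟨1, Subtype.ext (Subtype.ext ?_)⟩) _
  rw [pow_one, Subgroup.coe_pow, Subgroup.coe_pow]
  exact unip_pow_char hu x.2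

theorem exists_unip_ne_one (hQ : Nondeg Q) (hn : 5 ≤ finrank F V) {u v : V} (hu0 : u ≠ 0)
    (hu : Q u = 0) (huv : polar Q u v = 0) :
    ∃ x : commutator (O Q), (x : O Q) ∈ unip Q u hu ∧ toPC Q x ≠ 1 ∧
      ((x : O Q) : V ≃ₗ[F] V) v = v := by
  obtain ⟨g, hg, hg1, hgv⟩ := exists_unip_fix hQ hn hu0 hu huv
  refine ⟨⟨g, unip_le_commutator hQ hn hu hg⟩, hg, fun h => hg1 ?_, hgv⟩
  obtain ⟨p, hp⟩ := CharP.exists F
  have : Fact p.Prime := ⟨CharP.char_is_prime F p⟩
  have hz := center_eq_one_of_pow hQ hn (p := p) ((QuotientGroup.eq_one_iff _).1 h) (k := 1)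
    (Subtype.ext (by rw [pow_one, Subgroup.coe_pow]; exact unip_pow_char hu hg))
  exact congrArg Subtype.val hz

theorem unipP_ne_bot (hQ : Nondeg Q) (hn : 5 ≤ finrank F V) {u : V} (hu0 : u ≠ 0) (hu : Q u = 0) :
    unipP Q u hu ≠ ⊥ := by
  obtain ⟨x, hx, hx1, -⟩ := exists_unip_ne_one hQ hn hu0 hu
    (v := 0) (polar_zero_right (Q := Q) u)
  exact fun h => hx1 (by
    have : toPC Q x ∈ unipP Q u hu := ⟨x, hx, rfl⟩
    rwa [h, Subgroup.mem_bot] at this)

/-- A `p`-subgroup of the projective group lifts, compatibly with normalisers. -/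
theorem exists_lift_pgroup (hQ : Nondeg Q) (hn : 5 ≤ finrank F V) {p : ℕ} [Fact p.Prime]
    [CharP F p] {D : Subgroup (PC Q)} (hD : IsPGroup p D) :
    ∃ D' : Subgroup (O Q), IsPGroup p D' ∧ D' ≤ commutator (O Q) ∧
      (D'.subgroupOf (commutator (O Q))).map (toPC Q) = D ∧
      ∀ g : commutator (O Q), (∀ d ∈ D, toPC Q g * d * (toPC Q g)⁻¹ ∈ D) →
        ∀ x ∈ D', (g : O Q) * x * (g : O Q)⁻¹ ∈ D' := by
  have := finite_O (Q := Q)
  let P : Sylow p (D.comap (toPC Q)) := default
  let π : D.comap (toPC Q) →* D := ((toPC Q).comp (D.comap (toPC Q)).subtype).codRestrict D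
    fun x => x.2
  have hπ : Function.Surjective π := by
    rintro ⟨y, hy⟩
    obtain ⟨x, rfl⟩ := toPC_surjective y
    exact ⟨⟨x, hy⟩, rfl⟩
  have himg : (P : Subgroup (D.comap (toPC Q))).map π = ⊤ := by
    have h1 := (P.mapSurjective hπ).3 (hD.to_subgroup ⊤) le_top
    rw [Sylow.coe_mapSurjective] at h1
    exact h1.symm
  have hchar : ∀ (x : D.comap (toPC Q)) (k : ℕ), x ^ (p ^ k) = 1 →
      x ∈ (P : Subgroup (D.comap (toPC Q))) := by
    intro x k hk
    obtain ⟨y, hy, hyx⟩ : π x ∈ (P : Subgroup (D.comap (toPC Q))).map π := by rw [himg]; trivial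
    obtain ⟨l, hl⟩ := P.2 ⟨y, hy⟩
    have hl' : y ^ p ^ l = 1 := congrArg Subtype.val hl
    have hz : ((y : commutator (O Q))⁻¹ * x) ∈ Subgroup.center (commutator (O Q)) := by
      have h2 : toPC Q (y : commutator (O Q)) = toPC Q x := congrArg Subtype.val hyx
      have h5 : toPC Q ((y : commutator (O Q))⁻¹ * x) = 1 := by
        rw [map_mul, map_inv]; exact inv_mul_eq_one.2 h2
      exact (QuotientGroup.eq_one_iff _).1 h5
    have hc : Commute (y : commutator (O Q))⁻¹ (x : commutator (O Q)) := by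
      have h3 := Subgroup.mem_center_iff.1 hz (y : commutator (O Q))
      rw [mul_inv_cancel_left] at h3
      exact (show Commute (y : commutator (O Q)) x by
        have h4 := congrArg ((y : commutator (O Q)) * ·) h3
        simp only [← mul_assoc, mul_inv_cancel, one_mul] at h4
        exact h4).inv_left
    have hz1 : (y : commutator (O Q))⁻¹ * x = 1 := by
      refine center_eq_one_of_pow hQ hn (p := p) hz (k := k + l) ?_
      have hy' : (y : commutator (O Q)) ^ p ^ l = 1 := congrArg Subtype.val hl'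
      have hx' : (x : commutator (O Q)) ^ p ^ k = 1 := congrArg Subtype.val hk
      rw [hc.mul_pow, inv_pow, pow_add, pow_mul' _ (p ^ k) (p ^ l), hy', one_pow, inv_one, pow_mul,
        hx', one_pow, one_mul]
    rw [inv_mul_eq_one] at hz1
    rw [show x = y from (Subtype.ext hz1).symm]
    exact hy
  let D' : Subgroup (O Q) := ((P : Subgroup (D.comap (toPC Q))).map (D.comap (toPC Q)).subtype).map
    (commutator (O Q)).subtype
  have hle : D' ≤ commutator (O Q) := Subgroup.map_subtype_le _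
  refine ⟨D', (P.2.map _).map _, hle, ?_, ?_⟩
  · have hsub : D'.subgroupOf (commutator (O Q)) =
        (P : Subgroup (D.comap (toPC Q))).map (D.comap (toPC Q)).subtype :=
      Subgroup.comap_map_eq_self_of_injective (Subgroup.subtype_injective _) _
    rw [hsub, Subgroup.map_map]
    have : (toPC Q).comp (D.comap (toPC Q)).subtype = D.subtype.comp π := rfl
    rw [this, ← Subgroup.map_map, himg, ← MonoidHom.range_eq_map, Subgroup.range_subtype]
  · intro g hg _ hx
    obtain ⟨_, ⟨x, hxP, rfl⟩, rfl⟩ := hx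
    obtain ⟨k, hk⟩ := P.2 ⟨x, hxP⟩
    have hk' : (x : commutator (O Q)) ^ p ^ k = 1 :=
      congrArg (fun a : (P : Subgroup (D.comap (toPC Q))) => ((a : D.comap (toPC Q)) : commutator (O Q))) hk
    have hmem : g * (x : commutator (O Q)) * g⁻¹ ∈ D.comap (toPC Q) := by
      rw [Subgroup.mem_comap, map_mul, map_mul, map_inv]
      exact hg _ x.2
    refine ⟨g * (x : commutator (O Q)) * g⁻¹, ⟨⟨_, hmem⟩, hchar _ k (Subtype.ext ?_), rfl⟩, rfl⟩
    change (g * (x : commutator (O Q)) * g⁻¹) ^ p ^ k = 1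
    rw [conj_pow, hk', mul_one, mul_inv_cancel]

/-- The unipotent radical is the largest normal `p`-subgroup of the point stabiliser. -/
theorem le_unipP (hQ : Nondeg Q) (hn : 5 ≤ finrank F V) {p : ℕ} [Fact p.Prime] [CharP F p]
    {u : V} (hu0 : u ≠ 0) (hu : Q u = 0) {D : Subgroup (PC Q)} (hD : D ≤ stabP Q u)
    (hDp : IsPGroup p D) (hDn : ∀ x ∈ stabP Q u, ∀ d ∈ D, x * d * x⁻¹ ∈ D) :
    D ≤ unipP Q u hu := by
  obtain ⟨f, hf, huf⟩ := hQ.exists_partner hu0 hu
  obtain ⟨D', hp', hle, hmap, hnorm⟩ := exists_lift_pgroup hQ hn (p := p) hDp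
  have hsub : D' ≤ unip Q u hu := by
    refine HypPair.le_unip ⟨u, f, hu, hf, huf⟩ hQ hn (p := p) (fun x hx => ⟨hle hx, ?_⟩) hp' ?_
    · have h1 : toPC Q ⟨x, hle hx⟩ ∈ D := hmap ▸ ⟨⟨x, hle hx⟩, hx, rfl⟩
      exact (mem_stabP hQ hn).1 (hD h1)
    · rintro x ⟨hx1, hx2⟩ d hd
      exact hnorm ⟨x, hx1⟩ (fun d hd => hDn _ ⟨⟨x, hx1⟩, hx2, rfl⟩ d hd) d hd
  rw [← hmap]
  exact Subgroup.map_mono fun x hx => hsub hx

/-- In characteristic two the number of vectors of a non-zero norm is even. -/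
theorem even_card_sphere (hQ : Nondeg Q) (hn : 5 ≤ finrank F V) (h2 : (2 : F) = 0) {c : F}
    (hc : c ≠ 0) : 2 ∣ Nat.card {v : V // Q v = c} := by
  classical
  have : CharP F 2 := CharTwo.of_one_ne_zero_of_two_eq_zero one_ne_zero h2
  have : Fact (Nat.Prime 2) := ⟨Nat.prime_two⟩
  have : Finite V := Module.finite_of_finite F
  have : Fintype F := Fintype.ofFinite F
  have hS : ∀ d : F, d ≠ 0 → Nat.card {v : V // Q v = d} = Nat.card {v : V // Q v = c} := by
    intro d hd
    obtain ⟨a, ha⟩ := isSquare_of_two_eq_zero h2 (c / d)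
    have ha0 : a ≠ 0 := fun h0 => by
      rw [h0, mul_zero, div_eq_zero_iff] at ha; exact ha.elim hc hd
    have hc' : c = a * a * d := by rw [← ha, div_mul_cancel₀ c hd]
    refine Nat.card_congr ((MulAction.toPerm (Units.mk0 a ha0) : Equiv.Perm V).subtypeEquiv fun v => ?_)
    change Q v = d ↔ Q (a • v) = c
    rw [qmap_smul, pow_two, hc', mul_right_inj' (mul_ne_zero ha0 ha0)]
  have hsum : Nat.card V = ∑ d : F, Nat.card {v : V // Q v = d} := by
    rw [← Nat.card_sigma]; exact Nat.card_congr (Equiv.sigmaFiberEquiv _).symm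
  rw [← Finset.add_sum_erase _ _ (Finset.mem_univ 0), Finset.sum_congr rfl (fun d hd =>
    hS d (Finset.ne_of_mem_erase hd)), Finset.sum_const, smul_eq_mul,
    Finset.card_erase_of_mem (Finset.mem_univ 0), Finset.card_univ,
    card_zero_eq_pointCount (Q := Q), ← Nat.card_eq_fintype_card] at hsum
  have hodd := not_dvd_pointCount hQ hn (p := 2)
  obtain ⟨e, -, he⟩ := FiniteField.card F 2
  have hqe : 2 ∣ Nat.card F := by
    rw [Nat.card_eq_fintype_card, he]; exact dvd_pow_self 2 e.ne_zero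
  have hqodd : ¬ 2 ∣ Nat.card F - 1 := by
    have : 2 ≤ Nat.card F := Finite.one_lt_card
    omega
  have hV : 2 ∣ Nat.card V := by
    rw [Module.natCard_eq_pow_finrank (K := F) (V := V)]; exact dvd_pow hqe (by omega)
  rw [hsum] at hV
  have hmul : ¬ 2 ∣ pointCount Q * (Nat.card F - 1) := fun h =>
    (Nat.prime_two.dvd_mul.1 h).elim hodd hqodd
  have h3 : 2 ∣ (Nat.card F - 1) * Nat.card {v : V // Q v = c} := (Nat.dvd_add_right (by omega)).1 hV
  exact (Nat.prime_two.dvd_mul.1 h3).resolve_left hqodd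

/-- A subgroup with the index of a point stabiliser and a normal `p`-subgroup is one. -/
theorem eq_stabP_of_index (hQ : Nondeg Q) (hn : 7 ≤ finrank F V) (h8 : NoTriality Q)
    {p : ℕ} [Fact p.Prime] [CharP F p] {H D : Subgroup (PC Q)} (hidx : H.index = pointCount Q)
    (hDH : D ≤ H) (hD : IsPGroup p D) (hD1 : D ≠ ⊥) (hDn : ∀ x ∈ H, ∀ d ∈ D, x * d * x⁻¹ ∈ D) :
    ∃ u, u ≠ 0 ∧ Q u = 0 ∧ H = stabP Q u := by
  classical
  have : Finite V := Module.finite_of_finite F
  have := finite_O (Q := Q)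
  obtain ⟨D', hp', hle, hmap, hnorm⟩ := exists_lift_pgroup hQ (by omega) (p := p) hD
  let K : Subgroup (commutator (O Q)) := H.comap (toPC Q)
  have hKidx : K.index = pointCount Q := by
    rw [← hidx]; exact Subgroup.index_comap_of_surjective _ toPC_surjective
  let Fx : Submodule F V :=
    { carrier := {x | ∀ d ∈ D', (d : V ≃ₗ[F] V) x = x}
      zero_mem' := fun d _ => map_zero _
      add_mem' := fun {a b} ha hb d hd => by rw [map_add, ha d hd, hb d hd]
      smul_mem' := fun c a ha d hd => by rw [map_smul, ha d hd] }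
  have hFxK : ∀ g ∈ K, ∀ x ∈ Fx, ((g : O Q) : V ≃ₗ[F] V) x ∈ Fx := by
    intro g hg x hx d hd
    have h1 := hnorm g⁻¹ (fun d hd => hDn _ (by rw [map_inv]; exact H.inv_mem hg) d hd) d hd
    have h2 := hx _ h1
    rw [Subgroup.coe_inv, inv_inv, Subgroup.coe_mul, Subgroup.coe_mul, mul_app, mul_app] at h2
    conv_rhs => rw [← h2]
    exact (((g : O Q) : V ≃ₗ[F] V).apply_symm_apply _).symm
  have hperp : perp Q Fx ≠ ⊥ := by
    intro h
    have htop : Fx = ⊤ := by rw [← hQ.perp_perp Fx, h, perp_bot]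
    have hbot : D' = ⊥ := (Subgroup.eq_bot_iff_forall _).2 fun d hd => O.ext_app fun x => by
      have hx : x ∈ Fx := htop ▸ Submodule.mem_top
      exact (hx d hd).trans rfl
    apply hD1
    rw [← hmap, hbot, Subgroup.bot_subgroupOf, Subgroup.map_bot]
  let R0 : Submodule F V := Fx ⊓ perp Q Fx
  have hR0 : R0 ≠ ⊥ := by
    let act : MulAction D' (perp Q Fx) :=
      { smul := fun d x => ⟨((d : O Q) : V ≃ₗ[F] V) x,
          map_mem_perp _ (fun y hy => by rw [hy d d.2]; exact hy) x.2⟩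
        one_smul := fun x => rfl
        mul_smul := fun d d' x => rfl }
    obtain ⟨x, hx, hx0⟩ := Submodule.exists_mem_ne_zero_of_ne_bot hperp
    have hp : p ∣ Nat.card (perp Q Fx) := by
      have h1 : addOrderOf (⟨x, hx⟩ : perp Q Fx) = p := by
        refine addOrderOf_eq_prime ?_ fun h => hx0 (congrArg Subtype.val h)
        rw [← Nat.cast_smul_eq_nsmul F, CharP.cast_eq_zero, zero_smul]
      have := addOrderOf_dvd_natCard (⟨x, hx⟩ : perp Q Fx)
      rwa [h1] at this
    have hfix : (0 : perp Q Fx) ∈ MulAction.fixedPoints D' (perp Q Fx) := fun d =>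
      Subtype.ext (map_zero ((d : O Q) : V ≃ₗ[F] V))
    obtain ⟨b, hb, hb0⟩ :=
      hp'.exists_fixed_point_of_prime_dvd_card_of_fixed_point (perp Q Fx) hp hfix
    intro h
    apply hb0
    have hbR : (b : V) ∈ R0 :=
      ⟨fun d hd => congrArg Subtype.val (hb ⟨d, hd⟩), b.2⟩
    rw [h, Submodule.mem_bot] at hbR
    exact (Subtype.ext hbR).symm
  have hpol : ∀ x ∈ R0, ∀ y ∈ R0, polar Q x y = 0 := fun x hx y hy => hy.2 x hx.1
  have hR0K : ∀ g ∈ K, ∀ x ∈ R0, ((g : O Q) : V ≃ₗ[F] V) x ∈ R0 := fun g hg x hx =>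
    ⟨hFxK g hg x hx.1, map_mem_perp _ (hFxK g hg) hx.2⟩
  let R : Submodule F V :=
    { carrier := {x | x ∈ R0 ∧ Q x = 0}
      zero_mem' := ⟨R0.zero_mem, QuadraticMap.map_zero Q⟩
      add_mem' := fun {a b} ha hb => ⟨R0.add_mem ha.1 hb.1, by
        rw [map_add_polar, ha.2, hb.2, hpol a ha.1 b hb.1]; ring⟩
      smul_mem' := fun c a ha => ⟨R0.smul_mem c ha.1, by rw [qmap_smul, ha.2, mul_zero]⟩ }
  have hRts : TotSing Q R := fun x hx => hx.2
  have hRK : ∀ g ∈ K, (g : O Q) ∈ stabT Q R := fun g hg =>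
    mem_stabT.2 (Submodule.eq_of_le_of_finrank_eq
      (by rintro - ⟨x, hx, rfl⟩; exact ⟨hR0K g hg x hx.1, by
        rw [LinearEquiv.coe_coe, O.map_app]; exact hx.2⟩)
      (LinearEquiv.finrank_map_eq _ _))
  have hK0 : sieGroup Q ≤ commutator (O Q) := (sieGroup_eq_commutator hQ (by omega)).le
  have hR : R ≠ ⊥ := by
    intro hbot
    obtain ⟨z, hz, hz0⟩ := Submodule.exists_mem_ne_zero_of_ne_bot hR0
    have hQz : Q z ≠ 0 := fun h => hz0 ((Submodule.mem_bot F).1 (hbot ▸ ⟨hz, h⟩ : z ∈ (⊥ : Submodule F V)))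
    have h2 : (2 : F) = 0 := by
      have h := hpol z hz z hz
      rw [polar_self'] at h
      exact (mul_eq_zero.1 h).resolve_right hQz
    have hone : ∀ x ∈ R0, ∃ a : F, x = a • z := by
      intro x hx
      obtain ⟨a, ha⟩ := isSquare_of_two_eq_zero h2 (Q x / Q z)
      refine ⟨a, ?_⟩
      have hmem : x + a • z ∈ R := ⟨R0.add_mem hx (R0.smul_mem _ hz), by
        rw [map_add_polar, qmap_smul, polar_smul_right', hpol x hx z hz, pow_two, ← ha,
          div_mul_cancel₀ _ hQz]
        linear_combination (Q x) * h2⟩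
      rw [hbot, Submodule.mem_bot] at hmem
      have hzz : a • z + a • z = 0 := by rw [← add_smul, ← two_mul, h2, zero_mul, zero_smul]
      linear_combination (norm := abel) hmem - hzz
    have hfix : ∀ g ∈ K, ((g : O Q) : V ≃ₗ[F] V) z = z := by
      intro g hg
      obtain ⟨a, ha⟩ := hone _ (hR0K g hg z hz)
      have h := O.map_app (g : O Q) z
      rw [ha, qmap_smul] at h
      have ha2 : a ^ 2 = 1 := mul_right_cancel₀ hQz (by rw [h, one_mul])
      have ha1 : a = 1 := by
        have h5 : (a - 1) ^ 2 = 0 := by linear_combination ha2 + (1 - a) * h2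
        exact sub_eq_zero.1 ((pow_eq_zero_iff two_ne_zero).1 h5)
      rw [ha, ha1, one_smul]
    have hKle : K ≤ (stabT Q (Submodule.span F {z})).subgroupOf (commutator (O Q)) := fun g hg => by
      rw [Subgroup.mem_subgroupOf, mem_stabT, Submodule.map_span, Set.image_singleton,
        LinearEquiv.coe_coe, hfix g hg]
    have hdvd := Subgroup.index_dvd_of_le hKle
    rw [hKidx, ← card_orbit_stabT] at hdvd
    have hcard : Nat.card (Set.range fun g : commutator (O Q) => (Submodule.span F {z}).map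
        (((g : O Q) : V ≃ₗ[F] V) : V →ₗ[F] V)) = Nat.card {v : V // Q v = Q z} := by
      symm
      refine Nat.card_eq_of_bijective (fun v => ⟨Submodule.span F {(v : V)}, ?_⟩) ⟨?_, ?_⟩
      · obtain ⟨e, he0, he⟩ := hQ.exists_singular (by omega)
        obtain ⟨f, hf, hef⟩ := hQ.exists_partner he0 he
        obtain ⟨g, hg, hgz⟩ := exists_sie_sphere hQ (by omega) he hf hef hQz
        obtain ⟨g', hg', hgv⟩ := exists_sie_sphere hQ (by omega) he hf hef (v := (v : V))
          (by rw [v.2]; exact hQz)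
        refine ⟨⟨g'⁻¹ * g, mul_mem (inv_mem (hK0 hg')) (hK0 hg)⟩, ?_⟩
        simp only [Submodule.map_span, Set.image_singleton, LinearEquiv.coe_coe]
        congr 2
        have hv' : (g' : V ≃ₗ[F] V) (v : V) = e + Q z • f := hgv.trans (by rw [v.2])
        rw [Subgroup.coe_mul, mul_app, hgz, ← hv']
        exact ((g' : V ≃ₗ[F] V).symm_apply_apply _)
      · rintro ⟨v, hv⟩ ⟨w, hw⟩ h
        have h' : Submodule.span F {v} = Submodule.span F {w} := congrArg Subtype.val h
        obtain ⟨a, ha⟩ := Submodule.mem_span_singleton.1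
          (h' ▸ Submodule.mem_span_singleton_self v : v ∈ Submodule.span F {w})
        refine Subtype.ext ?_
        have hv2 : Q (a • w) = Q z := by rw [ha]; exact hv
        rw [qmap_smul, hw] at hv2
        have ha2 : a ^ 2 = 1 := mul_right_cancel₀ hQz (by rw [hv2, one_mul])
        have h5 : (a - 1) ^ 2 = 0 := by linear_combination ha2 + (1 - a) * h2
        change v = w
        rw [← ha, sub_eq_zero.1 ((pow_eq_zero_iff two_ne_zero).1 h5), one_smul]
      · rintro ⟨W, g, rfl⟩
        exact ⟨⟨((g : O Q) : V ≃ₗ[F] V) z, O.map_app _ _⟩, Subtype.ext (by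
          simp [Submodule.map_span])⟩
    rw [hcard] at hdvd
    have : CharP F 2 := CharTwo.of_one_ne_zero_of_two_eq_zero one_ne_zero h2
    exact not_dvd_pointCount hQ (by omega) (p := 2)
      ((even_card_sphere hQ (by omega) h2 hQz).trans hdvd)
  have hKR : K ≤ (stabT Q R).subgroupOf (commutator (O Q)) := hRK
  obtain ⟨u, hu, hu0⟩ := Submodule.exists_mem_ne_zero_of_ne_bot hR
  have hR1 : finrank F R = 1 := by
    by_contra hne
    have hpos : finrank F R ≠ 0 := fun h => hR (Submodule.finrank_eq_zero.1 h)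
    have hlt := pointCount_lt_index hQ hn _ hK0 hRts (by omega)
      fun h => h8 ⟨h.1, R, hRts, h.2⟩
    have := Nat.le_of_dvd (Nat.pos_of_ne_zero Subgroup.index_ne_zero_of_finite)
      (Subgroup.index_dvd_of_le hKR)
    omega
  have hspan : R = Submodule.span F {u} := (Submodule.eq_of_le_of_finrank_eq
    ((Submodule.span_singleton_le_iff_mem u R).2 hu) (by rw [finrank_span_singleton hu0, hR1])).symm
  have hQu : Q u = 0 := hu.2
  refine ⟨u, hu0, hQu, ?_⟩
  rw [hspan] at hKR
  have hle' : H ≤ stabP Q u := by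
    rw [stabP, ← Subgroup.map_comap_eq_self_of_surjective toPC_surjective H]
    exact Subgroup.map_mono hKR
  have hrel := Subgroup.relIndex_mul_index hle'
  rw [hidx, index_stabP hQ (by omega) hu0 hQu] at hrel
  have hne : pointCount Q ≠ 0 := hidx ▸ Subgroup.index_ne_zero_of_finite
  exact le_antisymm hle' (Subgroup.relIndex_eq_one.1
    (Nat.mul_right_cancel (Nat.pos_of_ne_zero hne) (hrel.trans (one_mul _).symm)))

/-- Automorphisms permute the point stabilisers together with their unipotent radicals. -/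
theorem exists_map_point (hQ : Nondeg Q) (hn : 7 ≤ finrank F V) (h8 : NoTriality Q)
    (φ : MulAut (PC Q)) {u : V} (hu0 : u ≠ 0) (hu : Q u = 0) :
    ∃ (v : V) (hv : Q v = 0), v ≠ 0 ∧ (stabP Q u).map φ.toMonoidHom = stabP Q v ∧
      (unipP Q u hu).map φ.toMonoidHom = unipP Q v hv := by
  obtain ⟨p, hp⟩ := CharP.exists F
  have : Fact p.Prime := ⟨CharP.char_is_prime F p⟩
  obtain ⟨v, hv0, hv, heq⟩ := eq_stabP_of_index hQ hn h8 (p := p)
    (H := (stabP Q u).map φ.toMonoidHom) (D := (unipP Q u hu).map φ.toMonoidHom)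
    ((Subgroup.index_map_equiv _ φ).trans (index_stabP hQ (by omega) hu0 hu))
    (Subgroup.map_mono (unipP_le_stabP hu)) ((isPGroup_unipP hu).map _)
    (fun h => unipP_ne_bot hQ (by omega) hu0 hu
      ((Subgroup.map_eq_bot_iff_of_injective _ φ.injective).1 h))
    (by
      rintro _ ⟨a, ha, rfl⟩ _ ⟨b, hb, rfl⟩
      exact ⟨a * b * a⁻¹, unipP_normal hu0 hu a ha b hb, by simp⟩)
  refine ⟨v, hv, hv0, heq, le_antisymm (le_unipP hQ (by omega) (p := p) hv0 hv ?_
    ((isPGroup_unipP hu).map _) ?_) ?_⟩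
  · rw [← heq]; exact Subgroup.map_mono (unipP_le_stabP hu)
  · rw [← heq]
    rintro _ ⟨a, ha, rfl⟩ _ ⟨b, hb, rfl⟩
    exact ⟨a * b * a⁻¹, unipP_normal hu0 hu a ha b hb, by simp⟩
  · have h1 : (unipP Q v hv).map φ.symm.toMonoidHom ≤ unipP Q u hu := by
      have hst : (stabP Q v).map φ.symm.toMonoidHom = stabP Q u := by
        rw [← heq, Subgroup.map_map]
        convert Subgroup.map_id _
        exact MonoidHom.ext fun x => φ.symm_apply_apply x
      refine le_unipP hQ (by omega) (p := p) hu0 hu ?_ ((isPGroup_unipP hv).map _) ?_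
      · rw [← hst]; exact Subgroup.map_mono (unipP_le_stabP hv)
      · rw [← hst]
        rintro _ ⟨a, ha, rfl⟩ _ ⟨b, hb, rfl⟩
        exact ⟨a * b * a⁻¹, unipP_normal hv0 hv a ha b hb, by simp⟩
    intro x hx
    exact ⟨φ.symm x, h1 ⟨x, hx, rfl⟩, φ.apply_symm_apply x⟩

/-- The unipotent radical determines the point. -/
theorem span_eq_of_unip_le (hQ : Nondeg Q) (hn : 5 ≤ finrank F V) {u v : V} (hu0 : u ≠ 0)
    (hu : Q u = 0) (hv0 : v ≠ 0) (hv : Q v = 0) (h : unipP Q u hu ≤ stabP Q v) :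
    Submodule.span F {u} = Submodule.span F {v} := by
  have hfix : ∀ (w : V) (hw : polar Q u w = 0), ∃ t : F,
      ((sie u w hu hw : O Q) : V ≃ₗ[F] V) v = t • v := by
    intro w hw
    have h1 : toPC Q ⟨_, sie_mem_commutator hQ hn hu hw⟩ ∈ stabP Q v :=
      h ⟨_, sie_mem_unip hu hw, rfl⟩
    obtain ⟨t, -, ht⟩ := (mem_stabT_singleton hv0).1 ((mem_stabP hQ hn).1 h1)
    exact ⟨t, ht⟩
  by_cases huv : polar Q u v = 0
  · by_contra hne
    have hmem : v ∈ perp Q (perp Q (Submodule.span F {u})) := by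
      intro w hw
      obtain ⟨t, ht⟩ := hfix w ((mem_perp_span_singleton Q).1 hw)
      rw [sie_app, huv, mul_zero, sub_zero, zero_smul, sub_zero] at ht
      by_contra h0
      apply hne
      have hv' : u = ((t - 1) / polar Q w v) • v := by
        rw [div_eq_inv_mul, mul_smul, sub_smul, one_smul, ← ht, add_sub_cancel_left,
          inv_smul_smul₀ h0]
      have hc : (t - 1) / polar Q w v ≠ 0 := fun h1 => hu0 (by rw [hv', h1, zero_smul])
      rw [hv', Submodule.span_singleton_smul_eq hc.isUnit]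
    rw [hQ.perp_perp] at hmem
    obtain ⟨c, rfl⟩ := Submodule.mem_span_singleton.1 hmem
    exact hne (Submodule.span_singleton_smul_eq
      (Ne.isUnit fun h => hv0 (by rw [h, zero_smul])) u).symm
  · exfalso
    let H : HypPair Q := ⟨u, (polar Q u v)⁻¹ • v, hu, by rw [qmap_smul, hv, mul_zero],
      by rw [polar_smul_right', inv_mul_cancel₀ huv]⟩
    have hd := H.finrank_W hQ
    have : Nontrivial H.W := Module.nontrivial_of_finrank_pos (R := F) (by omega)
    obtain ⟨w, hw⟩ := exists_ne (0 : H.W)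
    obtain ⟨t, ht⟩ := hfix (w : V) (H.ew w)
    refine hw (H.sieW_fix_eq_zero ?_)
    change ((sie u (w : V) hu _ : O Q) : V ≃ₗ[F] V) ((polar Q u v)⁻¹ • v) ∈ _
    rw [map_smul, ht, smul_comm]
    exact Submodule.smul_mem _ _ (Submodule.mem_span_singleton_self _)

/-- Orthogonality in terms of the groups. -/
theorem polar_eq_zero_iff_unipP (hQ : Nondeg Q) (hn : 5 ≤ finrank F V) {u v : V} (hu0 : u ≠ 0)
    (hu : Q u = 0) (hv0 : v ≠ 0) (hv : Q v = 0) :
    polar Q u v = 0 ↔ unipP Q u hu ⊓ stabP Q v ≠ ⊥ := by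
  constructor
  · intro h hbot
    obtain ⟨x, hx, hx1, hxv⟩ := exists_unip_ne_one hQ hn hu0 hu h
    have hm : toPC Q x ∈ unipP Q u hu ⊓ stabP Q v := by
      refine ⟨⟨x, hx, rfl⟩, ⟨x, ?_, rfl⟩⟩
      exact (mem_stabT_singleton hv0).2 ⟨1, one_ne_zero, by rw [one_smul]; exact hxv⟩
    rw [hbot, Subgroup.mem_bot] at hm
    exact hx1 hm
  · intro h
    by_contra huv
    apply h
    refine (Subgroup.eq_bot_iff_forall _).2 ?_
    rintro _ ⟨⟨x, hx, rfl⟩, hst⟩
    let H : HypPair Q := ⟨u, (polar Q u v)⁻¹ • v, hu, by rw [qmap_smul, hv, mul_zero],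
      by rw [polar_smul_right', inv_mul_cancel₀ huv]⟩
    obtain ⟨w, hw⟩ := H.exists_sieW hx
    obtain ⟨t, -, ht⟩ := (mem_stabT_singleton hv0).1 ((mem_stabP hQ hn).1 hst)
    have hw0 : w = 0 := by
      refine H.sieW_fix_eq_zero ?_
      rw [← hw]
      change ((x : O Q) : V ≃ₗ[F] V) ((polar Q u v)⁻¹ • v) ∈ _
      rw [map_smul, ht, smul_comm]
      exact Submodule.smul_mem _ _ (Submodule.mem_span_singleton_self _)
    rw [hw0, H.sieW_zero] at hw
    rw [show x = 1 from Subtype.ext hw, map_one]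

end Cfsg.Agent.Orthogonal
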