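import Cfsg.Agent.Orthogonal.POmega
import Cfsg.Agent.H34.Siegel

/-!
The Siegel matrices of singular orthogonal pairs generate `Cfsg.Omega` in dimension at least five.
-/

set_option autoImplicit false

namespace Cfsg.Agent.Orthogonal

open QuadraticMap Module

section Abstract

variable {F V : Type*} [Field F] [Finite F] [AddCommGroup V] [Module F V] [FiniteDimensional F V]
variable {Q : QuadraticForm F V}

/-- A subgroup containing the transformations of totally singular pairs contains all of them. -/
theorem sieGroup_le_of_singular (hQ : Nondeg Q) (hn : 5 ≤ finrank F V) (H : Subgroup (O Q))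
    (hH : ∀ (u w : V) (hu : Q u = 0) (hw : polar Q u w = 0), Q w = 0 → sie u w hu hw ∈ H) :
    sieGroup Q ≤ H := by
  rw [sieGroup, Subgroup.closure_le]
  rintro g ⟨u, w, hu, hw, rfl⟩
  by_cases hu0 : u = 0
  · subst hu0
    have : sie (Q := Q) 0 w hu hw = 1 := O.ext_app fun x => by rw [sie_app]; simp
    rw [SetLike.mem_coe, this]; exact one_mem H
  obtain ⟨f, hf, huf⟩ := hQ.exists_partner hu0 hu
  set W := perp Q (Submodule.span F {u, f}) with hWdef
  have hWn := hQ.nondeg_hyperbolic_perp hu hf huf
  have hWr := hQ.finrank_hyperbolic_perp hu hf huf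
  have hWu : ∀ z : W, polar Q u (z : V) = 0 := fun z => ((mem_perp_span_pair (Q := Q)).1 z.2).1
  set T : Submodule F W := Submodule.span F {z | restr Q W z = 0} with hTdef
  have hT : T = ⊤ := span_singular hWn (by omega) T
    (fun z hz => Submodule.subset_span hz)
  have key : ∀ z ∈ T, ∀ a : F, sie u (a • (z : V)) hu
      (by rw [polar_smul_right', hWu, mul_zero]) ∈ H := by
    intro z hz
    induction hz using Submodule.span_induction with
    | mem x hx =>
      intro a
      exact hH _ _ _ _ (by rw [qmap_smul, ← restr_apply, show restr Q W x = 0 from hx, mul_zero])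
    | zero => intro a; exact hH _ _ _ _ (by simp)
    | add x y _ _ hx hy =>
      intro a
      have := H.mul_mem (hx a) (hy a)
      rw [sie_mul] at this
      convert this using 1
      exact sie_congr _ _ _ _ rfl (by simp [smul_add])
    | smul c x _ hx =>
      intro a
      convert hx (a * c) using 1
      exact sie_congr _ _ _ _ rfl (by simp [mul_smul])
  have hz : w - polar Q f w • u ∈ W := by
    refine (mem_perp_span_pair (Q := Q)).2 ⟨?_, ?_⟩
    · rw [polar_sub_right, polar_smul_right', polar_self', hu, hw]; ring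
    · rw [polar_sub_right, polar_smul_right', polar_comm (⇑Q) f u, huf]; ring
  have h1 := key ⟨_, hz⟩ (hT ▸ Submodule.mem_top) 1
  rw [SetLike.mem_coe]
  convert h1 using 1
  refine (sie_add_smul hu hw (-polar Q f w)).symm.trans (sie_congr _ _ _ _ rfl ?_)
  simp [sub_eq_add_neg]

end Abstract

variable {F : Type*} [Field F] [Finite F] {ι : Type} [Fintype ι] [DecidableEq ι]
variable {Q : QuadraticForm F (ι → F)}

theorem omega_eq_closure_siegel (hQ : Nondeg Q) (hn : 5 ≤ finrank F (ι → F)) :
    Cfsg.Omega F (⇑Q) = Subgroup.closure {g : ↥(Cfsg.isometryGroup F ⇑Q) | ∃ (u v : ι → F) (c : F),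
      Q u = 0 ∧ Q v = 0 ∧ polar ⇑Q u v = 0 ∧
      ((g : Matrix.GeneralLinearGroup ι F) : Matrix ι ι F) = Cfsg.siegelMatrix ⇑Q u v c} := by
  apply Subgroup.map_injective (f := (toO Q).toMonoidHom) (toO Q).injective
  rw [toO_map_omega, ← sieGroup_eq_commutator hQ hn]
  refine le_antisymm (sieGroup_le_of_singular hQ hn _ ?_) ?_
  · intro u w hu hw hww
    refine ⟨(toO Q).symm (sie u w hu hw), Subgroup.subset_closure ⟨u, w, -1, hu, hww, hw, ?_⟩,
      (toO Q).apply_symm_apply _⟩
    refine Matrix.ext_iff_mulVec.2 fun x => ?_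
    rw [H34.siegel_mulVec, toO_symm_apply, sie_app, hww]
    module
  · rw [MonoidHom.map_closure, Subgroup.closure_le]
    rintro _ ⟨g, ⟨u, v, c, hu, hv, huv, hg⟩, rfl⟩
    have hw : polar Q u (-c • v) = 0 := by rw [polar_smul_right', huv, mul_zero]
    have : (toO Q).toMonoidHom g = sie u (-c • v) hu hw := O.ext_app fun x => by
      rw [MulEquiv.coe_toMonoidHom, toO_apply, hg, H34.siegel_mulVec, sie_app, qmap_smul, hv,
        polar_smul_left']
      module
    rw [this]; exact sie_mem hu hw

end Cfsg.Agent.Orthogonal
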