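import Cfsg.Agent.Orthogonal.AutSemi
import Cfsg.Agent.Orthogonal.SiegelGen

/-!
Every automorphism of the simple orthogonal group is induced by a semisimilarity
(dimension at least seven, the hyperbolic space of dimension eight excepted).
-/

set_option autoImplicit false
set_option linter.unusedSectionVars false

namespace Cfsg.Agent.Orthogonal

open QuadraticMap Module

variable {F V : Type*} [Field F] [AddCommGroup V] [Module F V]
variable {Q : QuadraticForm F V}

theorem stabP_congr {u u' : V} {c : F} (hc : c ≠ 0) (h : u' = c • u) :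
    stabP Q u' = stabP Q u := by
  rw [stabP, stabP, h, Submodule.span_singleton_smul_eq hc.isUnit]

theorem unipP_congr {u u' : V} (hu : Q u = 0) (hu' : Q u' = 0) {c : F} (hc : c ≠ 0)
    (h : u' = c • u) : unipP Q u' hu' = unipP Q u hu := by
  rw [unipP, unipP, unip_congr hu hu' hc h]

theorem sie_swap {x y : V} (hx : Q x = 0) (hy : Q y = 0) (hxy : polar Q x y = 0) :
    sie x y hx hxy =
      sie y (-x) hy (by rw [polar_neg_right, polar_comm, hxy, neg_zero]) := by
  refine O.ext_app fun z => ?_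
  rw [sie_app, sie_app, QuadraticMap.map_neg, hx, hy, polar_neg_left]
  match_scalars <;> ring

variable [FiniteDimensional F V] [Finite F]

namespace HypPair

/-- The element of the projective group of a vector of the complement. -/
noncomputable def pW (H : HypPair Q) (hQ : Nondeg Q) (hn : 5 ≤ finrank F V) (w : H.W) : PC Q :=
  toPC Q ⟨H.sieW w, unip_le_commutator hQ hn H.he (H.sieW_mem w)⟩

theorem pW_mul (H : HypPair Q) (hQ : Nondeg Q) (hn : 5 ≤ finrank F V) (w w' : H.W) :
    H.pW hQ hn (w + w') = H.pW hQ hn w * H.pW hQ hn w' := by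
  rw [pW, pW, pW, ← map_mul]
  exact congrArg _ (Subtype.ext (H.sieW_mul w w').symm)

theorem pW_injective (H : HypPair Q) (hQ : Nondeg Q) (hn : 5 ≤ finrank F V) :
    Function.Injective (H.pW hQ hn) := by
  intro w w' h
  obtain ⟨p, hp⟩ := CharP.exists F
  have : Fact p.Prime := ⟨CharP.char_is_prime F p⟩
  have h1 : H.pW hQ hn (w + -w') = 1 := by
    rw [pW_mul, h, ← pW_mul, add_neg_cancel, pW]
    exact (congrArg (toPC Q) (Subtype.ext H.sieW_zero)).trans (map_one _)
  have h2 := center_eq_one_of_pow hQ hn (p := p) ((QuotientGroup.eq_one_iff _).1 h1) (k := 1)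
    (Subtype.ext (by rw [pow_one, Subgroup.coe_pow]; exact unip_pow_char H.he (H.sieW_mem _)))
  have h3 : H.sieW (w + -w') = H.sieW 0 := by
    rw [sieW_zero]; exact congrArg Subtype.val h2
  have := H.sieW_injective h3
  rwa [← sub_eq_add_neg, sub_eq_zero] at this

theorem mem_unipP_iff (H : HypPair Q) (hQ : Nondeg Q) (hn : 5 ≤ finrank F V) {x : PC Q} :
    x ∈ unipP Q H.e H.he ↔ ∃ w, x = H.pW hQ hn w := by
  constructor
  · rintro ⟨g, hg, rfl⟩
    obtain ⟨w, hw⟩ := H.exists_sieW hg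
    exact ⟨w, congrArg _ (Subtype.ext hw)⟩
  · rintro ⟨w, rfl⟩
    exact ⟨_, H.sieW_mem w, rfl⟩

/-- An element of the Levi complement in the projective group. -/
noncomputable def pL (H : HypPair Q) (l : H.lev) : PC Q := toPC Q ⟨l, l.2.1.1⟩

theorem pL_conj (H : HypPair Q) (hQ : Nondeg Q) (hn : 5 ≤ finrank F V) (l : H.lev) (w : H.W) :
    H.pL l * H.pW hQ hn w * (H.pL l)⁻¹ = H.pW hQ hn (H.rho l w) := by
  rw [pL, pW, pW, ← map_inv, ← map_mul, ← map_mul]
  exact congrArg _ (Subtype.ext (H.conj_sieW l w))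

theorem exists_pL (H : HypPair Q) (hQ : Nondeg Q) (hn : 5 ≤ finrank F V) {x : PC Q}
    (he : x ∈ stabP Q H.e) (hf : x ∈ stabP Q H.f) : ∃ l : H.lev, x = H.pL l := by
  obtain ⟨g, rfl⟩ := toPC_surjective x
  exact ⟨⟨g, ⟨g.2, (mem_stabP hQ hn).1 he⟩, (mem_stabP hQ hn).1 hf⟩, rfl⟩

theorem pL_mem (H : HypPair Q) (l : H.lev) : H.pL l ∈ stabP Q H.e ∧ H.pL l ∈ stabP Q H.f :=
  ⟨⟨_, l.2.1.2, rfl⟩, ⟨_, l.2.2, rfl⟩⟩

theorem pL_swap (H : HypPair Q) (l : H.swap.lev) (h : (l : O Q) ∈ H.lev) :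
    H.swap.pL l = H.pL ⟨(l : O Q), h⟩ := by
  simp only [pL]

theorem mem_lev_of_swap (H : HypPair Q) {l : O Q} (h : l ∈ H.swap.lev) : l ∈ H.lev :=
  ⟨⟨h.1.1, h.2⟩, h.1.2⟩

theorem pL_eq_of_rho (H : HypPair Q) (hQ : Nondeg Q) (hn : 5 ≤ finrank F V) {l l' : H.lev}
    (h : H.rho l = H.rho l') : H.pL l = H.pL l' := by
  have h1 : H.rho (l⁻¹ * l') = 1 := by rw [map_mul, ← h, ← map_mul, inv_mul_cancel, map_one]
  obtain ⟨-, hs⟩ := H.scalar_of_rho_eq_one hQ hn h1
  refine QuotientGroup.eq.2 ((mem_center_commutator_iff hQ hn _).2 ⟨_, hs⟩)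

/-- The action on the radical of an automorphism fixing it and the two points. -/
theorem exists_action (H : HypPair Q) (hQ : Nondeg Q) (hn : 5 ≤ finrank F V)
    (φ : MulAut (PC Q)) (hu : (unipP Q H.e H.he).map φ.toMonoidHom = unipP Q H.e H.he)
    (he : (stabP Q H.e).map φ.toMonoidHom = stabP Q H.e)
    (hf : (stabP Q H.f).map φ.toMonoidHom = stabP Q H.f) :
    ∃ C : H.W ≃+ H.W, (∀ w, φ (H.pW hQ hn w) = H.pW hQ hn (C w)) ∧
      (∀ l : H.lev, ∃ l' : H.lev, φ (H.pL l) = H.pL l' ∧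
        ∀ w, C (H.rho l w) = H.rho l' (C w)) ∧
      ∀ l' : H.lev, ∃ l : H.lev, φ (H.pL l) = H.pL l' ∧
        ∀ w, C (H.rho l w) = H.rho l' (C w) := by
  have hex : ∀ w, ∃ w', φ (H.pW hQ hn w) = H.pW hQ hn w' := fun w =>
    (H.mem_unipP_iff hQ hn).1 (hu ▸ ⟨_, (H.mem_unipP_iff hQ hn).2 ⟨w, rfl⟩, rfl⟩)
  choose c hc using hex
  have hbij : Function.Bijective c := by
    constructor
    · intro a b h
      exact H.pW_injective hQ hn (φ.injective (by rw [hc, hc, h]))
    · intro w'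
      obtain ⟨y, hy, hyw⟩ : H.pW hQ hn w' ∈ (unipP Q H.e H.he).map φ.toMonoidHom := by
        rw [hu]; exact (H.mem_unipP_iff hQ hn).2 ⟨w', rfl⟩
      obtain ⟨w, rfl⟩ := (H.mem_unipP_iff hQ hn).1 hy
      exact ⟨w, H.pW_injective hQ hn ((hc w).symm.trans hyw)⟩
  let C : H.W ≃+ H.W :=
    { Equiv.ofBijective c hbij with
      map_add' := fun a b => H.pW_injective hQ hn (by
        change H.pW hQ hn (c (a + b)) = H.pW hQ hn (c a + c b)
        rw [← hc, pW_mul, pW_mul, map_mul, hc, hc]) }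
  have hC : ∀ w, φ (H.pW hQ hn w) = H.pW hQ hn (C w) := hc
  have hequ : ∀ l l' : H.lev, φ (H.pL l) = H.pL l' →
      ∀ w, C (H.rho l w) = H.rho l' (C w) := by
    intro l l' hl w
    apply H.pW_injective hQ hn
    rw [← hC, ← H.pL_conj hQ hn, map_mul, map_mul, map_inv, hl, hC, H.pL_conj hQ hn]
  refine ⟨C, hC, fun l => ?_, fun l' => ?_⟩
  · obtain ⟨l', hl'⟩ := H.exists_pL hQ hn (x := φ (H.pL l))
      (he ▸ ⟨_, (H.pL_mem l).1, rfl⟩) (hf ▸ ⟨_, (H.pL_mem l).2, rfl⟩)
    exact ⟨l', hl', hequ l l' hl'⟩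
  · obtain ⟨x, hx, hxl⟩ : H.pL l' ∈ (stabP Q H.e).map φ.toMonoidHom := by
      rw [he]; exact (H.pL_mem l').1
    obtain ⟨y, hy, hyl⟩ : H.pL l' ∈ (stabP Q H.f).map φ.toMonoidHom := by
      rw [hf]; exact (H.pL_mem l').2
    have hxy : x = y := φ.injective (hxl.trans hyl.symm)
    obtain ⟨l, rfl⟩ := H.exists_pL hQ hn hx (hxy ▸ hy)
    exact ⟨l, hxl, hequ l l' hxl⟩

theorem tc_sq_eq_one (H : HypPair Q) (hQ : Nondeg Q) (hn : 5 ≤ finrank F V) {p : ℕ}
    [Fact p.Prime] [CharP F p] {l l' : H.lev} (φ : MulAut (PC Q)) (h : φ (H.pL l) = H.pL l')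
    (hl : (l : O Q) ^ p = 1) : H.tc (l' : O Q) * H.tc (l' : O Q) = 1 := by
  have h1 : H.pL l ^ p = 1 := by
    rw [pL, ← map_pow]
    exact (congrArg (toPC Q) (Subtype.ext hl)).trans (map_one _)
  have h2 : H.pL l' ^ p = 1 := by rw [← h, ← map_pow, h1, map_one]
  rw [pL, ← map_pow] at h2
  obtain ⟨s, hs2, hs⟩ := center_scalar hQ hn ((QuotientGroup.eq_one_iff _).1 h2)
  obtain ⟨-, hte, -⟩ := H.lev_spec l'.2
  have hpow : ∀ j : ℕ, (((l' : O Q) ^ j : O Q) : V ≃ₗ[F] V) H.e = H.tc (l' : O Q) ^ j • H.e := by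
    intro j
    induction j with
    | zero => rw [pow_zero, pow_zero, one_smul]; rfl
    | succ j ih =>
      rw [pow_succ', Subgroup.coe_mul, mul_app, ih, map_smul, hte, smul_smul, pow_succ]
  have h3 := hs H.e
  rw [Subgroup.coe_pow, hpow] at h3
  have h4 : H.tc (l' : O Q) ^ p = s := smul_left_injective F H.e_ne h3
  have h5 : (H.tc (l' : O Q) * H.tc (l' : O Q)) ^ p = 1 := by rw [mul_pow, h4, hs2]
  have : ExpChar F p := .prime Fact.out
  exact frobenius_inj F p (by rw [frobenius_def, h5, map_one])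

/-- The action is a semisimilarity of the complement. -/
theorem exists_sim_action (H : HypPair Q) (hQ : Nondeg Q) (hn : 5 ≤ finrank F V)
    (φ : MulAut (PC Q)) (C : H.W ≃+ H.W)
    (h1 : ∀ l : H.lev, ∃ l' : H.lev, φ (H.pL l) = H.pL l' ∧
      ∀ w, C (H.rho l w) = H.rho l' (C w))
    (h2 : ∀ l' : H.lev, ∃ l : H.lev, φ (H.pL l) = H.pL l' ∧
      ∀ w, C (H.rho l w) = H.rho l' (C w)) :
    ∃ (σ : F ≃+* F) (c : F), c ≠ 0 ∧ (∀ (a : F) w, C (a • w) = σ a • C w) ∧
      ∀ w, Q (C w : V) = c * σ (Q (w : V)) := by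
  classical
  have hd := H.finrank_W hQ
  have hW := H.nondeg_W hQ
  have : Nontrivial H.W := Module.nontrivial_of_finrank_pos (R := F) (by omega)
  have hring := H.closure_rho hQ hn
  obtain ⟨σ, hσ⟩ := exists_semilinear_of_normalize hring C
    (by rintro _ ⟨l, rfl⟩; obtain ⟨l', -, h⟩ := h1 l; exact ⟨_, ⟨l', rfl⟩, h⟩)
    (by rintro _ ⟨l', rfl⟩; obtain ⟨l, -, h⟩ := h2 l'; exact ⟨_, ⟨l, rfl⟩, h⟩)
  obtain ⟨p, hp⟩ := CharP.exists F
  have : Fact p.Prime := ⟨CharP.char_is_prime F p⟩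
  let S : Set (Module.End F H.W) := {L | ∃ x y : H.W, Q (x : V) = 0 ∧ polar Q (x : V) y = 0 ∧
    L = sieLin (restr Q H.W) x y}
  have hS : Subring.closure S = ⊤ :=
    subring_eq_top_of_sie hW (by omega) _ fun x y hx hxy =>
      Subring.subset_closure ⟨x, y, hx, by rw [← polar_restr]; exact hxy, rfl⟩
  let q' : H.W → F := fun w => σ.symm (Q (C w : V))
  let b' : H.W → H.W → F := fun x y => σ.symm (polar Q (C x : V) (C y : V))
  have hinv : ∀ L ∈ S, ∀ w, q' (L w) = q' w := by
    rintro _ ⟨x, y, hx, hxy, rfl⟩ w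
    obtain ⟨l', hl', hC'⟩ := h1 ⟨_, H.sie_mem_lev hQ hn hx hxy⟩
    have hsq := H.tc_sq_eq_one hQ hn (p := p) φ hl' (unip_pow_char hx (sie_mem_unip hx hxy))
    simp only [q', ← H.rho_sie hQ hn hx hxy, hC', rho_apply, qmap_smul, O.map_app, pow_two, hsq,
      one_mul]
  have hbform : ∀ x y, b' x y = q' (x + y) - q' x - q' y := fun x y => by
    simp only [b', q', polar, map_add, Submodule.coe_add, _root_.map_sub]
  have hbinv : ∀ L ∈ S, ∀ x y, b' (L x) (L y) = b' x y := fun L hL x y => by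
    rw [hbform, hbform, ← map_add L, hinv L hL, hinv L hL, hinv L hL]
  have hrep : ∀ x : H.W, ∃ m : H.W, ∀ y : H.W, polar Q (m : V) (y : V) = b' x y := by
    intro x
    let fl : H.W →ₗ[F] F :=
      { toFun := b' x
        map_add' := fun y z => by simp [b', map_add, polar_add_right]
        map_smul' := fun a y => by simp [b', hσ, polar_smul_right'] }
    obtain ⟨m, hm⟩ := hW.exists_repr fl
    exact ⟨m, fun y => by rw [← polar_restr]; exact hm y⟩
  choose M hM using hrep
  have hMu : ∀ (x : H.W) (m : H.W), (∀ y : H.W, polar Q (m : V) (y : V) = b' x y) → M x = m := fun x m h =>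
    hW.eq_of_polar fun y => by rw [polar_restr, polar_restr, hM, h]
  have hMadd : ∀ x y, M (x + y) = M x + M y := fun x y => hMu _ _ fun z => by
    rw [Submodule.coe_add, polar_add_left, hM, hM]
    simp [b', polar_add_left]
  let MA : H.W →+ H.W := AddMonoidHom.mk' M hMadd
  have hsurjS : ∀ L ∈ S, Function.Surjective L := by
    rintro _ ⟨x, y, hx, hxy, rfl⟩
    have hy : polar (restr Q H.W) x y = 0 := by rw [polar_restr]; exact hxy
    exact (sie x y (Q := restr Q H.W) hx hy).1.surjective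
  have hpolS : ∀ L ∈ S, ∀ u v : H.W, polar Q (L u : V) (L v : V) = polar Q (u : V) v := by
    rintro _ ⟨x, y, hx, hxy, rfl⟩ u v
    have hy : polar (restr Q H.W) x y = 0 := by rw [polar_restr]; exact hxy
    rw [← polar_restr, ← polar_restr]
    exact O.polar_app (sie x y (Q := restr Q H.W) hx hy) u v
  obtain ⟨lam, hlam⟩ := exists_scalar_of_commute_ring hS MA fun L hL x => by
    refine hW.eq_of_polar fun z => ?_
    obtain ⟨z', rfl⟩ := hsurjS L hL z
    rw [polar_restr, polar_restr]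
    change polar Q (M (L x) : V) _ = polar Q (L (M x) : V) _
    rw [hM, hbinv L hL, hpolS L hL, hM]
  have hbl : ∀ x y, b' x y = lam * polar Q (x : V) y := fun x y => by
    rw [← hM x y, show M x = lam • x from hlam x, Submodule.coe_smul, polar_smul_left']
  let D : H.W → F := fun w => q' w - lam * Q (w : V)
  have hDadd : ∀ x y, D (x + y) = D x + D y := fun x y => by
    have h3 := hbform x y
    rw [hbl] at h3
    simp only [D, Submodule.coe_add, map_add_polar Q (x : V) y]
    linear_combination -h3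
  have hDs : ∀ (a : F) w, D (a • w) = a ^ 2 * D w := fun a w => by
    simp only [D, q', hσ, Submodule.coe_smul, qmap_smul, map_mul, map_pow, σ.symm_apply_apply]
    ring
  have hQS : ∀ L ∈ S, ∀ w : H.W, Q (L w : V) = Q (w : V) := by
    rintro _ ⟨x, y, hx, hxy, rfl⟩ w
    have hy : polar (restr Q H.W) x y = 0 := by rw [polar_restr]; exact hxy
    exact O.map_app (sie x y (Q := restr Q H.W) hx hy) w
  let T : AddSubgroup H.W := (AddMonoidHom.mk' D hDadd).ker
  have hTinv : ∀ L ∈ S, ∀ w ∈ T, L w ∈ T := fun L hL w hw => by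
    rw [AddMonoidHom.mem_ker] at hw ⊢
    change D (L w) = 0
    simp only [D, hinv L hL, hQS L hL]
    exact hw
  have hTne : T ≠ ⊥ := by
    intro hbot
    have htriv : ∀ L ∈ S, ∀ w : H.W, L w = w := by
      intro L hL w
      have hmem : L w - w ∈ T := by
        rw [AddMonoidHom.mem_ker, _root_.map_sub]
        change D (L w) - D w = 0
        simp only [D, hinv L hL, hQS L hL, sub_self]
      rw [hbot, AddSubgroup.mem_bot, sub_eq_zero] at hmem
      exact hmem
    obtain ⟨x, hx⟩ := exists_ne (0 : H.W)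
    have htop := addSubgroup_eq_top hS (Submodule.span F {x}).toAddSubgroup
      (fun h => hx (by
        have hm : x ∈ (Submodule.span F {x}).toAddSubgroup := Submodule.mem_span_singleton_self x
        rwa [h, AddSubgroup.mem_bot] at hm))
      (fun L hL w hw => by rw [htriv L hL]; exact hw)
    have hs : Submodule.span F {x} = ⊤ := Submodule.toAddSubgroup_injective (htop.trans rfl)
    have hfr := finrank_span_singleton (K := F) hx
    rw [hs, finrank_top] at hfr
    omega
  have hD0 : ∀ w, D w = 0 := fun w => by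
    have hw : w ∈ T := by rw [addSubgroup_eq_top hS T hTne hTinv]; trivial
    exact hw
  have hform : ∀ w, Q (C w : V) = σ lam * σ (Q (w : V)) := fun w => by
    have h3 : q' w = lam * Q (w : V) := sub_eq_zero.1 (hD0 w)
    rw [← map_mul, ← h3, σ.apply_symm_apply]
  refine ⟨σ, σ lam, fun h0 => ?_, hσ, hform⟩
  obtain ⟨w, hw⟩ := hW.exists_value (by omega) 1
  obtain ⟨v, rfl⟩ := C.surjective w
  rw [restr_apply, hform, h0, zero_mul] at hw
  exact zero_ne_one hw

/-- Extension of a semisimilarity of the complement. -/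
theorem exists_semi_of_action (H : HypPair Q) (C : H.W ≃+ H.W) (σ : F ≃+* F) {c : F} (hc : c ≠ 0)
    (hσ : ∀ (a : F) w, C (a • w) = σ a • C w) (hC : ∀ w, Q (C w : V) = c * σ (Q (w : V))) :
    ∃ ψ : semiGroup Q, IsSemi Q ψ.1 σ c ∧ ψ.1 H.e = c • H.e ∧ ψ.1 H.f = H.f ∧
      ∀ w : H.W, ψ.1 w = C w := by
  have : Finite V := Module.finite_of_finite F
  let T : V → V := fun x => (c * σ (polar Q H.f x)) • H.e + σ (polar Q H.e x) • H.f + (C (H.proj x) : V)
  have hpadd : ∀ x y, H.proj (x + y) = H.proj x + H.proj y := fun x y => Subtype.ext (by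
    simp only [proj, Submodule.coe_add, polar_add_right, add_smul]; abel)
  have hpsmul : ∀ (a : F) x, H.proj (a • x) = a • H.proj x := fun a x => Subtype.ext (by
    simp only [proj, Submodule.coe_smul, polar_smul_right', smul_sub, smul_smul])
  have hadd : ∀ x y, T (x + y) = T x + T y := fun x y => by
    simp only [T, polar_add_right, map_add, mul_add, add_smul, hpadd, Submodule.coe_add]
    abel
  have hsmul : ∀ (a : F) x, T (a • x) = σ a • T x := fun a x => by
    simp only [T, polar_smul_right', map_mul, hpsmul, hσ, Submodule.coe_smul, smul_add, smul_smul]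
    ring_nf
  have hQ' : ∀ x, Q (T x) = c * σ (Q x) := fun x => by
    conv_rhs => rw [H.decomp x, H.map_decomp, map_add, map_mul]
    rw [H.map_decomp, hC]
    ring
  have hinj : Function.Injective T := by
    intro x y h
    have hz : T (x - y) = 0 := by
      have h1 := hadd (x - y) y
      rw [sub_add_cancel, h] at h1
      exact left_eq_add.1 (h1.trans (add_comm _ _))
    have he := congrArg (polar Q H.e) hz
    have hf := congrArg (polar Q H.f) hz
    simp only [T, polar_add_right, polar_smul_right', polar_self', H.he, H.hef, H.ew, mul_zero,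
      mul_one, zero_add, add_zero, polar_zero_right] at he
    simp only [T, polar_add_right, polar_smul_right', polar_self', H.hf, H.hfe, H.fw, mul_zero,
      mul_one, zero_add, add_zero, polar_zero_right] at hf
    have he' : polar Q H.e (x - y) = 0 := σ.injective (by rw [he, map_zero])
    have hf' : polar Q H.f (x - y) = 0 :=
      σ.injective (by rw [(mul_eq_zero.1 hf).resolve_left hc, map_zero])
    have hp : (C (H.proj (x - y)) : V) = 0 := by
      simpa [T, he', hf'] using hz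
    have hp' : H.proj (x - y) = 0 := C.injective (Subtype.ext (by rw [hp, map_zero]; rfl))
    rw [← sub_eq_zero, H.decomp (x - y), he', hf', hp']
    simp
  let e : Equiv.Perm V := Equiv.ofBijective T ⟨hinj, Finite.injective_iff_surjective.1 hinj⟩
  have hsemi : IsSemi Q e σ c := ⟨hadd, hsmul, hc, hQ'⟩
  refine ⟨⟨e, σ, c, hsemi⟩, hsemi, ?_, ?_, fun w => ?_⟩
  · have hp : H.proj H.e = 0 := Subtype.ext (by simp [proj, polar_self', H.he, H.hfe])
    change T H.e = c • H.e
    simp [T, hp, polar_self', H.he, H.hfe]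
  · have hp : H.proj H.f = 0 := Subtype.ext (by simp [proj, polar_self', H.hf, H.hef])
    change T H.f = H.f
    simp [T, hp, polar_self', H.hf, H.hef]
  · have hp : H.proj (w : V) = w := Subtype.ext (by simp [proj, H.ew, H.fw])
    change T w = C w
    simp [T, hp, H.ew, H.fw]

/-- The two radicals generate. -/
theorem commutator_le_of_sieW (H : HypPair Q) (hQ : Nondeg Q) (hn : 5 ≤ finrank F V)
    {M : Subgroup (O Q)} (hMe : ∀ w, H.sieW w ∈ M) (hMf : ∀ w, H.swap.sieW w ∈ M) :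
    commutator (O Q) ≤ M := by
  have hW := H.nondeg_W hQ
  have hconj : ∀ a ∈ M, ∀ (v : V) (hv : Q v = 0), unip Q v hv ≤ M →
      unip Q ((a : V ≃ₗ[F] V) v) (by rw [O.map_app]; exact hv) ≤ M := by
    intro a ha v hv hvM z hz
    have h7 := unip_conj (by rw [O.map_app]; exact hv) a⁻¹ hz
    rw [inv_inv] at h7
    have h8 : a⁻¹ * z * a ∈ unip Q v hv := by
      rwa [unip_congr hv _ one_ne_zero (by
        rw [one_smul]; exact (a : V ≃ₗ[F] V).symm_apply_apply v)] at h7
    rw [show z = a * (a⁻¹ * z * a) * a⁻¹ by group]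
    exact mul_mem (mul_mem ha (hvM h8)) (inv_mem ha)
  have hnear : ∀ (H₀ : HypPair Q), unip Q H₀.f H₀.hf ≤ M → (∀ w, H₀.sieW w ∈ M) →
      ∀ (v : V) (hv : Q v = 0), polar Q H₀.e v ≠ 0 → unip Q v hv ≤ M := by
    intro H₀ hfM heM v hv hev
    obtain ⟨v', hv'⟩ : ∃ v', v' = (polar Q H₀.e v)⁻¹ • v := ⟨_, rfl⟩
    have hQv' : Q v' = 0 := by rw [hv', qmap_smul, hv, mul_zero]
    have hev' : polar Q H₀.e v' = 1 := by rw [hv', polar_smul_right', inv_mul_cancel₀ hev]
    rw [← unip_congr hv hQv' (inv_ne_zero hev) hv']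
    have hz : polar Q H₀.f v' + Q (H₀.proj v' : V) = 0 := by
      have h9 := H₀.map_decomp (polar Q H₀.f v') (polar Q H₀.e v') (H₀.proj v')
      rw [← H₀.decomp, hQv', hev', mul_one] at h9
      exact h9.symm
    have himg : (H₀.sieW (-H₀.proj v') : V ≃ₗ[F] V) H₀.f = v' := by
      rw [sieW_f, Submodule.coe_neg, QuadraticMap.map_neg]
      conv_rhs => rw [H₀.decomp v', hev', one_smul]
      rw [eq_neg_of_add_eq_zero_right hz]
      simp [sub_eq_add_neg, neg_smul]
      abel
    rw [show unip Q v' hQv' = unip Q ((H₀.sieW (-H₀.proj v') : V ≃ₗ[F] V) H₀.f)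
        (by rw [O.map_app]; exact H₀.hf) from unip_congr _ _ one_ne_zero (by rw [one_smul, himg])]
    exact hconj _ (heM _) _ H₀.hf hfM
  have hMue : unip Q H.e H.he ≤ M := fun z hz => by
    obtain ⟨w, rfl⟩ := H.exists_sieW hz; exact hMe w
  have hMuf : unip Q H.f H.hf ≤ M := fun z hz => by
    obtain ⟨w, rfl⟩ := H.swap.exists_sieW hz; exact hMf w
  have hall : ∀ (v : V) (hv : Q v = 0), unip Q v hv ≤ M := by
    intro v hv
    by_cases hev : polar Q H.e v = 0
    · by_cases hfv : polar Q H.f v = 0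
      · by_cases hv0 : v = 0
        · subst hv0
          rintro _ ⟨w, hw, rfl⟩
          rw [show sie (Q := Q) 0 w hv hw = 1 from O.ext_app fun x => by rw [sie_app]; simp]
          exact one_mem _
        have hv' : (⟨v, mem_W.2 ⟨hev, hfv⟩⟩ : H.W) ≠ 0 := fun h => hv0 (congrArg Subtype.val h)
        obtain ⟨w, hw⟩ := hW.exists_polar_eq hv' 1
        rw [polar_restr] at hw
        have hz : (H.sieW w : V ≃ₗ[F] V) v = v + H.e := by
          rw [sieW, sie_app, hev, polar_comm (⇑Q) (w : V) v, hw]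
          simp
        have hfz : polar Q H.swap.e ((H.sieW w : V ≃ₗ[F] V) v) ≠ 0 := by
          change polar Q H.f _ ≠ 0
          rw [hz, polar_add_right, hfv, H.hfe, zero_add]; exact one_ne_zero
        have h10 := hconj _ (inv_mem (hMe w)) _ _
          (hnear H.swap hMue hMf _ (by rw [O.map_app]; exact hv) hfz)
        rwa [unip_congr hv _ one_ne_zero (by
          rw [one_smul]; exact (H.sieW w : V ≃ₗ[F] V).symm_apply_apply v)] at h10
      · exact hnear H.swap hMue hMf v hv hfv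
    · exact hnear H hMuf hMe v hv hev
  rw [← sieGroup_eq_commutator hQ hn]
  exact sieGroup_le_of_singular hQ hn M fun u w hu hw _ => hall u hu (sie_mem_unip hu hw)

/-- The commutator of two root elements with orthogonal singular vectors lies in the Levi part. -/
theorem commutator_sieW (H : HypPair Q) (x : H.W) (yf : H.swap.W) (hxQ : Q (x : V) = 0)
    (hyQ : Q (yf : V) = 0) (hyx : polar Q (yf : V) x = 0) (a : F) :
    H.sieW x * H.swap.sieW (a • yf) * (H.sieW x)⁻¹ * (H.swap.sieW (a • yf))⁻¹ =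
      sie (yf : V) (a • (x : V)) hyQ (by rw [polar_smul_right', hyx, mul_zero]) := by
  have hfy : polar Q H.f (yf : V) = 0 := H.swap.ew yf
  have hey : polar Q H.e (yf : V) = 0 := H.swap.fw yf
  have hsx : polar Q (x : V) (yf : V) = 0 := by rw [polar_comm]; exact hyx
  have hay : Q (a • (yf : V)) = 0 := by rw [qmap_smul, hyQ, mul_zero]
  have hfx : Q (H.f - (x : V)) = 0 := by
    rw [qmap_sub, H.hf, hxQ, H.fw]; ring
  have hfxy : polar Q (H.f - (x : V)) (a • (yf : V)) = 0 := by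
    rw [polar_sub_left, polar_smul_right', polar_smul_right', hfy, hsx]; ring
  have himg1 : (H.sieW x : V ≃ₗ[F] V) H.f = H.f - (x : V) := by
    rw [sieW_f, hxQ, zero_smul, sub_zero]
  have himg2 : (H.sieW x : V ≃ₗ[F] V) (a • (yf : V)) = a • (yf : V) := by
    refine sie_fix' _ _ ?_ ?_
    · rw [polar_smul_right', hey, mul_zero]
    · rw [polar_smul_right', hsx, mul_zero]
  have hconj : H.sieW x * H.swap.sieW (a • yf) * (H.sieW x)⁻¹ =
      sie (H.f - (x : V)) (a • (yf : V)) hfx hfxy :=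
    (sie_conj _ _ _).trans (sie_congr _ _ _ _ himg1 himg2)
  have e1 : sie (H.f - (x : V)) (a • (yf : V)) hfx hfxy =
      sie (a • (yf : V)) (-(H.f - (x : V))) hay
        (by rw [polar_neg_right, polar_comm, hfxy, neg_zero]) := sie_swap hfx hay hfxy
  have e2 : H.swap.sieW (a • yf) = sie (a • (yf : V)) (-H.f) hay
      (by rw [polar_neg_right, polar_smul_left', polar_comm, hfy, mul_zero, neg_zero]) :=
    sie_swap H.hf hay (by rw [polar_smul_right', hfy, mul_zero])
  rw [hconj, e1, e2, sie_inv, sie_mul]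
  refine (sie_congr _ _ hay (by rw [polar_smul_left', hyx, mul_zero]) rfl
    (by abel : -(H.f - (x : V)) + -(-H.f) = (x : V))).trans ?_
  rw [sie_smul hyQ hyx a]

set_option maxHeartbeats 1000000 in
-- the proof is long
/-- An automorphism fixing the first radical pointwise and the two points is trivial. -/
theorem eq_one_of_fixed (H : HypPair Q) (hQ : Nondeg Q) (hn : 7 ≤ finrank F V)
    (φ : MulAut (PC Q)) (hpW : ∀ w, φ (H.pW hQ (by omega) w) = H.pW hQ (by omega) w)
    (he : (stabP Q H.e).map φ.toMonoidHom = stabP Q H.e)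
    (hf : (stabP Q H.f).map φ.toMonoidHom = stabP Q H.f)
    (huf : (unipP Q H.f H.hf).map φ.toMonoidHom = unipP Q H.f H.hf) : φ = 1 := by
  have hn5 : 5 ≤ finrank F V := by omega
  have hue : (unipP Q H.e H.he).map φ.toMonoidHom = unipP Q H.e H.he := by
    refine le_antisymm ?_ fun x hx => ⟨x, hx, ?_⟩
    · rintro _ ⟨x, hx, rfl⟩
      obtain ⟨w, rfl⟩ := (H.mem_unipP_iff hQ hn5).1 hx
      change φ _ ∈ _
      rw [hpW]; exact hx
    · obtain ⟨w, rfl⟩ := (H.mem_unipP_iff hQ hn5).1 hx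
      exact hpW w
  obtain ⟨C, hC, h1, -⟩ := H.exists_action hQ hn5 φ hue he hf
  have hC1 : ∀ w, C w = w := fun w => H.pW_injective hQ hn5 ((hC w).symm.trans (hpW w))
  have hlev : ∀ l : H.lev, φ (H.pL l) = H.pL l := by
    intro l
    obtain ⟨l', hl', hequ⟩ := h1 l
    rw [hl']
    refine (H.pL_eq_of_rho hQ hn5 (LinearMap.ext fun w => ?_)).symm
    have := hequ w
    rwa [hC1, hC1] at this
  obtain ⟨D, hD, hD1, -⟩ := H.swap.exists_action hQ hn5 φ huf hf he
  have hlev' : ∀ l : H.swap.lev, φ (H.swap.pL l) = H.swap.pL l := fun l => by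
    rw [H.pL_swap l (H.mem_lev_of_swap l.2)]
    exact hlev _
  have hDcomm : ∀ L ∈ Set.range H.swap.rho, ∀ w, D (L w) = L (D w) := by
    rintro _ ⟨l, rfl⟩ w
    have h3 : φ (H.swap.pL l * H.swap.pW hQ hn5 w * (H.swap.pL l)⁻¹) =
        φ (H.swap.pW hQ hn5 (H.swap.rho l w)) := by rw [H.swap.pL_conj hQ hn5]
    rw [map_mul, map_mul, map_inv, hlev', hD, hD, H.swap.pL_conj hQ hn5] at h3
    exact H.swap.pW_injective hQ hn5 h3.symm
  obtain ⟨d, hd⟩ := exists_scalar_of_commute_ring (H.swap.closure_rho hQ hn5)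
    D.toAddMonoidHom hDcomm
  -- a nested pair inside the complement
  have hW := H.nondeg_W hQ
  have hdW := H.finrank_W hQ
  obtain ⟨y, hy0, hy⟩ := hW.exists_singular (by omega)
  obtain ⟨g, hg, hyg⟩ := hW.exists_partner hy0 hy
  let HW : HypPair (restr Q H.W) := ⟨y, g, hy, hg, hyg⟩
  have hdW' := HW.finrank_W hW
  obtain ⟨x, hx0, hx⟩ := (HW.nondeg_W hW).exists_singular (by omega)
  have hxQ : Q ((x : H.W) : V) = 0 := hx
  have hyQ : Q (y : V) = 0 := hy
  have hyx : polar Q (y : V) ((x : H.W) : V) = 0 := by rw [← polar_restr]; exact HW.ew x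
  have hfy : polar Q H.f (y : V) = 0 := H.fw y
  have hd1 : d = 1 := by
    let yf : H.swap.W := ⟨(y : V), mem_W.2 ⟨H.fw y, H.ew y⟩⟩
    have hsx : polar Q ((x : H.W) : V) (y : V) = 0 := by rw [polar_comm]; exact hyx
    -- the commutator of the two root elements
    have hcomm : ∀ a : F, H.sieW (x : H.W) * H.swap.sieW (a • yf) * (H.sieW (x : H.W))⁻¹ *
        (H.swap.sieW (a • yf))⁻¹ =
        sie (y : V) (a • ((x : H.W) : V)) hyQ (by rw [polar_smul_right', hyx, mul_zero]) :=
      fun a => H.commutator_sieW (x : H.W) yf hxQ hyQ hyx a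
    have hmemc : ∀ a : F, sie (y : V) (a • ((x : H.W) : V)) hyQ
        (by rw [polar_smul_right', hyx, mul_zero]) ∈ H.lev := fun a =>
      H.sie_mem_lev hQ hn5 (x := y) (y := a • (x : H.W)) hyQ
        (by rw [Submodule.coe_smul, polar_smul_right', hyx, mul_zero])
    have hpc : ∀ a : F, H.pW hQ hn5 (x : H.W) * H.swap.pW hQ hn5 (a • yf) *
        (H.pW hQ hn5 (x : H.W))⁻¹ * (H.swap.pW hQ hn5 (a • yf))⁻¹ = H.pL ⟨_, hmemc a⟩ := by
      intro a
      rw [pW, pW, pL, ← map_inv, ← map_inv, ← map_mul, ← map_mul, ← map_mul]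
      exact congrArg _ (Subtype.ext (hcomm a))
    have h3 : φ (H.pW hQ hn5 (x : H.W) * H.swap.pW hQ hn5 ((1 : F) • yf) *
        (H.pW hQ hn5 (x : H.W))⁻¹ * (H.swap.pW hQ hn5 ((1 : F) • yf))⁻¹) =
        φ (H.pL ⟨_, hmemc 1⟩) := by rw [hpc]
    rw [map_mul, map_mul, map_mul, map_inv, map_inv, hlev, hpW, hD,
      show D ((1 : F) • yf) = d • yf by rw [one_smul]; exact hd yf, hpc d] at h3
    have h4 := QuotientGroup.eq.1 h3
    obtain ⟨p, hp⟩ := CharP.exists F
    have : Fact p.Prime := ⟨CharP.char_is_prime F p⟩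
    have hm1 : polar Q (y : V) ((1 - d) • ((x : H.W) : V)) = 0 := by
      rw [polar_smul_right', hyx, mul_zero]
    have heq : (sie (y : V) (d • ((x : H.W) : V)) hyQ
        (by rw [polar_smul_right', hyx, mul_zero]))⁻¹ *
        sie (y : V) ((1 : F) • ((x : H.W) : V)) hyQ (by rw [polar_smul_right', hyx, mul_zero]) =
        sie (y : V) ((1 - d) • ((x : H.W) : V)) hyQ hm1 := by
      rw [sie_inv, sie_mul]
      exact sie_congr _ _ _ _ rfl (by rw [sub_smul, neg_add_eq_sub])
    have h5 := center_eq_one_of_pow hQ hn5 (p := p) h4 (k := 1) (Subtype.ext (by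
      rw [pow_one, Subgroup.coe_pow]
      change (((sie (y : V) (d • ((x : H.W) : V)) hyQ
          (by rw [polar_smul_right', hyx, mul_zero]))⁻¹ *
        sie (y : V) ((1 : F) • ((x : H.W) : V)) hyQ
          (by rw [polar_smul_right', hyx, mul_zero])) : O Q) ^ p = 1
      rw [heq]
      exact unip_pow_char hyQ (sie_mem_unip hyQ hm1)))
    have h6 : (sie (y : V) ((1 - d) • ((x : H.W) : V)) hyQ hm1 : V ≃ₗ[F] V) (g : V) = g := by
      rw [← heq]; exact congrArg (fun z : commutator (O Q) => ((z : O Q) : V ≃ₗ[F] V) (g : V)) h5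
    have hxg : polar Q ((x : H.W) : V) (g : V) = 0 := by
      rw [polar_comm, ← polar_restr]; exact HW.fw x
    have hyg' : polar Q (y : V) (g : V) = 1 := by rw [← polar_restr]; exact hyg
    rw [sie_app, qmap_smul, hxQ, polar_smul_left', hxg, hyg', mul_zero, mul_zero, zero_mul, sub_zero,
      zero_smul, add_zero, one_smul, sub_eq_self, smul_eq_zero] at h6
    rcases h6 with h6 | h6
    · linear_combination -h6
    · exact absurd (Subtype.ext (Subtype.ext h6)) hx0
  have hpWf : ∀ w, φ (H.swap.pW hQ hn5 w) = H.swap.pW hQ hn5 w := fun w => by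
    rw [hD, show D w = d • w from hd w, hd1, one_smul]
  -- the fixed subgroup contains every radical
  let M : Subgroup (O Q) :=
    ({ carrier := {z | φ (toPC Q z) = toPC Q z}
       one_mem' := by simp
       mul_mem' := fun {a b} ha hb => by
        change φ (toPC Q (a * b)) = toPC Q (a * b)
        rw [map_mul, map_mul, Set.mem_setOf.1 ha, Set.mem_setOf.1 hb]
       inv_mem' := fun {a} ha => by
        change φ (toPC Q a⁻¹) = toPC Q a⁻¹
        rw [map_inv, map_inv, Set.mem_setOf.1 ha] } :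
      Subgroup (commutator (O Q))).map (commutator (O Q)).subtype
  have hMe : ∀ w, H.sieW w ∈ M := fun w => ⟨_, hpW w, rfl⟩
  have hMf : ∀ w, H.swap.sieW w ∈ M := fun w => ⟨_, hpWf w, rfl⟩
  have htop : commutator (O Q) ≤ M := H.commutator_le_of_sieW hQ hn5 hMe hMf
  refine MulEquiv.ext fun z => ?_
  obtain ⟨z, rfl⟩ := toPC_surjective z
  obtain ⟨z', hz', hzz⟩ := htop z.2
  rw [show z = z' from Subtype.ext hzz.symm]
  exact hz'

end HypPair

theorem map_mul_aut {G : Type*} [Group G] (a b : MulAut G) (K : Subgroup G) :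
    K.map (a * b).toMonoidHom = (K.map b.toMonoidHom).map a.toMonoidHom := by
  rw [Subgroup.map_map]; rfl

/-- Every automorphism is induced by a semisimilarity. -/
theorem exists_semiAut (hQ : Nondeg Q) (hn : 7 ≤ finrank F V) (h8 : NoTriality Q)
    (φ : MulAut (PC Q)) : ∃ ψ : semiGroup Q, φ = semiAut ψ := by
  have hn5 : 5 ≤ finrank F V := by omega
  obtain ⟨e, he0, he⟩ := hQ.exists_singular (by omega)
  obtain ⟨f, hf, hef⟩ := hQ.exists_partner he0 he
  let H : HypPair Q := ⟨e, f, he, hf, hef⟩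
  obtain ⟨u, hu, hu0, hus, huu⟩ := exists_map_point hQ hn h8 φ H.e_ne H.he
  obtain ⟨v, hv, hv0, hvs, -⟩ := exists_map_point hQ hn h8 φ H.f_ne H.hf
  have huv : polar Q u v ≠ 0 := by
    intro h0
    have h1 := (polar_eq_zero_iff_unipP hQ hn5 hu0 hu hv0 hv).1 h0
    rw [← huu, ← hvs, ← Subgroup.map_inf _ _ _ φ.injective] at h1
    refine zero_ne_one (α := F) (((polar_eq_zero_iff_unipP hQ hn5 H.e_ne H.he H.f_ne H.hf).2
      fun hb => h1 ?_).symm.trans H.hef)
    rw [hb, Subgroup.map_bot]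
  obtain ⟨g, hge, hgf⟩ := exists_map_pair hQ H.he H.hf H.hef hu
    (f' := (polar Q u v)⁻¹ • v) (by rw [qmap_smul, hv, mul_zero])
    (by rw [polar_smul_right', inv_mul_cancel₀ huv])
  obtain ⟨φ₁, hφ₁⟩ : ∃ a, a = (semiAut (ofO g))⁻¹ * φ := ⟨_, rfl⟩
  have he1 : (stabP Q H.e).map φ₁.toMonoidHom = stabP Q H.e := by
    rw [hφ₁, map_mul_aut, hus, ← map_inv, map_stabP_semiAut _ hu0]
    refine congrArg (stabP Q) ?_
    rw [← hge, ← map_inv, ofO_apply]
    exact (g : V ≃ₗ[F] V).symm_apply_apply _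
  have hf1 : (stabP Q H.f).map φ₁.toMonoidHom = stabP Q H.f := by
    rw [hφ₁, map_mul_aut, hvs, ← map_inv, map_stabP_semiAut _ hv0]
    refine (stabP_congr (inv_ne_zero huv) ?_).symm
    rw [← map_inv, ofO_apply, Subgroup.coe_inv, ← map_smul, ← hgf]
    exact ((g : V ≃ₗ[F] V).symm_apply_apply _).symm
  have hfix : ∀ (χ : MulAut (PC Q)) {x : V} (hx0 : x ≠ 0) (hx : Q x = 0),
      (stabP Q x).map χ.toMonoidHom = stabP Q x →
      (unipP Q x hx).map χ.toMonoidHom = unipP Q x hx := by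
    intro χ x hx0 hx hχ
    obtain ⟨y, hy, hy0, hys, hyu⟩ := exists_map_point hQ hn h8 χ hx0 hx
    rw [hyu]
    have hle : unipP Q y hy ≤ stabP Q x := by
      rw [← hχ, hys]; exact unipP_le_stabP hy
    have hspan := span_eq_of_unip_le hQ hn5 hy0 hy hx0 hx hle
    obtain ⟨a, ha⟩ := Submodule.mem_span_singleton.1
      (hspan ▸ Submodule.mem_span_singleton_self y : y ∈ Submodule.span F {x})
    exact unipP_congr hx hy (fun h => hy0 (by rw [← ha, h, zero_smul])) ha.symm
  obtain ⟨C, hC, h1, h2⟩ := H.exists_action hQ hn5 φ₁ (hfix φ₁ H.e_ne H.he he1) he1 hf1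
  obtain ⟨σ, c, hc, hσ, hform⟩ := H.exists_sim_action hQ hn5 φ₁ C h1 h2
  obtain ⟨ψ, hψ, hψe, hψf, hψw⟩ := H.exists_semi_of_action C σ hc hσ hform
  have hψW : ∀ w, semiAut ψ (H.pW hQ hn5 w) = H.pW hQ hn5 (C w) := by
    intro w
    rw [HypPair.pW, semiAut_mk]
    refine congrArg _ (Subtype.ext ?_)
    rw [commAut_apply, semiO_apply]
    change semiMap ψ (sie H.e (w : V) H.he (H.ew w)) = sie H.e (C w : V) H.he (H.ew (C w))
    rw [semiMap_sie hψ]
    refine (sie_congr (u' := c • H.e) (w' := c⁻¹ • (C w : V)) _ _ (by rw [qmap_smul, H.he, mul_zero])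
      (by rw [polar_smul_left', polar_smul_right', H.ew, mul_zero, mul_zero]) hψe
      (by rw [hψw])).trans ?_
    rw [sie_smul H.he (by rw [polar_smul_right', H.ew, mul_zero]) c]
    exact sie_congr _ _ _ _ rfl (by rw [smul_inv_smul₀ hc])
  have hψinv : ∀ K K' : Subgroup (PC Q), K.map (semiAut ψ).toMonoidHom = K' →
      K'.map (semiAut ψ)⁻¹.toMonoidHom = K := by
    rintro K _ rfl
    rw [← map_mul_aut, inv_mul_cancel]
    exact Subgroup.map_id K
  have hse : (stabP Q H.e).map (semiAut ψ).toMonoidHom = stabP Q H.e := by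
    rw [map_stabP_semiAut _ H.e_ne]; exact stabP_congr hc hψe
  have hsf : (stabP Q H.f).map (semiAut ψ).toMonoidHom = stabP Q H.f := by
    rw [map_stabP_semiAut _ H.f_ne, hψf]
  have hf2 : (stabP Q H.f).map ((semiAut ψ)⁻¹ * φ₁).toMonoidHom = stabP Q H.f := by
    rw [map_mul_aut, hf1, hψinv _ _ hsf]
  have hone : (semiAut ψ)⁻¹ * φ₁ = 1 := by
    refine H.eq_one_of_fixed hQ hn _ (fun w => ?_) ?_ hf2 (hfix _ H.f_ne H.hf hf2)
    · rw [MulAut.mul_apply, hC, ← hψW]
      exact (semiAut ψ).symm_apply_apply _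
    · rw [map_mul_aut, he1, hψinv _ _ hse]
  rw [inv_mul_eq_one] at hone
  exact ⟨ofO g * ψ, by rw [map_mul, hone, hφ₁, mul_inv_cancel_left]⟩

end Cfsg.Agent.Orthogonal
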