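import Cfsg.Prelude.Def_LieTypeDatum
import Cfsg.Agent.Orthogonal.AutThm
import Cfsg.Agent.Orthogonal.StdForms

/-!
The automorphism theorem for `Cfsg.POmega`: automorphisms are induced by semisimilarities, and the
semisimilarity inducing an automorphism is unique up to a scalar.
-/

set_option autoImplicit false
set_option linter.unusedSectionVars false

namespace Cfsg.Agent.Orthogonal

open QuadraticMap Module Matrix

section Unique

variable {F V : Type*} [Field F] [AddCommGroup V] [Module F V]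
variable {Q : QuadraticForm F V}

/-- The field automorphism of a semisimilarity. -/
noncomputable def fieldOf (ψ : semiGroup Q) : F ≃+* F := Classical.choose ψ.2

/-- The multiplier of a semisimilarity. -/
noncomputable def mulOf (ψ : semiGroup Q) : F := Classical.choose (Classical.choose_spec ψ.2)

theorem isSemi_fieldOf (ψ : semiGroup Q) : IsSemi Q ψ.1 (fieldOf ψ) (mulOf ψ) :=
  Classical.choose_spec (Classical.choose_spec ψ.2)

theorem IsSemi.field_unique [Nontrivial V] {ψ : Equiv.Perm V} {σ σ' : F ≃+* F} {c c' : F}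
    (h : IsSemi Q ψ σ c) (h' : IsSemi Q ψ σ' c') : σ = σ' := by
  obtain ⟨v, hv⟩ := exists_ne (0 : V)
  have hz : ψ 0 = 0 := by simpa using h.map_smul 0 0
  have hv' : ψ v ≠ 0 := fun h0 => hv (ψ.injective (h0.trans hz.symm))
  exact RingEquiv.ext fun a => smul_left_injective F hv'
    ((h.map_smul a v).symm.trans (h'.map_smul a v))

theorem IsSemi.mult_unique [Nontrivial V] {ψ : Equiv.Perm V} {σ σ' : F ≃+* F} {c c' : F}
    (h : IsSemi Q ψ σ c) (h' : IsSemi Q ψ σ' c') (hv : ∃ v, Q v ≠ 0) : c = c' := by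
  obtain rfl := h.field_unique h'
  obtain ⟨v, hv⟩ := hv
  exact mul_right_cancel₀ (by simpa using hv) ((h.map_form v).symm.trans (h'.map_form v))

variable [FiniteDimensional F V] [Finite F]

/-- A semisimilarity inducing the identity is a scalar. -/
theorem exists_scalar_of_semiAut_eq_one (hQ : Nondeg Q) (hn : 5 ≤ finrank F V) {ψ : semiGroup Q}
    (h : semiAut ψ = 1) : ∃ a : F, a ≠ 0 ∧ ∀ x, ψ.1 x = a • x := by
  obtain ⟨σ, c, hψ⟩ := ψ.2
  have hz : ψ.1 0 = 0 := by simpa using hψ.map_smul 0 0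
  have hpts : ∀ x, x ≠ 0 → Q x = 0 → ∃ a : F, a ≠ 0 ∧ ψ.1 x = a • x := by
    intro x hx0 hx
    have hx' : ψ.1 x ≠ 0 := fun h0 => hx0 (ψ.1.injective (h0.trans hz.symm))
    have hQx : Q (ψ.1 x) = 0 := by rw [hψ.map_form, hx, map_zero, mul_zero]
    have hst := map_stabP_semiAut ψ hx0
    rw [h] at hst
    have hst' : stabP Q x = stabP Q (ψ.1 x) := (Subgroup.map_id _).symm.trans hst
    have hspan := span_eq_of_unip_le hQ hn hx' hQx hx0 hx (hst' ▸ unipP_le_stabP hQx)
    obtain ⟨a, ha⟩ := Submodule.mem_span_singleton.1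
      (hspan ▸ Submodule.mem_span_singleton_self _ : ψ.1 x ∈ Submodule.span F {x})
    exact ⟨a, fun h0 => hx' (by rw [← ha, h0, zero_smul]), ha.symm⟩
  obtain ⟨e, he0, he⟩ := hQ.exists_singular (by omega)
  obtain ⟨f, hf, hef⟩ := hQ.exists_partner he0 he
  let H : HypPair Q := ⟨e, f, he, hf, hef⟩
  obtain ⟨a, ha, hae⟩ := hpts H.e H.e_ne H.he
  obtain ⟨b, -, hbf⟩ := hpts H.f H.f_ne H.hf
  have hw : ∀ w : H.W, ψ.1 w = a • (w : V) ∧ b * σ (Q (w : V)) = a * Q (w : V) := by
    intro w
    have hmem : ∀ u ∈ H.W, ψ.1 u ∈ H.W := by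
      intro u hu
      obtain ⟨h1, h2⟩ := HypPair.mem_W.1 hu
      refine HypPair.mem_W.2 ⟨?_, ?_⟩
      · have h3 := hψ.map_polar H.e u
        rw [h1, hae, map_zero, mul_zero, polar_smul_left'] at h3
        exact (mul_eq_zero.1 h3).resolve_left ha
      · have hb : b ≠ 0 := fun h0 => H.f_ne (ψ.1.injective (by rw [hbf, h0, zero_smul, hz]))
        have h3 := hψ.map_polar H.f u
        rw [h2, hbf, map_zero, mul_zero, polar_smul_left'] at h3
        exact (mul_eq_zero.1 h3).resolve_left hb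
    obtain ⟨x, hx⟩ : ∃ x, x = (1 : F) • H.e + (-Q (w : V)) • H.f + (w : V) := ⟨_, rfl⟩
    have hQx : Q x = 0 := by rw [hx, H.map_decomp]; ring
    have hx0 : x ≠ 0 := fun h0 => by
      have h1 := congrArg (polar Q H.f) (hx.symm.trans h0)
      simp [polar_add_right, polar_smul_right', polar_self', H.hf, H.hfe, H.fw] at h1
    obtain ⟨d, -, hd⟩ := hpts x hx0 hQx
    rw [hx, hψ.map_add, hψ.map_add, hψ.map_smul, hψ.map_smul, hae, hbf, map_one, one_smul,
      one_smul, map_neg] at hd
    have hwW := hmem w w.2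
    have h1 := congrArg (polar Q H.f) hd
    simp [polar_add_right, polar_smul_right', polar_self', H.hf, H.hfe, H.fw,
      (HypPair.mem_W.1 hwW).2] at h1
    have h2 := congrArg (polar Q H.e) hd
    simp [polar_add_right, polar_smul_right', polar_self', H.he, H.hef, H.ew,
      (HypPair.mem_W.1 hwW).1] at h2
    have h4 := congrArg (fun z : V => (H.proj z : V)) hd
    simp only [HypPair.proj, polar_add_right, polar_smul_right', polar_self', H.he, H.hf, H.hef,
      H.hfe, H.ew, H.fw, (HypPair.mem_W.1 hwW).1, (HypPair.mem_W.1 hwW).2] at h4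
    constructor
    · rw [h1]
      linear_combination (norm := module) h4
    · rw [h1]
      linear_combination h2
  have hd := H.finrank_W hQ
  obtain ⟨w₁, hw₁⟩ := (H.nondeg_W hQ).exists_value (by omega) 1
  have hba : b = a := by
    have h1 := (hw w₁).2
    rw [← restr_apply, hw₁, map_one, mul_one, mul_one] at h1
    exact h1
  have hσ : ∀ t : F, σ t = t := fun t => by
    obtain ⟨w, hwt⟩ := (H.nondeg_W hQ).exists_value (by omega) t
    have h1 := (hw w).2
    rw [← restr_apply, hwt, hba] at h1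
    exact mul_left_cancel₀ ha h1
  refine ⟨a, ha, fun x => ?_⟩
  conv_lhs => rw [H.decomp x, hψ.map_add, hψ.map_add, hψ.map_smul, hψ.map_smul, hae, hbf,
    (hw (H.proj x)).1, hσ, hσ, hba, smul_comm _ a, smul_comm _ a, ← smul_add, ← smul_add,
    ← H.decomp x]

end Unique

section Bridge

variable {F : Type*} [Field F] [Finite F] {ι : Type} [Fintype ι] [DecidableEq ι]
variable {Q : QuadraticForm F (ι → F)}

theorem map_center_equiv {G G' : Type*} [Group G] [Group G'] (e : G ≃* G') :
    (Subgroup.center G).map e.toMonoidHom = Subgroup.center G' := by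
  ext x
  rw [Subgroup.mem_map_equiv, Subgroup.mem_center_iff, Subgroup.mem_center_iff]
  exact ⟨fun h y => e.symm.injective (by simpa using h (e.symm y)),
    fun h y => e.injective (by simpa using h (e y))⟩

/-- `Cfsg.POmega` is the projective commutator group. -/
noncomputable def pcEquiv (Q : QuadraticForm F (ι → F)) : Cfsg.POmega F (⇑Q) ≃* PC Q :=
  QuotientGroup.congr _ _ (omegaEquiv Q) (map_center_equiv _)

theorem pcEquiv_mk (Q : QuadraticForm F (ι → F)) (s : Cfsg.Omega F (⇑Q)) :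
    pcEquiv Q (QuotientGroup.mk s) = toPC Q (omegaEquiv Q s) := rfl

/-- The matrix of a semisimilarity. -/
theorem exists_matrix_of_semi (ψ : semiGroup Q) : ∃ g : GL ι F,
    ∀ v, (g : Matrix ι ι F) *ᵥ (fun i => fieldOf ψ (v i)) = ψ.1 v := by
  have h := isSemi_fieldOf ψ
  let L : (ι → F) →ₗ[F] (ι → F) :=
    { toFun := fun x => ψ.1 fun i => (fieldOf ψ).symm (x i)
      map_add' := fun x y => by
        rw [← h.map_add]; congr 1; funext i; simp
      map_smul' := fun a x => by
        rw [RingHom.id_apply, show a = fieldOf ψ ((fieldOf ψ).symm a) by simp, ← h.map_smul]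
        congr 1; funext i; simp }
  have hL : Function.Injective L := fun x y hxy => by
    have h1 := ψ.1.injective hxy
    funext i
    exact (fieldOf ψ).symm.injective (congrFun h1 i)
  refine ⟨glEquiv.symm (LinearEquiv.ofInjectiveEndo L hL), fun v => ?_⟩
  rw [← glEquiv_apply, MulEquiv.apply_symm_apply]
  change L (fun i => fieldOf ψ (v i)) = ψ.1 v
  simp [L]

theorem isSemisimilarityPair_of_semi (ψ : semiGroup Q) {g : GL ι F}
    (hg : ∀ v, (g : Matrix ι ι F) *ᵥ (fun i => fieldOf ψ (v i)) = ψ.1 v) :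
    Cfsg.IsSemisimilarityPair (⇑Q) g (fieldOf ψ) :=
  ⟨Units.mk0 _ (isSemi_fieldOf ψ).ne_zero, fun v => by
    rw [hg, (isSemi_fieldOf ψ).map_form, Units.val_mk0]⟩

theorem isInduced_of_semi (ψ : semiGroup Q) {g : GL ι F}
    (hg : ∀ v, (g : Matrix ι ι F) *ᵥ (fun i => fieldOf ψ (v i)) = ψ.1 v)
    {β : MulAut (Cfsg.POmega F (⇑Q))} (hβ : ∀ x, pcEquiv Q (β x) = semiAut ψ (pcEquiv Q x)) :
    Cfsg.IsInducedBySemilinearPOmega (⇑Q) g (fieldOf ψ) β := by
  intro s s' hss
  apply (pcEquiv Q).injective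
  rw [hβ, pcEquiv_mk, pcEquiv_mk, semiAut_mk]
  refine congrArg _ (Subtype.ext (O.ext_app fun y => ?_))
  obtain ⟨x, rfl⟩ := ψ.1.surjective y
  rw [commAut_apply, semiO_apply, semiMap_app, pinv_apply, coe_omegaEquiv, coe_omegaEquiv,
    toO_apply, toO_apply, hss, ← Matrix.mulVec_mulVec, ← Matrix.mulVec_mulVec]
  conv_rhs =>
    rw [← hg x, Matrix.mulVec_mulVec (fun i => fieldOf ψ (x i)) ((g⁻¹ : GL ι F) : Matrix ι ι F),
      ← Units.val_mul, inv_mul_cancel, Units.val_one, Matrix.one_mulVec]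
  rw [← hg]
  congr 1
  funext i
  exact (RingHom.map_mulVec ((fieldOf ψ) : F →+* F)
    (((s : ↥(Cfsg.isometryGroup F (⇑Q))) : GL ι F) : Matrix ι ι F) x i)

/-- Every automorphism of `PΩ` is induced by a semisimilarity of the form. -/
theorem gammaPOmega_eq_top (hQ : Nondeg Q) (hn : 7 ≤ finrank F (ι → F)) (h8 : NoTriality Q) :
    Cfsg.gammaPOmega F (⇑Q) = ⊤ := by
  refine eq_top_iff.2 fun β _ => Subgroup.subset_closure ?_
  obtain ⟨ψ, hψ⟩ := exists_semiAut hQ hn h8 (((pcEquiv Q).symm.trans β).trans (pcEquiv Q))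
  obtain ⟨g, hg⟩ := exists_matrix_of_semi ψ
  refine ⟨g, fieldOf ψ, isSemisimilarityPair_of_semi ψ hg,
    isInduced_of_semi ψ hg fun x => ?_⟩
  rw [← hψ]
  simp

end Bridge

/-! ### The standard forms -/

section Standard

variable {F : Type*} [Field F] [Finite F] {m : ℕ}

theorem noTriality_formOdd : NoTriality (formOdd F m) := fun ⟨h, _⟩ => by
  rw [finrank_formOdd] at h; omega

theorem noTriality_formPlus (hm : m ≠ 4) : NoTriality (formPlus F m) := fun ⟨h, _⟩ => by
  rw [finrank_formPlus] at h; omega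

theorem noTriality_formMinus {a b : F}
    (hab : ∀ z₁ z₂ : F, z₁ ^ 2 + a * z₁ * z₂ + b * z₂ ^ 2 = 0 → z₁ = 0 ∧ z₂ = 0) :
    NoTriality (formMinus F m a b) := by
  rintro ⟨hV, T, hT, h4⟩
  rw [finrank_formMinus] at hV
  have hQ := formMinus_nondeg (F := F) (m := m) hab
  let bT : Basis (Fin 4) F T := Module.finBasisOfFinrankEq F T h4
  have hdual : ∀ j, ∃ w, ∀ i,
      polar (formMinus F m a b) (bT i : (Fin m ⊕ Fin m) ⊕ Fin 2 → F) w = if i = j then 1 else 0 := by
    intro j
    obtain ⟨l, hl⟩ := LinearMap.exists_extend (bT.coord j)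
    obtain ⟨w, hw⟩ := hQ.exists_repr l
    refine ⟨w, fun i => ?_⟩
    rw [polar_comm, hw]
    have := LinearMap.congr_fun hl (bT i)
    simp only [LinearMap.comp_apply, Submodule.subtype_apply] at this
    rw [this]
    simp [Finsupp.single_apply, eq_comm]
  choose s0 hs0 using hdual
  obtain ⟨s, hfr, -⟩ := exists_fix_opp (fun i => hT _ (bT i).2)
    (fun i j => hT.polar_eq (bT i).2 (bT j).2) fun i j => hs0 j i
  have hk : finrank F (IsFrame.kernel (formMinus F m a b)
      (fun i => (bT i : (Fin m ⊕ Fin m) ⊕ Fin 2 → F)) s) = 0 := by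
    have := hfr.finrank_kernel hQ
    rw [finrank_formMinus] at this
    omega
  have ha : Aniso (formMinus F m a b) (IsFrame.kernel (formMinus F m a b)
      (fun i => (bT i : (Fin m ⊕ Fin m) ⊕ Fin 2 → F)) s) := fun x hx _ => by
    rw [Submodule.finrank_eq_zero.1 hk] at hx; exact hx
  have := frame_length_eq hQ hfr ha (formMinus_frame F m a b) (formMinus_aniso F m hab)
  omega

theorem two_ne_zero_of_odd_card [Fintype F] (h : Odd (Fintype.card F)) : (2 : F) ≠ 0 := by
  intro h2
  have : CharP F 2 := CharTwo.of_one_ne_zero_of_two_eq_zero one_ne_zero h2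
  obtain ⟨e, -, he⟩ := FiniteField.card F 2
  rw [he] at h
  exact (Nat.not_even_iff_odd.2 h) (Nat.even_pow.2 ⟨even_two, e.ne_zero⟩)

end Standard

end Cfsg.Agent.Orthogonal
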