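import Cfsg.Agent.Orthogonal.Witt
import Cfsg.Agent.H54.InvariantForms

/-!
Isometries of odd order prime to the characteristic are conjugate in the orthogonal group as soon
as they are conjugate in the general linear group.
-/

set_option autoImplicit false

namespace Cfsg.Agent.Orthogonal

open QuadraticMap Module
open LinearMap (BilinForm)

variable {F V : Type*} [Field F] [Finite F] [AddCommGroup V] [Module F V] [FiniteDimensional F V]

/-- A commuting intertwiner between two invariant forms, away from the fixed space. -/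
theorem exists_commuting_isometry {S : Module.End F V} {N : ℕ} (hN : (N : F) ≠ 0) (hodd : Odd N)
    (hS : S ^ N = 1) (hfix : ∀ x, S x = x → x = 0) {Q₁ Q₂ : QuadraticForm F V}
    (h1 : Nondeg Q₁) (h2 : Nondeg Q₂) (hi1 : ∀ x, Q₁ (S x) = Q₁ x) (hi2 : ∀ x, Q₂ (S x) = Q₂ x) :
    ∃ c : V ≃ₗ[F] V, (∀ x, c (S x) = S (c x)) ∧ ∀ x, Q₂ (c x) = Q₁ x := by
  obtain ⟨j, hj⟩ := hodd
  set U : Module.End F V := S - S ^ (N - 1)
  have hUS : ∀ x, U (S x) = S (U x) := fun x => by
    have hx : (S ^ (N - 1)) (S x) = S ((S ^ (N - 1)) x) := by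
      rw [← Module.End.mul_apply, ← Module.End.mul_apply, ← pow_succ, ← pow_succ']
    simp only [U, LinearMap.sub_apply, map_sub, hx]
  have hlast : ∀ x, S ((S ^ (N - 1)) x) = x := fun x => by
    rw [← Module.End.mul_apply, ← pow_succ', show N - 1 + 1 = N by omega, hS, Module.End.one_apply]
  have hUinj : Function.Injective U := by
    rw [injective_iff_map_eq_zero]
    intro x hx
    have e : S x = (S ^ (N - 1)) x := sub_eq_zero.1 hx
    have e2 : S (S x) = x := by rw [e, hlast]
    refine hfix x ?_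
    have hp : ∀ i, (S ^ (2 * i)) x = x := by
      intro i
      induction i with
      | zero => rw [Nat.mul_zero, pow_zero, Module.End.one_apply]
      | succ i ih =>
        rw [Nat.mul_succ, pow_add, Module.End.mul_apply, pow_two, Module.End.mul_apply, e2, ih]
    have h0 : (S ^ N) x = S x := by
      rw [hj, pow_succ', Module.End.mul_apply, hp]
    rw [hS, Module.End.one_apply] at h0
    exact h0.symm
  let D : QuadraticForm F V → BilinForm F V := fun Q => Q.polarBilin.comp U
  have hD : ∀ (Q : QuadraticForm F V) x y, D Q x y = polar Q (U x) y := fun _ _ _ => rfl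
  have halt : ∀ {Q : QuadraticForm F V}, (∀ x, Q (S x) = Q x) → (D Q).IsAlt := fun {Q} hi x => by
    have hB : ∀ a b, polar Q (S a) (S b) = polar Q a b := fun a b => by
      simp only [polar, ← map_add, hi]
    rw [hD]
    simp only [U, LinearMap.sub_apply, polar_sub_left]
    rw [← hB ((S ^ (N - 1)) x) x, hlast, polar_comm (⇑Q) x (S x), sub_self]
  have hinv : ∀ {Q : QuadraticForm F V}, (∀ x, Q (S x) = Q x) → H54.InvForm.Inv S (D Q) :=
    fun {Q} hi x y => by
      simp only [hD, hUS, polar, ← map_add, hi]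
  have hnd : ∀ {Q : QuadraticForm F V}, Nondeg Q → (D Q).Nondegenerate := fun {Q} hQ => by
    refine ⟨fun x hx => hUinj (by rw [map_zero]; exact hQ _ hx), fun y hy => hQ y fun z => ?_⟩
    obtain ⟨x, rfl⟩ := (LinearMap.injective_iff_surjective.1 hUinj) z
    rw [polar_comm]; exact hy x
  obtain ⟨c, hcS, hc⟩ := H54.InvForm.equivalent (halt hi1) (halt hi2) (hnd h1) (hnd h2) (hinv hi1)
    (hinv hi2) hN hS
  have hcU : ∀ x, c (U x) = U (c x) := fun x => by
    have hp : ∀ i (y : V), c ((S ^ i) y) = (S ^ i) (c y) := by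
      intro i
      induction i with
      | zero => intro y; rfl
      | succ i ih => intro y; rw [pow_succ', Module.End.mul_apply, Module.End.mul_apply, hcS, ih]
    simp only [U, LinearMap.sub_apply, map_sub, hcS, hp]
  have hpol : ∀ x y, polar Q₂ (c x) (c y) = polar Q₁ x y := fun x y => by
    obtain ⟨z, rfl⟩ := (LinearMap.injective_iff_surjective.1 hUinj) x
    rw [hcU]
    exact hc z y
  refine ⟨c, hcS, fun x => ?_⟩
  have hsurj : Function.Surjective (S - 1 : Module.End F V) :=
    LinearMap.injective_iff_surjective.1 ((injective_iff_map_eq_zero _).2 fun y hy =>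
      hfix y (sub_eq_zero.1 hy))
  obtain ⟨z, rfl⟩ := hsurj x
  set δ : V → F := fun y => Q₂ (c y) - Q₁ y
  have hadd : ∀ a b, δ (a + b) = δ a + δ b := fun a b => by
    simp only [δ, map_add, map_add_polar, hpol]; ring
  have hδ : δ (S z) = δ z := by simp only [δ, hcS, hi2, hi1]
  have := hadd ((S - 1 : Module.End F V) z) z
  rw [LinearMap.sub_apply, Module.End.one_apply, sub_add_cancel, hδ] at this
  exact sub_eq_zero.1 (show δ (S z - z) = 0 by linear_combination -this)

variable {Q : QuadraticForm F V}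

/-- Conjugacy in the orthogonal group from linear conjugacy, for odd order prime to `p`. -/
theorem isConj_of_similar (hQ : Nondeg Q) (A B : O Q) {N : ℕ} (hN : (N : F) ≠ 0) (hodd : Odd N)
    (hA : A ^ N = 1) (e : V ≃ₗ[F] V)
    (he : ∀ x, e ((A : V ≃ₗ[F] V) x) = (B : V ≃ₗ[F] V) (e x)) : IsConj A B := by
  set T : Module.End F V := ((A : V ≃ₗ[F] V) : V →ₗ[F] V)
  have hT : T ^ N = 1 := by
    have : ∀ i (x : V), (T ^ i) x = ((A ^ i : O Q) : V ≃ₗ[F] V) x := by
      intro i
      induction i with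
      | zero => intro x; rfl
      | succ i ih =>
        intro x
        rw [pow_succ', pow_succ', Module.End.mul_apply, Subgroup.coe_mul, mul_app, ih]
        rfl
    refine LinearMap.ext fun x => ?_
    rw [this, hA]; rfl
  have hc := H54.InvForm.isCompl_ker_range hN T hT 1
  rw [map_one] at hc
  set K := LinearMap.ker (T - 1)
  set R := LinearMap.range (T - 1)
  have hTR : ∀ x ∈ R, T x ∈ R := by
    rintro _ ⟨z, rfl⟩
    exact ⟨T z, by simp [map_sub]⟩
  let S : Module.End F R := T.restrict hTR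
  have hS : S ^ N = 1 := by
    refine LinearMap.ext fun x => Subtype.ext ?_
    rw [Module.End.pow_restrict N hTR, LinearMap.restrict_coe_apply, hT]; rfl
  have hfix : ∀ x : R, S x = x → x = 0 := fun x hx => Subtype.ext
    (Submodule.disjoint_def.1 hc.disjoint (x : V) (by
      rw [LinearMap.mem_ker, LinearMap.sub_apply, Module.End.one_apply, sub_eq_zero]
      exact congrArg Subtype.val hx) x.2)
  have hKperp : ∀ k ∈ K, ∀ r ∈ R, polar Q k r = 0 := by
    rintro k hk _ ⟨z, rfl⟩
    rw [LinearMap.mem_ker, LinearMap.sub_apply, Module.End.one_apply, sub_eq_zero] at hk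
    rw [LinearMap.sub_apply, Module.End.one_apply, polar_sub_right]
    nth_rw 1 [← hk]
    rw [sub_eq_zero]
    exact O.polar_app A k z
  set Q' : QuadraticForm F V := Q.comp (e : V →ₗ[F] V)
  have hQ' : Nondeg Q' := fun x hx => e.map_eq_zero_iff.1 (hQ _ fun y => by
    have := hx (e.symm y)
    simpa [Q', polar] using this)
  have hK' : ∀ k ∈ K, ∀ r ∈ R, polar Q' k r = 0 := by
    rintro k hk _ ⟨z, rfl⟩
    rw [LinearMap.mem_ker, LinearMap.sub_apply, Module.End.one_apply, sub_eq_zero] at hk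
    rw [LinearMap.sub_apply, Module.End.one_apply, polar_sub_right]
    nth_rw 1 [← hk]
    rw [sub_eq_zero]
    have h' := O.polar_app B (e k) (e z)
    simp only [Q', polar, QuadraticMap.comp_apply, LinearEquiv.coe_coe, T, map_add] at h' ⊢
    simpa [he] using h'
  have hnd : ∀ {P : QuadraticForm F V}, Nondeg P → (∀ k ∈ K, ∀ r ∈ R, polar P k r = 0) →
      Nondeg (restr P R) := fun {P} hP hperp x hx => Subtype.ext (hP _ fun y => by
    obtain ⟨k, hk, r, hr, rfl⟩ := Submodule.mem_sup.1 (hc.sup_eq_top ▸ Submodule.mem_top : y ∈ K ⊔ R)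
    rw [polar_add_right, polar_comm (⇑P) (x : V) k, hperp k hk _ x.2, zero_add]
    have := hx ⟨r, hr⟩
    rwa [polar_restr] at this)
  obtain ⟨c, hcS, hc'⟩ := exists_commuting_isometry hN hodd hS hfix (hnd hQ hKperp)
    (hnd hQ' hK') (fun x => O.map_app A (x : V)) (fun x => by
      change Q (e ((A : V ≃ₗ[F] V) x)) = Q (e (x : V))
      rw [he, O.map_app])
  set φ : R →ₗ[F] V := (e : V →ₗ[F] V).comp (R.subtype.comp (c : R →ₗ[F] R))
  obtain ⟨h, hh⟩ := witt hQ R φ (e.injective.comp (R.injective_subtype.comp c.injective))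
    (fun x => hc' x)
  refine isConj_iff.2 ⟨h, mul_inv_eq_iff_eq_mul.2 (O.ext_app fun x => ?_)⟩
  rw [Subgroup.coe_mul, mul_app, Subgroup.coe_mul, mul_app]
  obtain ⟨k, hk, r, hr, rfl⟩ := Submodule.mem_sup.1 (hc.sup_eq_top ▸ Submodule.mem_top : x ∈ K ⊔ R)
  have hR : (h : V ≃ₗ[F] V) ((A : V ≃ₗ[F] V) r) = (B : V ≃ₗ[F] V) ((h : V ≃ₗ[F] V) r) := by
    have h3 := hh (S ⟨r, hr⟩)
    have h4 := hh ⟨r, hr⟩
    simp only [φ, LinearMap.comp_apply, LinearEquiv.coe_coe, hcS] at h3 h4
    rw [show (A : V ≃ₗ[F] V) r = ((S ⟨r, hr⟩ : R) : V) from rfl, h3, h4]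
    exact he _
  have hK : (B : V ≃ₗ[F] V) ((h : V ≃ₗ[F] V) k) = (h : V ≃ₗ[F] V) k := by
    have key : ∀ z, polar Q ((h : V ≃ₗ[F] V) k) ((B : V ≃ₗ[F] V) z - z) = 0 := by
      intro z
      have hz : (T - 1) (e.symm z) ∈ R := ⟨_, rfl⟩
      obtain ⟨r', hr'⟩ := c.surjective ⟨_, hz⟩
      have h3 : (h : V ≃ₗ[F] V) (r' : V) = (B : V ≃ₗ[F] V) z - z := by
        rw [hh r']
        change e ((c r' : R) : V) = _
        rw [hr']
        change e ((A : V ≃ₗ[F] V) (e.symm z) - e.symm z) = _
        rw [map_sub, he, e.apply_symm_apply]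
      rw [← h3, O.polar_app]
      exact hKperp k hk _ r'.2
    refine sub_eq_zero.1 (hQ _ fun w => ?_)
    rw [polar_sub_left]
    obtain ⟨z, rfl⟩ := (B : V ≃ₗ[F] V).surjective w
    rw [O.polar_app, ← polar_sub_right, ← neg_sub ((B : V ≃ₗ[F] V) z), polar_neg_right, key,
      neg_zero]
  have hAk : (A : V ≃ₗ[F] V) k = k := by
    rw [LinearMap.mem_ker, LinearMap.sub_apply, Module.End.one_apply, sub_eq_zero] at hk
    exact hk
  simp only [map_add, hAk, hK, hR]

end Cfsg.Agent.Orthogonal
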