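import Cfsg.Agent.Orthogonal.Witt

/-!
Maximal totally singular subspaces of a hyperbolic space: there are exactly two through each
totally singular hyperplane of one of them, and they fall into two families.
-/

set_option autoImplicit false

namespace Cfsg.Agent.Orthogonal

open QuadraticMap Module

variable {F V : Type*} [Field F] [AddCommGroup V] [Module F V]
variable {Q : QuadraticForm F V}

theorem TotSing.sup_span {U : Submodule F V} (hU : TotSing Q U) {z : V}
    (hz : z ∈ perp Q U) (hQz : Q z = 0) : TotSing Q (U ⊔ Submodule.span F {z}) := by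
  intro w hw
  obtain ⟨u, hu, v, hv, rfl⟩ := Submodule.mem_sup.1 hw
  obtain ⟨a, rfl⟩ := Submodule.mem_span_singleton.1 hv
  rw [map_add_polar, hU u hu, qmap_smul, hQz, polar_smul_right', hz u hu]; ring

theorem TotSing.mono {U W : Submodule F V} (hW : TotSing Q W) (h : U ≤ W) : TotSing Q U :=
  fun u hu => hW u (h hu)

variable [FiniteDimensional F V]

omit [Module F V] [FiniteDimensional F V] in
theorem finrank_sup_span {F V : Type*} [Field F] [AddCommGroup V] [Module F V]
    [FiniteDimensional F V] {U : Submodule F V} {z : V} (hz : z ∉ U) :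
    finrank F (U ⊔ Submodule.span F {z} : Submodule F V) = finrank F U + 1 := by
  have hlt : U < U ⊔ Submodule.span F {z} :=
    lt_of_le_of_ne le_sup_left fun h => hz (h ▸ Submodule.mem_sup_right (Submodule.mem_span_singleton_self z))
  have h1 := Submodule.finrank_lt_finrank_of_lt hlt
  have h2 := Submodule.finrank_add_le_finrank_add_finrank U (Submodule.span F {z})
  have h3 : finrank F (Submodule.span F {z}) ≤ 1 := by
    refine (finrank_span_le_card ({z} : Set V)).trans ?_
    simp
  omega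

variable {m : ℕ}

theorem TotSing.perp_eq_self (hQ : Nondeg Q) (hV : finrank F V = 2 * m) {W : Submodule F V}
    (hW : TotSing Q W) (hr : finrank F W = m) : perp Q W = W := by
  have := hQ.finrank_add_perp W
  exact (Submodule.eq_of_le_of_finrank_eq hW.le_perp (by omega)).symm

theorem TotSing.exists_max_ge (hQ : Nondeg Q) {U W₀ : Submodule F V} (hU : TotSing Q U)
    (hW₀ : TotSing Q W₀) (hle : finrank F U ≤ finrank F W₀) :
    ∃ W, U ≤ W ∧ TotSing Q W ∧ finrank F W = finrank F W₀ := by
  obtain ⟨g, hg⟩ := hU.exists_map_le hQ hW₀ hle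
  refine ⟨W₀.map (((g⁻¹ : O Q) : V ≃ₗ[F] V) : V →ₗ[F] V), fun x hx => ?_, hW₀.map g⁻¹,
    LinearEquiv.finrank_map_eq _ _⟩
  refine ⟨(g : V ≃ₗ[F] V) x, hg ⟨x, hx, rfl⟩, ?_⟩
  rw [LinearEquiv.coe_coe, ← mul_app, ← Subgroup.coe_mul, inv_mul_cancel]; rfl

/-- A second maximal subspace through a hyperplane of a given one; there is no third. -/
theorem exists_second (hQ : Nondeg Q) (hV : finrank F V = 2 * m) {U W₁ : Submodule F V}
    (hU : finrank F U + 1 = m) (hW₁ : TotSing Q W₁) (hr : finrank F W₁ = m) (hle : U ≤ W₁) :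
    ∃ W₂, TotSing Q W₂ ∧ finrank F W₂ = m ∧ U ≤ W₂ ∧ W₂ ≠ W₁ ∧
      (∀ z ∈ perp Q U, Q z = 0 → z ∈ W₁ ∨ z ∈ W₂) := by
  have hUts := hW₁.mono hle
  have hperp := hW₁.perp_eq_self hQ hV hr
  obtain ⟨x, hx, hxU⟩ : ∃ x ∈ W₁, x ∉ U := SetLike.not_le_iff_exists.1 fun h => by
    have := Submodule.finrank_mono h; omega
  have hW₁' : U ⊔ Submodule.span F {x} = W₁ := Submodule.eq_of_le_of_finrank_eq
    (sup_le hle ((Submodule.span_singleton_le_iff_mem _ _).2 hx))
    (by rw [finrank_sup_span hxU]; omega)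
  obtain ⟨l, hlU, hlx⟩ : ∃ l : V →ₗ[F] F, (∀ u ∈ U, l u = 0) ∧ l x = 1 := by
    obtain ⟨l, hl1, hl2⟩ := Submodule.exists_dual_map_eq_bot_of_notMem hxU inferInstance
    refine ⟨(l x)⁻¹ • l, fun u hu => ?_, by simp [inv_mul_cancel₀ hl1]⟩
    have : l u ∈ U.map l := ⟨u, hu, rfl⟩
    rw [hl2, Submodule.mem_bot] at this
    simp [this]
  obtain ⟨y₀, hy₀⟩ := hQ.exists_repr l
  set y := y₀ - Q y₀ • x with hy
  have hQx : Q x = 0 := hW₁ x hx
  have hxy₀ : polar Q x y₀ = 1 := by rw [polar_comm, hy₀, hlx]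
  have hQy : Q y = 0 := by
    rw [hy, qmap_sub, qmap_smul, hQx, polar_smul_right', polar_comm, hxy₀]; ring
  have hxy : polar Q x y = 1 := by
    rw [hy, polar_sub_right, hxy₀, polar_smul_right', polar_self', hQx]; ring
  have hyU : y ∈ perp Q U := fun u hu => by
    rw [hy, polar_sub_right, polar_comm (⇑Q) u y₀, hy₀, hlU u hu, polar_smul_right',
      hW₁.polar_eq (hle hu) hx]
    ring
  have hyW : y ∉ W₁ := fun h => one_ne_zero (hxy.symm.trans (hW₁.polar_eq hx h))
  have hyU' : y ∉ U := fun h => hyW (hle h)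
  refine ⟨U ⊔ Submodule.span F {y}, hUts.sup_span hyU hQy, by rw [finrank_sup_span hyU']; omega,
    le_sup_left,
    fun h => hyW (h ▸ Submodule.mem_sup_right (Submodule.mem_span_singleton_self y)),
    fun z hz hQz => ?_⟩
  set b := polar Q x z
  have hw : z - b • y ∈ perp Q W₁ := by
    intro w hw
    rw [← hW₁'] at hw
    obtain ⟨u, hu, v, hv, rfl⟩ := Submodule.mem_sup.1 hw
    obtain ⟨a, rfl⟩ := Submodule.mem_span_singleton.1 hv
    simp only [polar_add_left, polar_smul_left', polar_sub_right, polar_smul_right', hxy, hz u hu,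
      hyU u hu, b]
    ring
  rw [hperp, ← hW₁'] at hw
  obtain ⟨u, hu, v, hv, he⟩ := Submodule.mem_sup.1 hw
  obtain ⟨a, rfl⟩ := Submodule.mem_span_singleton.1 hv
  have hz' : z = u + a • x + b • y := by rw [he]; abel
  have hab : a * b = 0 := by
    have := hQz
    rw [hz'] at this
    simp only [map_add_polar, qmap_smul, polar_add_left, polar_smul_left', polar_smul_right',
      hUts u hu, hQx, hQy, hxy, hW₁.polar_eq (hle hu) hx, hyU u hu] at this
    linear_combination this
  rcases mul_eq_zero.1 hab with h | h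
  · refine Or.inr ?_
    rw [hz', h, zero_smul, add_zero]
    exact Submodule.add_mem_sup hu (Submodule.smul_mem _ _ (Submodule.mem_span_singleton_self y))
  · refine Or.inl ?_
    rw [hz', h, zero_smul, add_zero]
    exact W₁.add_mem (hle hu) (W₁.smul_mem a hx)

/-- Exactly two maximal totally singular subspaces contain a given hyperplane of one of them. -/
theorem card_max_above (hQ : Nondeg Q) (hV : finrank F V = 2 * m) {U W₀ : Submodule F V}
    (hU : finrank F U + 1 = m) (hUts : TotSing Q U) (hW₀ : TotSing Q W₀) (hr : finrank F W₀ = m) :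
    Nat.card {W : Submodule F V // finrank F W = m ∧ TotSing Q W ∧ U ≤ W} = 2 := by
  obtain ⟨W₁, hle, hW₁, hr₁⟩ := hUts.exists_max_ge hQ hW₀ (by omega)
  rw [hr] at hr₁
  obtain ⟨W₂, hW₂, hr₂, hle₂, hne, hcov⟩ := exists_second hQ hV hU hW₁ hr₁ hle
  refine (Nat.card_eq_two_iff' (⟨W₁, hr₁, hW₁, hle⟩ :
    {W : Submodule F V // finrank F W = m ∧ TotSing Q W ∧ U ≤ W})).2
    ⟨⟨W₂, hr₂, hW₂, hle₂⟩, fun h => hne (congrArg Subtype.val h), ?_⟩
  rintro ⟨W, hWr, hW, hUW⟩ hW1
  obtain ⟨z, hz, hzU⟩ : ∃ z ∈ W, z ∉ U := SetLike.not_le_iff_exists.1 fun h => by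
    have := Submodule.finrank_mono h; omega
  have hgen : ∀ {W' : Submodule F V}, U ≤ W' → finrank F W' = m → z ∈ W' → W' = W := by
    intro W' h1 h2 h3
    have e : ∀ {X : Submodule F V}, U ≤ X → finrank F X = m → z ∈ X →
        U ⊔ Submodule.span F {z} = X := fun g1 g2 g3 => Submodule.eq_of_le_of_finrank_eq
      (sup_le g1 ((Submodule.span_singleton_le_iff_mem _ _).2 g3))
      (by rw [finrank_sup_span hzU]; omega)
    exact (e h1 h2 h3).symm.trans (e hUW hWr hz)
  rcases hcov z (fun u hu => hW.polar_eq (hUW hu) hz) (hW z hz) with h | h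
  · exact absurd (Subtype.ext (hgen hle hr₁ h).symm) hW1
  · exact Subtype.ext (hgen hle₂ hr₂ h).symm

/-- Adjacent maximal subspaces meet any third one in dimensions differing by one. -/
theorem finrank_inf_adjacent (hQ : Nondeg Q) (hV : finrank F V = 2 * m) {U W X : Submodule F V}
    (hU : TotSing Q U) (hW : TotSing Q W) (hX : TotSing Q X) (rU : finrank F U = m)
    (rW : finrank F W = m) (rX : finrank F X = m)
    (hadj : finrank F (U ⊓ W : Submodule F V) + 1 = m) :
    finrank F (U ⊓ X : Submodule F V) = finrank F (W ⊓ X : Submodule F V) + 1 ∨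
      finrank F (W ⊓ X : Submodule F V) = finrank F (U ⊓ X : Submodule F V) + 1 := by
  set H := U ⊓ W with hH
  have hsplit : ∀ {A : Submodule F V}, H ≤ A → finrank F A = m →
      finrank F (A ⊓ X : Submodule F V) = finrank F (H ⊓ X : Submodule F V) ∨
      (finrank F (A ⊓ X : Submodule F V) = finrank F (H ⊓ X : Submodule F V) + 1 ∧
        ∃ x ∈ X, x ∈ A ∧ x ∉ H) := by
    intro A hA rA
    by_cases h : A ⊓ X ≤ H
    · exact Or.inl (congrArg (fun S : Submodule F V => finrank F S)
        (le_antisymm (le_inf h inf_le_right) (le_inf (inf_le_left.trans hA) inf_le_right)))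
    obtain ⟨x, hx, hxH⟩ := SetLike.not_le_iff_exists.1 h
    refine Or.inr ⟨?_, x, hx.2, hx.1, hxH⟩
    have h1 := Submodule.finrank_sup_add_finrank_inf_eq H (A ⊓ X)
    rw [show H ⊓ (A ⊓ X) = H ⊓ X by rw [← inf_assoc, inf_eq_left.2 hA]] at h1
    have h2 : H ⊔ A ⊓ X = A := Submodule.eq_of_le_of_finrank_le (sup_le hA inf_le_left) (by
      have := Submodule.finrank_mono (show H ⊔ Submodule.span F {x} ≤ H ⊔ A ⊓ X from
        sup_le_sup_left ((Submodule.span_singleton_le_iff_mem _ _).2 hx) _)
      rw [finrank_sup_span hxH] at this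
      omega)
    rw [h2] at h1; omega
  rcases hsplit (A := U) inf_le_left rU with hu | ⟨hu, x, hxX, hxU, hxH⟩ <;>
    rcases hsplit (A := W) inf_le_right rW with hw | ⟨hw, y, hyX, hyW, hyH⟩
  · exfalso
    obtain ⟨W₂, -, r₂, hle₂, -, hcov⟩ := exists_second hQ hV hadj hU rU (inf_le_left : H ≤ U)
    have hd := hQ.finrank_add_perp (X ⊔ H)
    rw [perp_sup, hX.perp_eq_self hQ hV rX] at hd
    have h1 := Submodule.finrank_sup_add_finrank_inf_eq X H
    rw [inf_comm X H] at h1
    obtain ⟨z, hz, hzH⟩ : ∃ z ∈ X ⊓ perp Q H, z ∉ H := SetLike.not_le_iff_exists.1 fun h => by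
      have := Submodule.finrank_mono (le_inf h (inf_le_left : X ⊓ perp Q H ≤ X))
      omega
    have hWeq : W ≠ U := fun h => by
      subst h; rw [hH, inf_idem] at hadj; omega
    obtain ⟨w, hw', hwH⟩ : ∃ w ∈ W, w ∉ H := SetLike.not_le_iff_exists.1 fun h => by
      have := Submodule.finrank_mono h; omega
    have hW₂ : W = W₂ := by
      have hwW₂ : w ∈ W₂ := (hcov w (fun u hu' => hW.polar_eq hu'.2 hw') (hW w hw')).resolve_left
        fun h => hwH ⟨h, hw'⟩
      have e : ∀ {A : Submodule F V}, H ≤ A → finrank F A = m → w ∈ A →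
          H ⊔ Submodule.span F {w} = A := fun g1 g2 g3 => Submodule.eq_of_le_of_finrank_eq
        (sup_le g1 ((Submodule.span_singleton_le_iff_mem _ _).2 g3))
        (by rw [finrank_sup_span hwH]; omega)
      exact (e inf_le_right rW hw').symm.trans (e hle₂ r₂ hwW₂)
    have hbad : ∀ {A : Submodule F V}, H ≤ A →
        finrank F (A ⊓ X : Submodule F V) = finrank F (H ⊓ X : Submodule F V) → z ∉ A := by
      intro A hA hr hzA
      have := Submodule.eq_of_le_of_finrank_eq (inf_le_inf_right X hA) hr.symm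
      exact hzH ((this.symm ▸ (⟨hzA, hz.1⟩ : z ∈ A ⊓ X) : z ∈ H ⊓ X)).1
    rcases hcov z hz.2 (hX z hz.1) with h | h
    · exact hbad inf_le_left hu h
    · exact hbad (A := W) inf_le_right hw (hW₂.symm ▸ h)
  · right; omega
  · left; omega
  · exfalso
    have hW' : H ⊔ Submodule.span F {y} = W := Submodule.eq_of_le_of_finrank_eq
      (sup_le inf_le_right ((Submodule.span_singleton_le_iff_mem _ _).2 hyW))
      (by rw [finrank_sup_span hyH]; omega)
    refine hxH ⟨hxU, ?_⟩
    have hp : x ∈ perp Q W := by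
      rw [← hW', perp_sup]
      exact ⟨fun u hu => hU.polar_eq hu.1 hxU,
        (mem_perp_span_singleton (Q := Q)).2 (hX.polar_eq hyX hxX)⟩
    rwa [hW.perp_eq_self hQ hV rW] at hp

/-- The two families: the sum of the three mutual codimensions is even. -/
theorem even_codim_sum (hQ : Nondeg Q) (hV : finrank F V = 2 * m) {U W X : Submodule F V}
    (hU : TotSing Q U) (hW : TotSing Q W) (hX : TotSing Q X) (rU : finrank F U = m)
    (rW : finrank F W = m) (rX : finrank F X = m) :
    Even ((m - finrank F ↥(U ⊓ W)) + (m - finrank F ↥(W ⊓ X)) + (m - finrank F ↥(U ⊓ X))) := by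
  generalize hd : m - finrank F ↥(U ⊓ W) = d
  induction d generalizing U with
  | zero =>
    have hle := Submodule.finrank_mono (inf_le_left : U ⊓ W ≤ U)
    have h1 : U ⊓ W = U := Submodule.eq_of_le_of_finrank_eq inf_le_left (by omega)
    have h2 : U = W := Submodule.eq_of_le_of_finrank_eq (h1 ▸ inf_le_right) (by omega)
    subst h2
    exact ⟨_, by rw [zero_add]⟩
  | succ d ih =>
    obtain ⟨y, hy, hyU⟩ : ∃ y ∈ W, y ∉ U := SetLike.not_le_iff_exists.1 fun h => by
      rw [inf_eq_right.2 h] at hd; omega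
    set H := U ⊓ perp Q (Submodule.span F {y}) with hH
    have hy0 : y ≠ 0 := fun h => hyU (h ▸ U.zero_mem)
    have hHr : finrank F H + 1 = m := by
      have hne : ¬ U ≤ perp Q (Submodule.span F {y}) := fun h => hyU (by
        rw [← hU.perp_eq_self hQ hV rU]
        exact fun u hu => by rw [polar_comm]; exact (mem_perp_span_singleton (Q := Q)).1 (h hu))
      have h1 := Submodule.finrank_sup_add_finrank_inf_eq U (perp Q (Submodule.span F {y}))
      have h2 := hQ.finrank_perp_singleton hy0
      have h3 := Submodule.finrank_le (U ⊔ perp Q (Submodule.span F {y}))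
      have hlt : H < U := lt_of_le_of_ne inf_le_left fun h => hne (h ▸ inf_le_right)
      have h4 : finrank F H < finrank F U := Submodule.finrank_lt_finrank_of_lt hlt
      have h1' : finrank F ↥(U ⊔ perp Q (Submodule.span F {y})) + finrank F H =
          finrank F U + finrank F (perp Q (Submodule.span F {y})) := h1
      omega
    set U' := H ⊔ Submodule.span F {y} with hU'
    have hU's : TotSing Q U' := (hU.mono inf_le_left).sup_span (fun u hu => by
      rw [polar_comm]; exact (mem_perp_span_singleton (Q := Q)).1 hu.2) (hW y hy)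
    have rU' : finrank F U' = m := by
      rw [hU', finrank_sup_span fun h : y ∈ H => hyU (Submodule.mem_inf.1 h).1]; omega
    have hyU' : y ∈ U' := Submodule.mem_sup_right (Submodule.mem_span_singleton_self y)
    have hadj : finrank F (U ⊓ U' : Submodule F V) + 1 = m := by
      have h1 : finrank F H ≤ finrank F ↥(U ⊓ U') :=
        Submodule.finrank_mono (le_inf (inf_le_left : H ≤ U) (le_sup_left : H ≤ U'))
      have h2 : finrank F ↥(U ⊓ U') < finrank F U' := Submodule.finrank_lt_finrank_of_lt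
        (lt_of_le_of_ne (inf_le_right : U ⊓ U' ≤ U') fun h => hyU (h.symm ▸ hyU' : y ∈ U ⊓ U').1)
      omega
    have hk : finrank F ↥(U' ⊓ W) = finrank F ↥(U ⊓ W) + 1 := by
      have hle : U ⊓ W ≤ U' ⊓ W := fun x hx =>
        ⟨Submodule.mem_sup_left ⟨hx.1, (mem_perp_span_singleton (Q := Q)).2 (hW.polar_eq hy hx.2)⟩,
          hx.2⟩
      have h1 := Submodule.finrank_lt_finrank_of_lt (lt_of_le_of_ne hle fun h =>
        hyU (h.symm ▸ (⟨hyU', hy⟩ : y ∈ U' ⊓ W) : y ∈ U ⊓ W).1)
      rcases finrank_inf_adjacent hQ hV hU hU's hW rU rU' rW hadj with h | h <;> omega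
    have := ih hU's rU' (by omega)
    have hUX := Submodule.finrank_mono (inf_le_left : U ⊓ X ≤ U)
    have hUX' := Submodule.finrank_mono (inf_le_left : U' ⊓ X ≤ U')
    rw [Nat.even_iff] at this ⊢
    rcases finrank_inf_adjacent hQ hV hU hU's hX rU rU' rX hadj with h | h <;> omega

end Cfsg.Agent.Orthogonal
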