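import Cfsg.Agent.Orthogonal.Count
import Cfsg.Agent.Orthogonal.Plane
import Cfsg.Agent.Orthogonal.Generation

/-!
A parity of sphere sections used to define the spinor norm over a finite field of odd order: there
are two vectors, of square and non-square norm, whose orthogonal hyperplanes meet the unit sphere in
numbers of points differing by `2` modulo `4`.
-/

set_option autoImplicit false

namespace Cfsg.Agent.Orthogonal

open QuadraticMap Module IsFrame

variable {F V : Type*} [Field F] [AddCommGroup V] [Module F V] [FiniteDimensional F V]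
variable {Q : QuadraticForm F V} [Finite F]

theorem odd_natCard_of_two_ne_zero (h2 : (2 : F) ≠ 0) : Odd (Nat.card F) := by
  have := Fintype.ofFinite F
  rw [Nat.card_eq_fintype_card, Nat.odd_iff]
  exact FiniteField.odd_card_of_char_ne_two fun h => h2 (by
    have := ringChar.of_eq h; exact CharTwo.two_eq_zero)

theorem exists_not_isSquare (h2 : (2 : F) ≠ 0) : ∃ a : F, ¬ IsSquare a :=
  FiniteField.exists_nonsquare fun h => h2 (by
    have := ringChar.of_eq h; exact CharTwo.two_eq_zero)

/-- The count of vectors of a given norm in a subspace containing a frame. -/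
theorem sphereCard_frame_in {K : Submodule F V} {k : ℕ} {e f : Fin k → V} (h : IsFrame Q e f)
    (hK : ∀ i, e i ∈ K ∧ f i ∈ K) (c : F) :
    Nat.card F * sphereCard Q K c + Nat.card F ^ k * Nat.card (K ⊓ kernel Q e f : Submodule F V) =
        Nat.card K + Nat.card F ^ (k + 1) * sphereCard Q (K ⊓ kernel Q e f) c ∧
      Nat.card K = Nat.card F ^ (2 * k) * Nat.card (K ⊓ kernel Q e f : Submodule F V) := by
  induction k with
  | zero =>
    have hk : K ⊓ kernel Q e f = K := by
      refine inf_eq_left.2 fun x _ => mem_kernel.2 ⟨fun i => i.elim0, fun i => i.elim0⟩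
    rw [hk]
    exact ⟨by ring, by ring⟩
  | succ k ih =>
    obtain ⟨ih1, ih2⟩ := ih h.tail (fun i => hK i.succ)
    set L := K ⊓ kernel Q (Fin.tail e) (Fin.tail f) with hL
    have hu : e 0 ∈ L :=
      ⟨(hK 0).1, mem_kernel.2 ⟨fun i => h.ee _ _, fun i => by simp [Fin.tail, h.fe, Fin.succ_ne_zero]⟩⟩
    have hv : f 0 ∈ L :=
      ⟨(hK 0).2, mem_kernel.2 ⟨fun i => by simp [Fin.tail, h.ef, Fin.succ_ne_zero], fun i => h.ff _ _⟩⟩
    have huv : polar Q (e 0) (f 0) = 1 := by simp [h.ef]
    have hstep := sphereCard_step hu hv (h.qe 0) (h.qf 0) huv c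
    have heq : K ⊓ kernel Q e f = L ⊓ perp Q (Submodule.span F {e 0, f 0}) := by
      rw [kernel_succ e f, hL, inf_assoc]
    have hcard : Nat.card L = Nat.card F ^ 2 * Nat.card (K ⊓ kernel Q e f : Submodule F V) := by
      rw [heq, Nat.card_congr (splitPair hu hv (h.qe 0) (h.qf 0) huv), Nat.card_prod,
        Nat.card_prod, pow_two]
    rw [← heq] at hstep
    rw [hcard] at ih1 ih2
    set q := Nat.card F
    set C := Nat.card (K ⊓ kernel Q e f : Submodule F V)
    set S := sphereCard Q L c
    set S' := sphereCard Q (K ⊓ kernel Q e f) c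
    refine ⟨?_, ?_⟩
    · have h2 : q ^ (k + 1) * (S + C) = q ^ (k + 1) * (q * C + q * S') := by rw [hstep]
      linarith [show q ^ k * (q ^ 2 * C) = q ^ (k + 2) * C by ring,
        show q ^ (k + 1) * (q * C + q * S') = q ^ (k + 2) * C + q ^ (k + 2) * S' by ring,
        show q ^ (k + 1) * (S + C) = q ^ (k + 1) * S + q ^ (k + 1) * C by ring]
    · rw [ih2]; ring

omit [Finite F] [FiniteDimensional F V] in
/-- A frame can be truncated. -/
theorem IsFrame.take {k j : ℕ} {e f : Fin k → V} (h : IsFrame Q e f) (hj : j ≤ k) :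
    IsFrame Q (e ∘ Fin.castLE hj) (f ∘ Fin.castLE hj) :=
  ⟨fun _ => h.qe _, fun _ => h.qf _, fun i i' => by simp [h.ef],
    fun _ _ => h.ee _ _, fun _ _ => h.ff _ _⟩

omit [Finite F] [FiniteDimensional F V] in
/-- In a one-dimensional space the sphere of radius `1` has two points or none. -/
theorem sphereCard_line (h2 : (2 : F) ≠ 0) {x : V} {a : F} (hx : x ≠ 0) (hQx : Q x = a) :
    (IsSquare a → a ≠ 0 → sphereCard Q (Submodule.span F {x}) 1 = 2) ∧
      (¬ IsSquare a → sphereCard Q (Submodule.span F {x}) 1 = 0) := by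
  constructor
  · rintro ⟨r, hr⟩ ha
    have hr0 : r ≠ 0 := fun h => ha (by rw [hr, h, mul_zero])
    have hmem : ∀ s : F, s • x ∈ Submodule.span F {x} :=
      fun s => Submodule.smul_mem _ _ (Submodule.mem_span_singleton_self x)
    rw [sphereCard, Nat.card_eq_two_iff]
    refine ⟨⟨⟨r⁻¹ • x, hmem _⟩, ?_⟩, ⟨⟨(-r⁻¹) • x, hmem _⟩, ?_⟩, ?_, ?_⟩
    · change Q (r⁻¹ • x) = 1
      rw [qmap_smul, hQx, hr]; field_simp
    · change Q ((-r⁻¹) • x) = 1
      rw [qmap_smul, hQx, hr]; field_simp
    · intro h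
      have h' := smul_left_injective F hx (congrArg (fun z => ((z.1 : Submodule.span F {x}) : V)) h)
      exact h2 ((mul_eq_zero.1 (show (2 : F) * r⁻¹ = 0 by linear_combination h')).resolve_right
        (inv_ne_zero hr0))
    · refine Set.eq_univ_of_forall ?_
      rintro ⟨⟨y, hy⟩, hQy⟩
      obtain ⟨s, rfl⟩ := Submodule.mem_span_singleton.1 hy
      change Q (s • x) = 1 at hQy
      rw [qmap_smul, hQx, hr] at hQy
      have : (s * r - 1) * (s * r + 1) = 0 := by linear_combination hQy
      rcases mul_eq_zero.1 this with h | h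
      · left; apply Subtype.ext; apply Subtype.ext
        change s • x = r⁻¹ • x
        rw [show s = r⁻¹ from eq_inv_of_mul_eq_one_left (sub_eq_zero.1 h)]
      · right
        apply Subtype.ext; apply Subtype.ext
        change s • x = (-r⁻¹) • x
        rw [show s = -r⁻¹ by field_simp; linear_combination h]
  · intro ha
    rw [sphereCard, Nat.card_eq_zero]
    refine Or.inl ⟨fun z => ?_⟩
    obtain ⟨⟨y, hy⟩, hQy⟩ := z
    obtain ⟨s, rfl⟩ := Submodule.mem_span_singleton.1 hy
    change Q (s • x) = 1 at hQy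
    rw [qmap_smul, hQx] at hQy
    have hs : s ≠ 0 := fun h => by simp [h] at hQy
    exact ha ⟨s⁻¹, by field_simp; linear_combination hQy⟩

/-- The base case: a non-degenerate plane. -/
theorem parity_plane (h2 : (2 : F) ≠ 0) {W : Submodule F V} (hW : Nondeg (restr Q W))
    (hd : finrank F W = 2) :
    ∃ u ∈ W, ∃ u' ∈ W, IsSquare (Q u) ∧ Q u ≠ 0 ∧ ¬ IsSquare (Q u') ∧
      (sphereCard Q (W ⊓ perp Q (Submodule.span F {u})) 1 + 2) % 4 =
        sphereCard Q (W ⊓ perp Q (Submodule.span F {u'})) 1 % 4 := by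
  obtain ⟨u, hu⟩ := hW.exists_value (le_of_eq hd.symm) 1
  rw [restr_apply] at hu
  have hu0 : u ≠ 0 := fun h => by simp [h] at hu
  obtain ⟨w, hw0, huw⟩ := hW.exists_perp_vec hd hu0
  rw [polar_restr] at huw
  set a := Q (w : V) with ha
  have hline : ∀ {x y : W}, x ≠ 0 → y ≠ 0 → polar Q (x : V) y = 0 →
      W ⊓ perp Q (Submodule.span F {(x : V)}) = Submodule.span F {(y : V)} := by
    intro x y hx hy hxy
    refine le_antisymm (fun z hz => ?_) ?_
    · have : (⟨z, hz.1⟩ : W) ∈ perp (restr Q W) (Submodule.span F {x}) := by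
        rw [mem_perp_span_singleton, polar_restr]
        exact (mem_perp_span_singleton Q).1 hz.2
      rw [hW.perp_line hd hx hy (by rw [polar_restr]; exact hxy)] at this
      obtain ⟨s, hs⟩ := Submodule.mem_span_singleton.1 this
      exact Submodule.mem_span_singleton.2 ⟨s, congrArg Subtype.val hs⟩
    · rw [Submodule.span_le, Set.singleton_subset_iff]
      exact ⟨y.2, (mem_perp_span_singleton Q).2 hxy⟩
  have hw' : (w : V) ≠ 0 := fun h => hw0 (Subtype.ext h)
  have ha0 : a ≠ 0 := by
    intro h0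
    refine hw0 (hW w fun z => ?_)
    have hli : LinearIndependent F ![u, w] := by
      rw [LinearIndependent.pair_iff]
      intro s t hst
      have h := congrArg (fun z : W => polar Q (u : V) z) hst
      simp only [Submodule.coe_add, Submodule.coe_smul, polar_add_right, polar_smul_right',
        polar_self', hu, huw, Submodule.coe_zero, polar_zero_right, mul_zero, add_zero, mul_one,
        mul_eq_zero, h2, or_false] at h
      subst h
      rw [zero_smul, zero_add, smul_eq_zero] at hst
      exact ⟨rfl, hst.resolve_right hw0⟩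
    have hz : z ∈ Submodule.span F (Set.range ![u, w]) := by
      rw [hli.span_eq_top_of_card_eq_finrank (by simpa using hd.symm)]; trivial
    obtain ⟨g, rfl⟩ := (Submodule.mem_span_range_iff_exists_fun F).1 hz
    rw [polar_restr]
    simp [Fin.sum_univ_two, polar_add_right, polar_smul_right', polar_self', polar_comm (⇑Q) (w : V) u,
      huw, ← ha, h0]
  by_cases hsq : IsSquare a
  · obtain ⟨r, hr⟩ := hsq
    have hr0 : r ≠ 0 := fun h => ha0 (by rw [hr, h, mul_zero])
    obtain ⟨ν, hν⟩ := exists_not_isSquare h2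
    obtain ⟨s, t, hst⟩ := exists_sq_add_sq (one_ne_zero (α := F)) one_ne_zero ν
    set x : W := s • u + (t / r) • w with hx
    set y : W := (-t) • u + (s / r) • w with hy
    have hQx : Q (x : V) = ν := by
      simp only [hx, Submodule.coe_add, Submodule.coe_smul, map_add_polar, qmap_smul, hu,
        polar_smul_left', polar_smul_right', huw, ← ha, hr]
      field_simp
      linear_combination r * hst
    have hQy : Q (y : V) = ν := by
      simp only [hy, Submodule.coe_add, Submodule.coe_smul, map_add_polar, qmap_smul, hu,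
        polar_smul_left', polar_smul_right', huw, ← ha, hr]
      field_simp
      linear_combination r * hst
    have hxy : polar Q (x : V) y = 0 := by
      simp only [hx, hy, Submodule.coe_add, Submodule.coe_smul, polar_add_left, polar_add_right,
        polar_smul_left', polar_smul_right', polar_self', hu, huw, polar_comm (⇑Q) (w : V) u, ← ha, hr]
      field_simp
      ring
    have hν0 : ν ≠ 0 := fun h => hν (by rw [h]; exact IsSquare.zero)
    have hx0 : x ≠ 0 := fun h => hν0 (by rw [← hQx, h]; simp)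
    have hy0 : y ≠ 0 := fun h => hν0 (by rw [← hQy, h]; simp)
    refine ⟨u, u.2, x, x.2, by rw [hu]; exact IsSquare.one, by rw [hu]; exact one_ne_zero,
      by rwa [hQx], ?_⟩
    rw [hline hu0 hw0 huw, hline hx0 hy0 hxy,
      (sphereCard_line h2 hw' ha.symm).1 ⟨r, hr⟩ ha0,
      (sphereCard_line h2 (fun h => hy0 (Subtype.ext h)) hQy).2 hν]
  · refine ⟨u, u.2, w, w.2, by rw [hu]; exact IsSquare.one, by rw [hu]; exact one_ne_zero,
      hsq, ?_⟩
    rw [hline hu0 hw0 huw, hline hw0 hu0 (by rw [polar_comm]; exact huw),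
      (sphereCard_line h2 hw' ha.symm).2 hsq,
      (sphereCard_line h2 (fun h => hu0 (Subtype.ext h)) hu).1 IsSquare.one one_ne_zero]

/-- The base case: a non-degenerate three-space. -/
theorem parity_three (hQ : Nondeg Q) (h2 : (2 : F) ≠ 0) {W : Submodule F V}
    (hW : Nondeg (restr Q W)) (hd : finrank F W = 3) :
    ∃ u ∈ W, ∃ u' ∈ W, IsSquare (Q u) ∧ Q u ≠ 0 ∧ ¬ IsSquare (Q u') ∧
      (sphereCard Q (W ⊓ perp Q (Submodule.span F {u})) 1 + 2) % 4 =
        sphereCard Q (W ⊓ perp Q (Submodule.span F {u'})) 1 % 4 := by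
  obtain ⟨e₀, he0, hQe⟩ := hW.exists_singular (by omega)
  obtain ⟨f₀, hQf, hef⟩ := hW.exists_partner he0 hQe
  rw [restr_apply] at hQe hQf
  rw [polar_restr] at hef
  set e : V := (e₀ : V)
  set f : V := (f₀ : V)
  set H := Submodule.span F {e, f} with hH
  have hHW : H ≤ W := Submodule.span_le.2 (by simp [Set.insert_subset_iff, e, f])
  obtain ⟨hK, -, hKr⟩ := hQ.nondeg_inf_perp hW (nondeg_hyperbolic_plane hQe hQf hef) hHW
  rw [finrank_hyperbolic_plane hQe hQf hef] at hKr
  have hK1 : finrank F (W ⊓ perp Q H : Submodule F V) = 1 :=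
    Nat.add_right_cancel (hKr.trans (hd.trans (by norm_num)))
  obtain ⟨⟨z, hzK⟩, hz0, hzspan⟩ := finrank_eq_one_iff'.1 hK1
  have hz0' : z ≠ 0 := fun h => hz0 (Subtype.ext h)
  have hzp := (mem_perp_span_pair Q).1 hzK.2
  set a := Q z with ha
  have ha0 : a ≠ 0 := by
    intro h0
    refine hz0 (hK _ fun y => ?_)
    obtain ⟨c, rfl⟩ := hzspan y
    rw [polar_smul_right', polar_self', restr_apply, ← ha, h0]; ring
  -- for each non-zero `b`, the plane orthogonal to `e + b f`
  have key : ∀ b : F, b ≠ 0 →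
      ∃ (n₁ : V), n₁ = e - b • f ∧ Q n₁ = -b ∧ Q (e + b • f) = b ∧
      Nondeg (restr Q (W ⊓ perp Q (Submodule.span F {e + b • f}))) ∧
      finrank F (W ⊓ perp Q (Submodule.span F {e + b • f}) : Submodule F V) = 2 ∧
      (∀ x ∈ W ⊓ perp Q (Submodule.span F {e + b • f}),
        ∃ s t : F, x = s • n₁ + t • z ∧ Q x = -b * s ^ 2 + a * t ^ 2) ∧
      n₁ + z ∈ W ⊓ perp Q (Submodule.span F {e + b • f}) ∧ Q (n₁ + z) = -b + a ∧ n₁ + z ≠ 0 := by
    intro b hb
    set u := e + b • f with hu
    set n₁ := e - b • f with hn₁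
    have hQu : Q u = b := by
      rw [hu, map_add_polar, qmap_smul, polar_smul_right', hQe, hQf, hef]; ring
    have hQn : Q n₁ = -b := by
      rw [hn₁, qmap_sub, qmap_smul, polar_smul_right', hQe, hQf, hef]; ring
    have huW : u ∈ W := W.add_mem e₀.2 (W.smul_mem _ f₀.2)
    have hu0 : u ≠ 0 := fun h => hb (by rw [← hQu, h, QuadraticMap.map_zero])
    have hsu : Nondeg (restr Q (Submodule.span F {u})) := by
      rw [nondeg_restr_iff]
      refine eq_bot_iff.2 fun x hx => ?_
      obtain ⟨c, rfl⟩ := Submodule.mem_span_singleton.1 hx.1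
      have h := (mem_perp_span_singleton Q).1 hx.2
      rw [polar_smul_right', polar_self', hQu] at h
      rw [(mul_eq_zero.1 h).resolve_right (mul_ne_zero h2 hb), zero_smul]
      exact Submodule.zero_mem _
    obtain ⟨hN, -, hNr⟩ := hQ.nondeg_inf_perp hW hsu
      (Submodule.span_le.2 (Set.singleton_subset_iff.2 huW))
    rw [finrank_span_singleton hu0] at hNr
    have hnu : polar Q u n₁ = 0 := by
      simp only [hu, hn₁, polar_add_left, polar_sub_right, polar_smul_left', polar_smul_right',
        polar_self', hQe, hQf, hef, polar_comm (⇑Q) f e]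
      ring
    have hzu : polar Q u z = 0 := by
      rw [hu, polar_add_left, polar_smul_left', hzp.1, hzp.2]; ring
    refine ⟨n₁, rfl, hQn, hQu, hN, by omega, fun x hx => ?_, ?_, ?_, ?_⟩
    · have hxu := (mem_perp_span_singleton Q).1 hx.2
      set p := polar Q f x
      set q' := polar Q e x
      have hmem : x - p • e - q' • f ∈ W ⊓ perp Q H := by
        refine ⟨W.sub_mem (W.sub_mem hx.1 (W.smul_mem _ e₀.2)) (W.smul_mem _ f₀.2), ?_⟩
        rw [SetLike.mem_coe, hH, mem_perp_span_pair]
        simp only [p, q', polar_sub_right, polar_smul_right', polar_self', hQe, hQf, hef,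
          polar_comm (⇑Q) f e]
        constructor <;> ring
      obtain ⟨t, ht⟩ := hzspan ⟨_, hmem⟩
      have ht' : t • z = x - p • e - q' • f := congrArg Subtype.val ht
      rw [hu, polar_add_left, polar_smul_left'] at hxu
      have hq : q' = -(b * p) := by linear_combination hxu
      refine ⟨p, t, ?_, ?_⟩
      · rw [ht', hn₁, hq, smul_sub, smul_smul, neg_smul, mul_comm p b]; abel
      · have hx' : x = p • n₁ + t • z := by
          rw [ht', hn₁, hq, smul_sub, smul_smul, neg_smul, mul_comm p b]; abel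
        rw [hx', map_add_polar, qmap_smul, qmap_smul, polar_smul_left', polar_smul_right', hQn, ← ha]
        have : polar Q n₁ z = 0 := by
          rw [hn₁, polar_sub_left, polar_smul_left', hzp.1, hzp.2]; ring
        rw [this]; ring
    · refine ⟨W.add_mem (W.sub_mem e₀.2 (W.smul_mem _ f₀.2)) hzK.1, ?_⟩
      rw [SetLike.mem_coe, mem_perp_span_singleton, polar_add_right, hnu, hzu, add_zero]
    · have : polar Q n₁ z = 0 := by
        rw [hn₁, polar_sub_left, polar_smul_left', hzp.1, hzp.2]; ring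
      rw [map_add_polar, hQn, this, ← ha, add_zero]
    · intro h
      have := congrArg (polar Q z) h
      rw [polar_add_right, polar_zero_right, hn₁, polar_sub_right, polar_smul_right',
        polar_comm (⇑Q) z e, polar_comm (⇑Q) z f, hzp.1, hzp.2, polar_self', ← ha] at this
      exact (mul_ne_zero h2 ha0) (by linear_combination this)
  obtain ⟨ν, hν⟩ := exists_not_isSquare h2
  have hν0 : ν ≠ 0 := fun h => hν (by rw [h]; exact IsSquare.zero)
  have hb2 : a * ν ≠ 0 := mul_ne_zero ha0 hν0
  obtain ⟨n₁, -, -, hQ1, hN1, hr1, -, hm1, hQm1, hm10⟩ := key a ha0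
  obtain ⟨n₂, hn₂, -, hQ2, hN2, hr2, hall2, -, -, -⟩ := key (a * ν) hb2
  -- the first plane is hyperbolic
  have hc1 : sphereCard Q (W ⊓ perp Q (Submodule.span F {e + a • f})) 1 + 1 = Nat.card F := by
    set L := W ⊓ perp Q (Submodule.span F {e + a • f}) with hL
    obtain ⟨g, hQg, hg⟩ := hN1.exists_partner (u := ⟨n₁ + z, hm1⟩)
      (fun h => hm10 (congrArg Subtype.val h)) (by rw [restr_apply]; exact hQm1.trans (by ring))
    rw [restr_apply] at hQg
    rw [polar_restr] at hg
    have hstep := sphereCard_step (K := L) hm1 g.2 (hQm1.trans (by ring)) hQg hg 1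
    have hQm1' : Q (n₁ + z) = 0 := hQm1.trans (by ring)
    obtain ⟨-, -, hr⟩ := hQ.nondeg_inf_perp hN1 (nondeg_hyperbolic_plane hQm1' hQg hg)
      (Submodule.span_le.2 (Set.insert_subset_iff.2 ⟨hm1, Set.singleton_subset_iff.2 g.2⟩))
    rw [finrank_hyperbolic_plane hQm1' hQg hg] at hr
    have h0 : finrank F (L ⊓ perp Q (Submodule.span F {n₁ + z, (g : V)}) : Submodule F V) = 0 := by
      have : finrank F L = 2 := hr1
      exact Nat.add_right_cancel (hr.trans (this.trans (Nat.zero_add 2).symm))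
    have hbot := Submodule.finrank_eq_zero.1 h0
    rw [hbot] at hstep
    have hs0 : sphereCard Q (⊥ : Submodule F V) 1 = 0 := by
      rw [sphereCard, Nat.card_eq_zero]
      refine Or.inl ⟨fun z => ?_⟩
      obtain ⟨⟨y, hy⟩, hQy⟩ := z
      rw [Submodule.mem_bot] at hy
      subst hy
      simp at hQy
    simpa [hs0] using hstep
  -- the second plane is anisotropic
  have hc2 : sphereCard Q (W ⊓ perp Q (Submodule.span F {e + (a * ν) • f})) 1 = Nat.card F + 1 := by
    refine (hN2.card_sphere_plane hr2 (fun x hx => ?_) one_ne_zero)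
    obtain ⟨s, t, hst, hQst⟩ := hall2 x x.2
    rw [restr_apply, hQst] at hx
    refine Subtype.ext ?_
    have hs : s = 0 := by
      by_contra hs
      refine hν ⟨t / s, ?_⟩
      field_simp
      exact mul_left_cancel₀ ha0 (by linear_combination -hx)
    subst hs
    have ht : t = 0 := by
      have : a * t ^ 2 = 0 := by linear_combination hx
      exact (pow_eq_zero_iff two_ne_zero).1 ((mul_eq_zero.1 this).resolve_left ha0)
    subst ht
    simpa using hst
  -- exactly one of `a`, `a ν` is a square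
  have hm1W : e + a • f ∈ W := W.add_mem e₀.2 (W.smul_mem _ f₀.2)
  have hm2W : e + (a * ν) • f ∈ W := W.add_mem e₀.2 (W.smul_mem _ f₀.2)
  obtain ⟨r, hr⟩ : ∃ r, Nat.card F = 2 * r + 1 := odd_natCard_of_two_ne_zero h2
  by_cases hsq : IsSquare a
  · refine ⟨_, hm1W, _, hm2W, by rwa [hQ1], by rwa [hQ1], ?_, by omega⟩
    rw [hQ2]
    rintro ⟨p, hp⟩
    obtain ⟨r', hr''⟩ := hsq
    exact hν ⟨p / r', by
      have hr' : r' ≠ 0 := fun h => ha0 (by rw [hr'', h, mul_zero])
      field_simp
      linear_combination hp - ν * hr''⟩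
  · refine ⟨_, hm2W, _, hm1W, ?_, by rwa [hQ2], by rwa [hQ1], by omega⟩
    rw [hQ2]
    have := Fintype.ofFinite F
    have hc : ringChar F ≠ 2 := fun h => h2 (by
      have := ringChar.of_eq h; exact CharTwo.two_eq_zero)
    classical
    rw [← quadraticChar_one_iff_isSquare hb2, map_mul,
      quadraticChar_neg_one_iff_not_isSquare.2 hsq, quadraticChar_neg_one_iff_not_isSquare.2 hν]
    norm_num

/-- Two vectors of square and non-square norm whose hyperplane sections of the unit sphere differ
by two modulo four. -/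
theorem exists_parity_pair (hQ : Nondeg Q) (h2 : (2 : F) ≠ 0) (hn : 2 ≤ finrank F V) :
    ∃ u u' : V, IsSquare (Q u) ∧ Q u ≠ 0 ∧ ¬ IsSquare (Q u') ∧
      (sphereCard Q (perp Q (Submodule.span F {u})) 1 + 2) % 4 =
        sphereCard Q (perp Q (Submodule.span F {u'})) 1 % 4 := by
  obtain ⟨k, e, f, h, ha⟩ := hQ.exists_frame
  have hr := h.finrank_kernel hQ
  have hle := finrank_le_two_of_aniso (h.nondeg_kernel hQ) ha
  set j := (finrank F V - 2) / 2
  have hjk : j ≤ k := by omega
  have h' := h.take hjk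
  set e' := e ∘ Fin.castLE hjk
  set f' := f ∘ Fin.castLE hjk
  have hr' := h'.finrank_kernel hQ
  have hN := h'.nondeg_kernel hQ
  obtain ⟨u, hu, u', hu', h1, h1', h2', h3⟩ : ∃ u ∈ kernel Q e' f', ∃ u' ∈ kernel Q e' f',
      IsSquare (Q u) ∧ Q u ≠ 0 ∧ ¬ IsSquare (Q u') ∧
      (sphereCard Q (kernel Q e' f' ⊓ perp Q (Submodule.span F {u})) 1 + 2) % 4 =
        sphereCard Q (kernel Q e' f' ⊓ perp Q (Submodule.span F {u'})) 1 % 4 := by
    rcases (by omega : finrank F (kernel Q e' f') = 2 ∨ finrank F (kernel Q e' f') = 3) with hd | hd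
    · exact parity_plane h2 hN hd
    · exact parity_three hQ h2 hN hd
  refine ⟨u, u', h1, h1', h2', ?_⟩
  have hin : ∀ x ∈ kernel Q e' f', ∀ i, e' i ∈ perp Q (Submodule.span F {x}) ∧
      f' i ∈ perp Q (Submodule.span F {x}) := fun x hx i =>
    ⟨by rw [mem_perp_span_singleton, polar_comm]; exact (mem_kernel.1 hx).1 i,
      by rw [mem_perp_span_singleton, polar_comm]; exact (mem_kernel.1 hx).2 i⟩
  obtain ⟨c1, -⟩ := sphereCard_frame_in h' (hin u hu) 1
  obtain ⟨c2, -⟩ := sphereCard_frame_in h' (hin u' hu') 1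
  have hu0 : u ≠ 0 := fun h => h1' (by rw [h, QuadraticMap.map_zero])
  have hu0' : u' ≠ 0 := fun h => h2' (by rw [h, QuadraticMap.map_zero]; exact IsSquare.zero)
  have hcardK : ∀ x : V, x ≠ 0 → Nat.card (perp Q (Submodule.span F {x})) =
      Nat.card F ^ (finrank F V - 1) := fun x hx => by
    have := hQ.finrank_perp_singleton hx
    rw [natCard_eq_pow]; congr 1; omega
  have hcardL : ∀ x ∈ kernel Q e' f', x ≠ 0 →
      Nat.card (perp Q (Submodule.span F {x}) ⊓ kernel Q e' f' : Submodule F V) =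
        Nat.card F ^ (finrank F V - 1 - 2 * j) := fun x hx hx0 => by
    obtain ⟨-, c⟩ := sphereCard_frame_in h' (hin x hx) 1
    rw [hcardK x hx0, show finrank F V - 1 = 2 * j + (finrank F V - 1 - 2 * j) by omega, pow_add] at c
    exact (Nat.eq_of_mul_eq_mul_left (pow_pos Nat.card_pos _) c).symm
  rw [hcardK u hu0, hcardL u hu hu0, inf_comm (perp Q _) (kernel Q e' f')] at c1
  rw [hcardK u' hu0', hcardL u' hu' hu0', inf_comm (perp Q _) (kernel Q e' f')] at c2
  obtain ⟨r, hr2⟩ : ∃ r, Nat.card F = 2 * r + 1 := odd_natCard_of_two_ne_zero h2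
  set A := sphereCard Q (perp Q (Submodule.span F {u})) 1
  set B := sphereCard Q (perp Q (Submodule.span F {u'})) 1
  set C := sphereCard Q (kernel Q e' f' ⊓ perp Q (Submodule.span F {u})) 1
  set D := sphereCard Q (kernel Q e' f' ⊓ perp Q (Submodule.span F {u'})) 1
  set q := Nat.card F
  set X := q ^ (finrank F V - 1)
  set Y := q ^ j * q ^ (finrank F V - 1 - 2 * j)
  have hodd : ∃ s, q ^ j = 2 * s + 1 := by
    have : Odd (q ^ j) := (odd_natCard_of_two_ne_zero h2).pow
    exact this
  obtain ⟨s, hs⟩ := hodd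
  have e1 : A + (2 * s + 1) * D = B + (2 * s + 1) * C := by
    refine Nat.eq_of_mul_eq_mul_left (Nat.card_pos (α := F)) ?_
    change q * _ = q * _
    rw [pow_succ', hs] at c1 c2
    linarith
  have e2 : ∃ c, (2 * s + 1) * D = D + 2 * c ∧ c = s * D := ⟨_, by ring, rfl⟩
  obtain ⟨c, hc, hc'⟩ := e2
  obtain ⟨d, hd, hd'⟩ : ∃ c, (2 * s + 1) * C = C + 2 * c ∧ c = s * C := ⟨_, by ring, rfl⟩
  have e3 : c % 2 = d % 2 := by
    rw [hc', hd', Nat.mul_mod, Nat.mul_mod s C]
    congr 2
    omega
  omega

end Cfsg.Agent.Orthogonal
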