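import Cfsg.Agent.Orthogonal.AutOut
import Cfsg.Agent.Orthogonal.Spinor
import Cfsg.Agent.H58.OrthoKlein

/-!
`Out` of the simple orthogonal groups in odd dimension: diagonal (order 2) times field automorphisms.
-/

set_option autoImplicit false
set_option linter.unusedSectionVars false

namespace Cfsg.Agent.Orthogonal

open QuadraticMap Module Matrix

section Abstract

/-- A split extension of a group of order two is a direct product. -/
theorem mulEquiv_two_prod {X C : Type*} [Group X] [Group C] (π : X →* C) (s : C →* X) (x : X)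
    (hs : ∀ c, π (s c) = c) (hx1 : x ≠ 1) (hx2 : x * x = 1) (hπx : π x = 1)
    (hker : ∀ y, π y = 1 → y = 1 ∨ y = x) :
    Nonempty (X ≃* Multiplicative (ZMod 2) × C) := by
  have hall : ∀ a : Multiplicative (ZMod 2),
      a = Multiplicative.ofAdd 0 ∨ a = Multiplicative.ofAdd 1 := by decide
  let i : Multiplicative (ZMod 2) →* X :=
    { toFun := fun a => if a = 1 then 1 else x
      map_one' := if_pos rfl
      map_mul' := fun a b => by
        rcases hall a with rfl | rfl <;> rcases hall b with rfl | rfl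
        · simp
        · simp
        · simp
        · have hne : (Multiplicative.ofAdd (1 : ZMod 2)) ≠ 1 := by decide
          have heq : Multiplicative.ofAdd (1 : ZMod 2) * Multiplicative.ofAdd 1 = 1 := by decide
          rw [if_pos heq, if_neg hne, hx2] }
  have hne : (Multiplicative.ofAdd (1 : ZMod 2)) ≠ 1 := by decide
  have hi1 : i (Multiplicative.ofAdd 1) = x := by
    show (if Multiplicative.ofAdd (1 : ZMod 2) = 1 then 1 else x) = x
    rw [if_neg hne]
  refine mulEquiv_prod_of_section π s i hs ((injective_iff_map_eq_one _).2 fun a ha => ?_) ?_ ?_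
  · rcases hall a with rfl | rfl
    · rfl
    · exact absurd (hi1.symm.trans ha) hx1
  · ext y
    constructor
    · rintro ⟨a, rfl⟩
      rcases hall a with rfl | rfl
      · exact map_one (π.comp i)
      · rw [MonoidHom.mem_ker, hi1, hπx]
    · intro hy
      rcases hker y hy with rfl | rfl
      · exact one_mem _
      · exact ⟨_, hi1⟩
  · intro a c
    rcases hall a with rfl | rfl
    · rw [show i (Multiplicative.ofAdd 0) = 1 from map_one i]; exact Commute.one_left _
    · rw [hi1]
      rcases hker (s c * x * (s c)⁻¹) (by rw [map_mul, map_mul, map_inv, hπx, mul_one,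
        mul_inv_cancel]) with h1 | h1
      · exact absurd (conj_eq_one_iff.1 h1) hx1
      · exact (mul_inv_eq_iff_eq_mul.1 h1).symm

end Abstract

section Forms

variable {F : Type*} [Field F] {m : ℕ}

theorem formOdd_coord (σ : RingAut F) (v : Unit ⊕ (Fin m ⊕ Fin m) → F) :
    formOdd F m (fun i => σ (v i)) = σ (formOdd F m v) := by
  simp [formOdd_coe, Cfsg.quadFormOdd, map_sum]

end Forms

section Linear

variable {F : Type*} [Field F] [Finite F] {ι : Type} [Fintype ι] [DecidableEq ι]
variable {Q : QuadraticForm F (ι → F)}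

/-- The determinant relation for a linear semisimilarity. -/
theorem exists_det_sq (hQ : Nondeg Q) (hv : ∃ v, Q v ≠ 0) (ψ : semiGroup Q) {c : F}
    (h : IsSemi Q ψ.1 (RingEquiv.refl F) c) : ∃ d : F, d ^ 2 = c ^ Fintype.card ι := by
  have : Nontrivial (ι → F) := by
    obtain ⟨v, hv⟩ := hv
    exact ⟨⟨v, 0, fun h0 => hv (by rw [h0, QuadraticMap.map_zero])⟩⟩
  obtain ⟨g, hg⟩ := exists_matrix_of_semi ψ
  have hσ : fieldOf ψ = RingEquiv.refl F := (isSemi_fieldOf ψ).field_unique h
  have hg' : ∀ v, (g : Matrix ι ι F) *ᵥ v = ψ.1 v := fun v => by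
    have h1 := hg v
    rw [hσ] at h1
    exact h1
  have hmem : g ∈ H58.OrthoAut.sim Q := ⟨Units.mk0 c h.ne_zero, fun v => by
    rw [hg', h.map_form, RingEquiv.refl_apply, Units.val_mk0]⟩
  have hmu : H58.OrthoKlein.mu ⟨g, hmem⟩ = Units.mk0 c h.ne_zero :=
    H58.OrthoKlein.mu_unique hv fun v => by
      rw [hg', h.map_form, RingEquiv.refl_apply, Units.val_mk0]
  have h1 := H58.OrthoKlein.det_sq_eq hQ ⟨g, hmem⟩
  rw [hmu, Units.val_mk0] at h1
  exact ⟨_, h1⟩

end Linear

section Odd

variable {F V : Type*} [Field F] [Finite F] [AddCommGroup V] [Module F V] [FiniteDimensional F V]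
variable {Q : QuadraticForm F V}

theorem ofO_neg (g : O Q) :
    ∀ x, (ofO g).1 x = (-1 : F) • ((-1 : F) • (g : V ≃ₗ[F] V) x) := fun x => by
  rw [smul_smul, ofO_apply]; norm_num

/-- Negation as an isometry. -/
noncomputable def negO (Q : QuadraticForm F V) : O Q :=
  ⟨LinearEquiv.neg F, fun x => QuadraticMap.map_neg Q x⟩

theorem negO_app (x : V) : (negO Q : V ≃ₗ[F] V) x = -x := rfl

theorem outSemi_negO : outSemi Q (ofO (negO Q)) = 1 := by
  have he : ofO (negO Q) = scalarSemi Q (-1) := Subtype.ext (Equiv.ext fun x => by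
    rw [scalarSemi_apply, ofO_apply, negO_app, Units.val_neg, Units.val_one, neg_one_smul])
  rw [he, outSemi_scalar]

/-- In odd dimension the isometries contribute a group of order two. -/
theorem exists_diag (hQ : Nondeg Q) (h2 : (2 : F) ≠ 0) (hn : 5 ≤ finrank F V)
    (hodd : Odd (finrank F V)) :
    ∃ r : O Q, outSemi Q (ofO r) ≠ 1 ∧ outSemi Q (ofO r) * outSemi Q (ofO r) = 1 ∧
      ∀ g : O Q, outSemi Q (ofO g) = 1 ∨ outSemi Q (ofO g) = outSemi Q (ofO r) := by
  obtain ⟨u, hu⟩ := hQ.exists_value (by omega) 1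
  have hfin : Fintype F := Fintype.ofFinite F
  obtain ⟨ν, hν⟩ := FiniteField.exists_nonsquare (F := F) (fun h => h2 (by
    have := ringChar.of_eq h; exact CharTwo.two_eq_zero))
  have hν0 : ν ≠ 0 := fun h => hν (h ▸ IsSquare.zero)
  obtain ⟨w, hw⟩ := hQ.exists_value (by omega) ν
  let r : O Q := rO Q u * rO Q w
  have hu0 : Q u ≠ 0 := by rw [hu]; exact one_ne_zero
  have hw0 : Q w ≠ 0 := by rw [hw]; exact hν0
  have hrs : spinor Q hQ h2 r = -1 := by
    rw [map_mul, spinor_rO hQ h2 hu0, spinor_rO hQ h2 hw0, hu, hw,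
      sqSign_of_isSquare IsSquare.one, sqSign_of_not_isSquare hν, one_mul]
  have hrd : detSign Q hQ h2 r = 1 := by
    rw [map_mul, detSign_rO hQ h2 hu0, detSign_rO hQ h2 hw0]; decide
  have hnegd : detSign Q hQ h2 (negO Q) = -1 := by
    rcases Int.units_eq_one_or (detSign Q hQ h2 (negO Q)) with h | h
    · exfalso
      rw [detSign_eq_one_iff] at h
      have hneg : ((negO Q : V ≃ₗ[F] V) : V →ₗ[F] V) = (-1 : F) • LinearMap.id :=
        LinearMap.ext fun x => by simp [negO_app]
      rw [hneg, LinearMap.det_smul, LinearMap.det_id, mul_one, hodd.neg_one_pow] at h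
      exact h2 (by linear_combination -h)
    · exact h
  have hdet1 : ∀ g : O Q, detSign Q hQ h2 g = 1 →
      outSemi Q (ofO g) = 1 ∨ outSemi Q (ofO g) = outSemi Q (ofO r) := by
    intro g hg
    rcases Int.units_eq_one_or (spinor Q hQ h2 g) with h | h
    · exact Or.inl (outSemi_omega ((mem_commutator_iff hQ h2 g).2 ⟨hg, h⟩))
    · right
      have h1 : outSemi Q (ofO (r⁻¹ * g)) = 1 := outSemi_omega ((mem_commutator_iff hQ h2 _).2
        ⟨by rw [map_mul, map_inv, hrd, hg]; decide, by rw [map_mul, map_inv, hrs, h]; decide⟩)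
      rw [map_mul, map_mul, map_inv, map_inv, inv_mul_eq_one] at h1
      exact h1.symm
  refine ⟨r, fun h => ?_, ?_, fun g => ?_⟩
  · obtain ⟨g, hg, a, ha, hra⟩ := (outSemi_eq_one_iff hQ hn (ofO r)).1 h
    have ha2 : a * a = 1 := by
      have h1 := hra u
      have h3 : Q ((ofO r).1 u) = Q u := by rw [ofO_apply, O.map_app]
      rw [h1, qmap_smul, O.map_app, hu] at h3
      linear_combination h3
    obtain ⟨hgd, hgs⟩ := (mem_commutator_iff hQ h2 g).1 hg
    rcases mul_self_eq_one_iff.1 ha2 with ha1 | ha1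
    · have hrg : r = g := O.ext_app fun x => by
        have h1 := hra x
        rwa [ha1, one_smul] at h1
      rw [hrg, hgs] at hrs
      exact absurd hrs (by decide)
    · have hrg : r = negO Q * g := O.ext_app fun x => by
        have h1 := hra x
        rw [ha1, neg_one_smul] at h1
        exact h1
      rw [hrg, map_mul, hnegd, hgd] at hrd
      exact absurd hrd (by decide)
  · rw [← map_mul, ← map_mul]
    refine outSemi_omega ((mem_commutator_iff hQ h2 _).2 ?_)
    rw [map_mul, map_mul (spinor Q hQ h2) r r, hrd, hrs]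
    decide
  · rcases Int.units_eq_one_or (detSign Q hQ h2 g) with h | h
    · exact hdet1 g h
    · have h1 := hdet1 (negO Q * g) (by rw [map_mul, hnegd, h]; decide)
      rwa [map_mul ofO, map_mul (outSemi Q), outSemi_negO, one_mul] at h1

end Odd

section Main

variable {F : Type*} [Field F] [Fintype F]

/-- `Out` of the odd-dimensional simple orthogonal group. -/
theorem out_formOdd {p f m : ℕ} [Fact p.Prime] (hf : 1 ≤ f) (hF : Fintype.card F = p ^ f)
    (hp : p ≠ 2) (hm : 3 ≤ m) :
    Nonempty (Cfsg.Out (Cfsg.POmega F (Cfsg.quadFormOdd m F)) ≃*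
      Multiplicative (ZMod 2 × ZMod f)) := by
  have h2 : (2 : F) ≠ 0 := two_ne_zero_of_odd_card (by
    rw [hF]; exact ((Fact.out : p.Prime).odd_of_ne_two hp).pow)
  have hQ := formOdd_nondeg (F := F) (m := m) h2
  have hn : 7 ≤ finrank F (Unit ⊕ (Fin m ⊕ Fin m) → F) := by rw [finrank_formOdd]; omega
  have h8 : NoTriality (formOdd F m) := noTriality_formOdd
  have : Nontrivial (Unit ⊕ (Fin m ⊕ Fin m) → F) :=
    Module.nontrivial_of_finrank_pos (R := F) (by omega)
  obtain ⟨π, hπ⟩ := exists_outField hQ hn h8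
  obtain ⟨r, hr1, hr2, hr⟩ := exists_diag hQ h2 (by omega) (by rw [finrank_formOdd]; exact odd_two_mul_add_one m)
  obtain ⟨v, hv⟩ := hQ.exists_value (by omega) 1
  have hv' : ∃ v, formOdd F m v ≠ 0 := ⟨v, by rw [hv]; exact one_ne_zero⟩
  let s : RingAut F →* Cfsg.Out (PC (formOdd F m)) :=
    (outSemi (formOdd F m)).comp (coordHom (formOdd_coord (m := m)))
  have hs : ∀ σ, π (s σ) = σ := fun σ => by
    simp [s, hπ, fieldHom_coordHom]
  have hker : ∀ y, π y = 1 → y = 1 ∨ y = outSemi (formOdd F m) (ofO r) := by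
    intro y hy
    obtain ⟨ψ, rfl⟩ := outSemi_surjective hQ hn h8 y
    rw [hπ] at hy
    obtain ⟨σ, c, h⟩ := ψ.2
    obtain rfl : σ = RingEquiv.refl F := (fieldHom_eq h).symm.trans hy
    obtain ⟨d, hd⟩ := exists_det_sq hQ hv' ψ h
    have hsq : IsSquare c := by
      refine ⟨d / c ^ m, ?_⟩
      have hc := h.ne_zero
      have hcard : Fintype.card (Unit ⊕ (Fin m ⊕ Fin m)) = 2 * m + 1 := by
        simp only [Fintype.card_sum, Fintype.card_unit, Fintype.card_fin]; omega
      rw [hcard] at hd
      field_simp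
      linear_combination -hd
    obtain ⟨g, hg⟩ := exists_isometry_of_square ψ h hsq
    rw [hg]
    exact hr g
  obtain ⟨e⟩ := mulEquiv_two_prod π s _ hs hr1 hr2 ((hπ _).trans (fieldHom_ofO r)) hker
  obtain ⟨eF⟩ := Cfsg.Agent.H56.ringAut_equiv F hf hF
  obtain ⟨eO⟩ := out_congr (pcEquiv (formOdd F m))
  exact ⟨eO.trans ((e.trans (MulEquiv.prodCongr (MulEquiv.refl _) eF)).trans
    (MulEquiv.prodMultiplicative (ZMod 2) (ZMod f)).symm)⟩

/-- The order of `Aut` of the odd-dimensional simple orthogonal group. -/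
theorem card_mulAut_formOdd {p f m : ℕ} [Fact p.Prime] (hf : 1 ≤ f)
    (hF : Fintype.card F = p ^ f) (hp : p ≠ 2) (hm : 3 ≤ m) :
    Nat.card (MulAut (Cfsg.POmega F (Cfsg.quadFormOdd m F))) =
      2 * f * Nat.card (Cfsg.POmega F (Cfsg.quadFormOdd m F)) := by
  have h2 : (2 : F) ≠ 0 := two_ne_zero_of_odd_card (by
    rw [hF]; exact ((Fact.out : p.Prime).odd_of_ne_two hp).pow)
  obtain ⟨e⟩ := out_formOdd hf hF hp hm
  have : Nat.card (Cfsg.Out (Cfsg.POmega F (⇑(formOdd F m)))) = 2 * f := by
    rw [formOdd_coe, Nat.card_congr e.toEquiv, Nat.card_congr Multiplicative.toAdd, Nat.card_prod,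
      Nat.card_zmod, Nat.card_zmod]
  rw [← formOdd_coe, card_mulAut_POmega (formOdd_nondeg (F := F) (m := m) h2)
    (by rw [finrank_formOdd]; omega), this]

end Main

end Cfsg.Agent.Orthogonal
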