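import Cfsg.Agent.Orthogonal.Spinor
import Cfsg.Agent.Orthogonal.Dickson
import Cfsg.Agent.Orthogonal.Det

/-!
Subgroups of index two of orthogonal and special orthogonal groups, and the subgroups generated by
the reflections of one square class.
-/

set_option autoImplicit false

namespace Cfsg.Agent.Orthogonal

open QuadraticMap Module
open scoped commutatorElement

/-- If `G` is generated by involutions with pairwise products in the normal subgroup `D`, then the
squares of elements of `D` generate a subgroup containing the commutator subgroup. -/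
theorem commutator_le_closure_squares {G : Type*} [Group G] (R : Set G)
    (hR : Subgroup.closure R = ⊤) (hinv : ∀ r ∈ R, r * r = 1) (D : Subgroup G) [D.Normal]
    (hD : ∀ r ∈ R, ∀ r' ∈ R, r * r' ∈ D) :
    commutator G ≤ Subgroup.closure {x | ∃ y ∈ D, x = y * y} := by
  set S := Subgroup.closure {x : G | ∃ y ∈ D, x = y * y} with hS
  haveI : S.Normal := by
    refine ⟨fun n hn g => ?_⟩
    induction hn using Subgroup.closure_induction with
    | mem x hx =>
      obtain ⟨y, hy, rfl⟩ := hx
      exact Subgroup.subset_closure ⟨g * y * g⁻¹, ‹D.Normal›.conj_mem y hy g, by group⟩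
    | one => simp
    | mul x y _ _ hx hy => rw [← conj_mul]; exact mul_mem hx hy
    | inv x _ hx => rw [← conj_inv]; exact inv_mem hx
  set π := QuotientGroup.mk' S with hπ
  have htop : Subgroup.closure (π '' R) = ⊤ := by
    rw [← MonoidHom.map_closure, hR,
      Subgroup.map_top_of_surjective _ (QuotientGroup.mk'_surjective S)]
  have hcomm : ∀ a ∈ π '' R, ∀ b ∈ π '' R, a * b = b * a := by
    rintro _ ⟨r, hr, rfl⟩ _ ⟨r', hr', rfl⟩
    have h1 : π (r * r' * (r * r')) = 1 :=
      (QuotientGroup.eq_one_iff _).2 (Subgroup.subset_closure ⟨_, hD r hr r' hr', rfl⟩)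
    have h2 : π r * π r = 1 := by rw [← map_mul, hinv r hr, map_one]
    have h3 : π r' * π r' = 1 := by rw [← map_mul, hinv r' hr', map_one]
    simp only [map_mul] at h1
    calc π r * π r' = (π r * π r')⁻¹ := eq_inv_of_mul_eq_one_left h1
      _ = π r' * π r := by
        rw [mul_inv_rev, inv_eq_of_mul_eq_one_right h2, inv_eq_of_mul_eq_one_right h3]
  have hcen : ∀ a b : G ⧸ S, a * b = b * a := by
    have h1 : Subgroup.closure (π '' R) ≤ Subgroup.centralizer (π '' R) :=
      (Subgroup.closure_le _).2 fun a ha => Subgroup.mem_centralizer_iff.2 fun b hb =>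
        hcomm b hb a ha
    rw [htop] at h1
    have h2 : Subgroup.closure (π '' R) ≤ Subgroup.center (G ⧸ S) :=
      (Subgroup.closure_le _).2 fun a ha => Subgroup.mem_center_iff.2 fun b =>
        (Subgroup.mem_centralizer_iff.1 (h1 (Subgroup.mem_top b)) a ha).symm
    rw [htop] at h2
    exact fun a b => Subgroup.mem_center_iff.1 (h2 (Subgroup.mem_top b)) a
  rw [commutator_def, Subgroup.commutator_le]
  intro a _ b _
  exact (QuotientGroup.eq_one_iff _).1 ((map_commutatorElement π a b).trans
    (commutatorElement_eq_one_iff_mul_comm.2 (hcen _ _)))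

/-- The number of index-two subgroups of a group with a surjection onto `ℤˣ × ℤˣ` whose kernel is
contained in all of them. -/
theorem card_index_two_eq_three {G : Type*} [Group G] (φ : G →* ℤˣ × ℤˣ)
    (hφ : Function.Surjective φ) (hker : ∀ H : Subgroup G, H.index = 2 → φ.ker ≤ H) :
    Nat.card {H : Subgroup G // H.index = 2} = 3 := by
  let e : {H : Subgroup G // H.index = 2} ≃ {K : Subgroup (ℤˣ × ℤˣ) // K.index = 2} :=
    { toFun := fun H => ⟨H.1.map φ, by rw [Subgroup.index_map_eq _ hφ (hker _ H.2)]; exact H.2⟩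
      invFun := fun K => ⟨K.1.comap φ, by
        rw [Subgroup.index_comap_of_surjective _ hφ]; exact K.2⟩
      left_inv := fun H => Subtype.ext (by
        simp only [Subgroup.comap_map_eq, sup_eq_left]; exact hker _ H.2)
      right_inv := fun K => Subtype.ext (Subgroup.map_comap_eq_self_of_surjective hφ _) }
  rw [Nat.card_congr e]
  have hsq : ∀ z : ℤˣ × ℤˣ, z ^ 2 = 1 := by decide
  have h4 : Nat.card (ℤˣ × ℤˣ) = 4 := by simp [Nat.card_eq_fintype_card]
  have hord : ∀ z : ℤˣ × ℤˣ, z ≠ 1 → orderOf z = 2 := fun z hz =>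
    orderOf_eq_prime (hsq z) hz
  let f : {z : ℤˣ × ℤˣ // z ≠ 1} → {K : Subgroup (ℤˣ × ℤˣ) // K.index = 2} := fun z =>
    ⟨Subgroup.zpowers z.1, by
      have := (Subgroup.zpowers z.1).card_mul_index
      rw [Nat.card_zpowers, hord _ z.2, h4] at this
      omega⟩
  have hf : Function.Bijective f := by
    constructor
    · intro z w h
      have hw : w.1 ∈ Subgroup.zpowers z.1 := by
        rw [show Subgroup.zpowers z.1 = Subgroup.zpowers w.1 from congrArg Subtype.val h]
        exact Subgroup.mem_zpowers _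
      obtain ⟨k, hk, hk'⟩ : ∃ k, k < 2 ∧ z.1 ^ k = w.1 := by
        obtain ⟨k, hk⟩ := (mem_zpowers_iff_mem_range_orderOf (x := z.1)).1 hw |> Finset.mem_image.1
        exact ⟨k, by rw [hord _ z.2, Finset.mem_range] at hk; exact hk.1, hk.2⟩
      obtain rfl | rfl : k = 0 ∨ k = 1 := by omega
      · exact absurd (by rw [← hk', pow_zero]) w.2
      · exact Subtype.ext (by rw [← hk', pow_one])
    · rintro ⟨K, hK⟩
      have hc : Nat.card K = 2 := by
        have := K.card_mul_index
        rw [hK, h4] at this; omega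
      obtain ⟨⟨z, hzK⟩, hz, -⟩ := (Nat.card_eq_two_iff' (1 : K)).1 hc
      have hz1 : z ≠ 1 := fun h => hz (Subtype.ext h)
      refine ⟨⟨z, hz1⟩, Subtype.ext (Subgroup.eq_of_le_of_card_ge
        (Subgroup.zpowers_le.2 hzK) ?_)⟩
      rw [hc, Nat.card_zpowers, hord _ hz1]
  rw [← Nat.card_congr (Equiv.ofBijective f hf), Nat.card_eq_fintype_card]
  decide

section Reflections

variable {F V : Type*} [Field F] [AddCommGroup V] [Module F V] [FiniteDimensional F V]
variable {Q : QuadraticForm F V}

/-- An isometry of a plane fixing a non-singular vector. -/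
theorem Nondeg.stab_plane' (hQ : Nondeg Q) (h2 : finrank F V = 2) (hc : (2 : F) ≠ 0) {v w : V}
    (hv : Q v ≠ 0) (hw : w ≠ 0) (hvw : polar Q v w = 0) :
    Q w ≠ 0 ∧ (∀ x : V, ∃ s t : F, x = s • v + t • w) ∧
      ∀ g : O Q, (g : V ≃ₗ[F] V) v = v → g = 1 ∨ g = rO Q w := by
  have hv0 : v ≠ 0 := fun h => hv (by rw [h, QuadraticMap.map_zero])
  have hperp := hQ.perp_line h2 hv0 hw hvw
  have hspan : ∀ x : V, ∃ s t : F, x = s • v + t • w := by
    intro x
    have hx : x - (polar Q v x * (2 * Q v)⁻¹) • v ∈ perp Q (Submodule.span F {v}) := by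
      rw [mem_perp_span_singleton, polar_sub_right, polar_smul_right', polar_self',
        mul_assoc, inv_mul_cancel₀ (mul_ne_zero hc hv), mul_one, sub_self]
    rw [hperp] at hx
    obtain ⟨t, ht⟩ := Submodule.mem_span_singleton.1 hx
    exact ⟨_, t, (sub_eq_iff_eq_add'.1 ht.symm)⟩
  have hQw : Q w ≠ 0 := by
    intro h
    refine hw (hQ w fun y => ?_)
    obtain ⟨s, t, rfl⟩ := hspan y
    rw [polar_add_right, polar_smul_right', polar_smul_right', polar_comm (⇑Q) w v, hvw,
      polar_self', h]
    ring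
  refine ⟨hQw, hspan, fun g hg => ?_⟩
  have hgw : (g : V ≃ₗ[F] V) w ∈ perp Q (Submodule.span F {v}) := by
    rw [mem_perp_span_singleton]
    nth_rw 1 [← hg]
    rw [O.polar_app, hvw]
  rw [hperp] at hgw
  obtain ⟨a, ha⟩ := Submodule.mem_span_singleton.1 hgw
  have haa : a ^ 2 = 1 := by
    have := O.map_app g w
    rw [← ha, qmap_smul] at this
    exact mul_right_cancel₀ hQw (by linear_combination this)
  rcases sq_eq_one_iff.1 haa with rfl | rfl
  · refine Or.inl (O.ext_app fun x => ?_)
    obtain ⟨s, t, rfl⟩ := hspan x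
    rw [map_add, map_smul, map_smul, hg, ← ha, one_smul]; rfl
  · refine Or.inr (O.ext_app fun x => ?_)
    obtain ⟨s, t, rfl⟩ := hspan x
    rw [map_add, map_smul, map_smul, hg, ← ha, map_add, map_smul, map_smul, rO_self hQw,
      rO_fix (by rw [polar_comm]; exact hvw), neg_one_smul]

/-- The product of the reflections in an orthogonal basis of a plane is minus the identity. -/
theorem Nondeg.rO_mul_rO_eq_neg (hQ : Nondeg Q) (h2 : finrank F V = 2) (hc : (2 : F) ≠ 0) {v w : V}
    (hv : Q v ≠ 0) (hw : w ≠ 0) (hvw : polar Q v w = 0) (x : V) :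
    ((rO Q v * rO Q w : O Q) : V ≃ₗ[F] V) x = -x := by
  obtain ⟨hQw, hspan, -⟩ := hQ.stab_plane' h2 hc hv hw hvw
  obtain ⟨s, t, rfl⟩ := hspan x
  have e1 : (rO Q w : V ≃ₗ[F] V) v = v := rO_fix (by rw [polar_comm]; exact hvw)
  have e2 : (rO Q v : V ≃ₗ[F] V) w = w := rO_fix hvw
  rw [Subgroup.coe_mul, mul_app]
  simp only [map_add, map_smul, rO_self hQw, e1, rO_self hv, map_neg, e2, smul_neg]
  abel

variable [Finite F]

/-- An isometry of determinant minus one of a plane is a reflection. -/
theorem Nondeg.plane_neg_refl (hQ : Nondeg Q) (h2 : finrank F V = 2) (hc : (2 : F) ≠ 0) (g : O Q)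
    (hg : detSign Q hQ hc g = -1) : ∃ b, Q b ≠ 0 ∧ g = rO Q b := by
  obtain ⟨x, hx⟩ := hQ.exists_value h2.ge 1
  have hx0 : Q x ≠ 0 := by rw [hx]; exact one_ne_zero
  obtain ⟨w, hw, hxw⟩ := hQ.exists_perp_vec h2 (v := x) (fun h => hx0 (by rw [h, QuadraticMap.map_zero]))
  obtain ⟨hQw, -, hstab⟩ := hQ.stab_plane' h2 hc hx0 hw hxw
  have hne : (-1 : ℤˣ) ≠ 1 := by decide
  set y := (g : V ≃ₗ[F] V) x with hy
  have hQy : Q y = Q x := O.map_app g x
  by_cases h : Q (y - x) = 0
  · set s := y - -x with hs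
    have hQs : Q s ≠ 0 := by
      intro h'
      rw [hs, sub_neg_eq_add, map_add_polar, hQy] at h'
      rw [qmap_sub, hQy] at h
      exact hx0 ((mul_eq_zero.1 (by linear_combination h + h' :
        ((2 : F) * 2) * Q x = 0)).resolve_left (mul_ne_zero hc hc))
    have hfix : ((rO Q x * (rO Q s * g) : O Q) : V ≃ₗ[F] V) x = x := by
      rw [Subgroup.coe_mul, mul_app, Subgroup.coe_mul, mul_app, ← hy, hs,
        rO_sub_swap (by rw [QuadraticMap.map_neg, hQy]) hQs, map_neg, rO_self hx0, neg_neg]
    rcases hstab _ hfix with h' | h'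
    · exfalso
      have := congrArg (detSign Q hQ hc) h'
      rw [map_mul, map_mul, detSign_rO hQ hc hx0, detSign_rO hQ hc hQs, hg, map_one] at this
      exact hne (by simpa using this)
    · obtain ⟨z, hz, hsz⟩ := hQ.exists_perp_vec h2 (v := s) (fun h0 => hQs (by rw [h0, QuadraticMap.map_zero]))
      obtain ⟨hQz, -, -⟩ := hQ.stab_plane' h2 hc hQs hz hsz
      refine ⟨z, hQz, ?_⟩
      have hneg : rO Q x * rO Q w = rO Q s * rO Q z := O.ext_app fun v => by
        rw [hQ.rO_mul_rO_eq_neg h2 hc hx0 hw hxw, hQ.rO_mul_rO_eq_neg h2 hc hQs hz hsz]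
      have e : g = rO Q s * (rO Q x * rO Q w) := by
        rw [← h', ← mul_assoc (rO Q x) (rO Q x), rO_mul_self, one_mul, ← mul_assoc, rO_mul_self,
          one_mul]
      rw [e, hneg, ← mul_assoc, rO_mul_self, one_mul]
  · have hfix : ((rO Q (y - x) * g : O Q) : V ≃ₗ[F] V) x = x := by
      rw [Subgroup.coe_mul, mul_app, ← hy, rO_sub_swap hQy h]
    rcases hstab _ hfix with h' | h'
    · exact ⟨y - x, h, by
        rw [← mul_one (rO Q (y - x)), ← h', ← mul_assoc, rO_mul_self, one_mul]⟩
    · exfalso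
      have := congrArg (detSign Q hQ hc) h'
      rw [map_mul, detSign_rO hQ hc h, hg, detSign_rO hQ hc hQw] at this
      exact hne (by simpa using this)

variable (Q) in
/-- The subgroup generated by the reflections in vectors whose value is a square multiple of `c`. -/
def classGroup (c : F) : Subgroup (O Q) :=
  Subgroup.closure {g | ∃ (v : V) (t : F), t ≠ 0 ∧ Q v = c * t ^ 2 ∧ g = rO Q v}

theorem rO_mem_classGroup (hc2 : (2 : F) ≠ 0) {c : F} (hc : c ≠ 0) {v : V} (hv : Q v ≠ 0)
    (h : IsSquare c ↔ IsSquare (Q v)) : rO Q v ∈ classGroup Q c := by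
  obtain ⟨t, ht, he⟩ := exists_eq_sq_mul hc2 hc hv h
  exact Subgroup.subset_closure ⟨v, t, ht, by rw [he, mul_comm], rfl⟩

/-- Same-valued reflections spanning a non-degenerate plane are congruent. -/
theorem rel_of_plane (hQ : Nondeg Q) (hc2 : (2 : F) ≠ 0) {c : F} (hc : c ≠ 0) {u x : V}
    (hu : Q u ≠ 0) (hxu : Q x = Q u) (hB : polar Q u x ^ 2 ≠ 4 * Q u ^ 2) :
    rO Q u * rO Q x ∈ classGroup Q c := by
  set P := Submodule.span F {u, x} with hP
  have hli : LinearIndependent F ![u, x] := by
    rw [LinearIndependent.pair_iff]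
    intro a b hab
    have h1 := congrArg (fun z => polar Q u z) hab
    have h3 := congrArg (fun z => polar Q x z) hab
    simp only [polar_add_right, polar_smul_right', polar_self', polar_zero_right,
      polar_comm (⇑Q) x u, hxu] at h1 h3
    have hd : polar Q u x ^ 2 - 4 * Q u ^ 2 ≠ 0 := sub_ne_zero.2 hB
    constructor
    · exact (mul_eq_zero.1 (by linear_combination polar Q u x * h3 - 2 * Q u * h1 :
        (polar Q u x ^ 2 - 4 * Q u ^ 2) * a = 0)).resolve_left hd
    · exact (mul_eq_zero.1 (by linear_combination polar Q u x * h1 - 2 * Q u * h3 :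
        (polar Q u x ^ 2 - 4 * Q u ^ 2) * b = 0)).resolve_left hd
  have hPr : finrank F P = 2 := by
    have := finrank_span_eq_card hli
    rwa [Matrix.range_cons, Matrix.range_cons, Matrix.range_empty, Set.union_empty,
      Set.singleton_union, Fintype.card_fin] at this
  have hPn : Nondeg (restr Q P) := by
    rw [nondeg_restr_iff, eq_bot_iff]
    rintro z ⟨hz, hz'⟩
    obtain ⟨a, b, rfl⟩ := Submodule.mem_span_pair.1 hz
    obtain ⟨h1, h3⟩ := (mem_perp_span_pair (Q := Q)).1 hz'
    rw [polar_add_right, polar_smul_right', polar_smul_right', polar_self'] at h1 h3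
    rw [polar_comm (⇑Q) x u, hxu] at h3
    have hd : polar Q u x ^ 2 - 4 * Q u ^ 2 ≠ 0 := sub_ne_zero.2 hB
    have ha := (mul_eq_zero.1 (by linear_combination polar Q u x * h3 - 2 * Q u * h1 :
        (polar Q u x ^ 2 - 4 * Q u ^ 2) * a = 0)).resolve_left hd
    have hb := (mul_eq_zero.1 (by linear_combination polar Q u x * h1 - 2 * Q u * h3 :
        (polar Q u x ^ 2 - 4 * Q u ^ 2) * b = 0)).resolve_left hd
    rw [ha, hb, zero_smul, zero_smul, add_zero]; exact Submodule.zero_mem _
  obtain ⟨a, ha⟩ := hPn.exists_value hPr.ge c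
  set u' : P := ⟨u, Submodule.subset_span (by simp)⟩
  set x' : P := ⟨x, Submodule.subset_span (by simp)⟩
  have hx : Q x ≠ 0 := by rw [hxu]; exact hu
  have hu' : restr Q P u' ≠ 0 := hu
  have hx' : restr Q P x' ≠ 0 := hx
  have ha' : restr Q P a ≠ 0 := by rw [ha]; exact hc
  obtain ⟨b, hb, hab⟩ := hPn.plane_neg_refl hPr hc2
    (rO _ a * (rO _ u' * rO _ x')) (by
      rw [map_mul, map_mul, detSign_rO hPn hc2 ha', detSign_rO hPn hc2 hu',
        detSign_rO hPn hc2 hx']
      rfl)
  have hab' := congrArg (extendO hQ hPn) hab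
  simp only [map_mul, extendO_rO] at hab'
  have he : rO Q u * rO Q x = rO Q (a : V) * rO Q (b : V) := by
    rw [← hab', ← mul_assoc, rO_mul_self, one_mul]
  have hQa : Q (a : V) = c := ha
  have hQb : Q (b : V) ≠ 0 := hb
  rw [he]
  refine mul_mem (rO_mem_classGroup hc2 hc (by rw [hQa]; exact hc) (by rw [hQa]))
    (rO_mem_classGroup hc2 hc hQb ?_)
  have hs := congrArg (spinor Q hQ hc2) he
  rw [map_mul, map_mul, spinor_rO hQ hc2 hu, spinor_rO hQ hc2 hx, hxu,
    spinor_rO hQ hc2 (by rw [hQa]; exact hc : Q (a : V) ≠ 0), spinor_rO hQ hc2 hQb, hQa,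
    Int.units_mul_self] at hs
  by_cases h1 : IsSquare c <;> by_cases h3 : IsSquare (Q (b : V)) <;>
    simp [sqSign, h1, h3] at hs ⊢

/-- All reflections of equal value are congruent, barring the small exception. -/
theorem rel_of_eq (hQ : Nondeg Q) (hc2 : (2 : F) ≠ 0) {c : F} (hc : c ≠ 0) {u x : V}
    (hu : Q u ≠ 0) (hxu : Q x = Q u)
    (hn : finrank F V = 2 ∨ 5 ≤ finrank F V ∨ (3 ≤ finrank F V ∧ 3 < Nat.card F)) :
    rO Q u * rO Q x ∈ classGroup Q c := by
  have hu0 : u ≠ 0 := fun h => hu (by rw [h, QuadraticMap.map_zero])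
  by_cases hB : polar Q u x ^ 2 = 4 * Q u ^ 2
  swap
  · exact rel_of_plane hQ hc2 hc hu hxu hB
  wlog hBx : polar Q u x = 2 * Q u generalizing x
  · have hneg : polar Q u (-x) = 2 * Q u := by
      rw [polar_neg_right]
      have : (polar Q u x - 2 * Q u) * (polar Q u x + 2 * Q u) = 0 := by linear_combination hB
      linear_combination -((mul_eq_zero.1 this).resolve_left (sub_ne_zero.2 hBx))
    have := this (x := -x) (by rw [QuadraticMap.map_neg, hxu]) (by rw [hneg]; ring) hneg
    rwa [← neg_one_smul F x, rO_smul (neg_ne_zero.2 one_ne_zero)] at this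
  set z := x - u with hz
  by_cases hz0 : z = 0
  · rw [sub_eq_zero.1 hz0, rO_mul_self]; exact one_mem _
  have hQz : Q z = 0 := by rw [hz, qmap_sub, hxu, polar_comm, hBx]; ring
  have huz : polar Q u z = 0 := by rw [hz, polar_sub_right, hBx, polar_self', sub_self]
  have hsn : Nondeg (restr Q (Submodule.span F {u})) := by
    rw [nondeg_restr_iff, eq_bot_iff]
    rintro y ⟨hy, hy'⟩
    obtain ⟨a, rfl⟩ := Submodule.mem_span_singleton.1 hy
    have := (mem_perp_span_singleton (Q := Q)).1 hy'
    rw [polar_smul_right', polar_self'] at this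
    rw [(mul_eq_zero.1 this).resolve_right (mul_ne_zero hc2 hu), zero_smul]
    exact Submodule.zero_mem _
  set W := perp Q (Submodule.span F {u}) with hW
  have hWn : Nondeg (restr Q W) := hQ.nondeg_perp hsn
  have hWr : finrank F W + 1 = finrank F V := hQ.finrank_perp_singleton hu0
  set z' : W := ⟨z, (mem_perp_span_singleton (Q := Q)).2 huz⟩ with hz'
  have hz'0 : z' ≠ 0 := fun h => hz0 (congrArg Subtype.val h)
  obtain ⟨f, hf, hzf⟩ := hWn.exists_partner hz'0 hQz
  have hsuff : ∀ w : W, restr Q W w = Q u → polar (restr Q W) z' w ^ 2 ≠ 4 * Q u ^ 2 →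
      rO Q u * rO Q x ∈ classGroup Q c := by
    intro w hw hzw
    have huw : polar Q u (w : V) = 0 := (mem_perp_span_singleton (Q := Q)).1 w.2
    have h1 := rel_of_plane hQ hc2 hc hu (x := (w : V)) hw (by
      rw [huw, zero_pow two_ne_zero]
      exact fun h => hu (pow_eq_zero_iff two_ne_zero |>.1
        ((mul_eq_zero.1 h.symm).resolve_left (by
          rw [show (4 : F) = 2 * 2 by norm_num]; exact mul_ne_zero hc2 hc2))))
    have h3 := rel_of_plane hQ hc2 hc (u := (w : V)) (x := x) (by rw [← restr_apply, hw]; exact hu)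
      (by rw [hxu, ← hw]; rfl) (by
        rw [← restr_apply, hw, show x = u + z by rw [hz]; abel, polar_add_right,
          polar_comm (⇑Q) (w : V) u, huw, zero_add, polar_comm]
        rwa [polar_restr] at hzw)
    have := mul_mem h1 h3
    rwa [mul_assoc, ← mul_assoc (rO Q (w : V)), rO_mul_self, one_mul] at this
  rcases hn with h | h | ⟨h, hq⟩
  · exfalso
    have h2r := hWn.finrank_hyperbolic_perp (u := z') (f := f) hQz hf hzf
    omega
  · have hr := hWn.finrank_hyperbolic_perp (u := z') (f := f) hQz hf hzf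
    obtain ⟨y, hy⟩ := (hWn.nondeg_hyperbolic_perp (u := z') (f := f) hQz hf hzf).exists_value
      (by omega) (Q u)
    have hy1 := ((mem_perp_span_pair (Q := restr Q W)).1 y.2).1
    refine hsuff (y : W) hy ?_
    rw [hy1, zero_pow two_ne_zero]
    exact fun h => hu (pow_eq_zero_iff two_ne_zero |>.1
      ((mul_eq_zero.1 h.symm).resolve_left (by
        rw [show (4 : F) = 2 * 2 by norm_num]; exact mul_ne_zero hc2 hc2)))
  · obtain ⟨γ, hγ0, hγ⟩ : ∃ γ : F, γ ≠ 0 ∧ γ ^ 2 ≠ 4 * Q u ^ 2 := by
      by_contra hc'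
      push Not at hc'
      classical
      have := Fintype.ofFinite F
      have hle : (Finset.univ : Finset F) ⊆ {0, 2 * Q u, -(2 * Q u)} := fun γ _ => by
        by_cases h0 : γ = 0
        · simp [h0]
        · have : (γ - 2 * Q u) * (γ + 2 * Q u) = 0 := by linear_combination hc' γ h0
          rcases mul_eq_zero.1 this with h | h
          · simp [sub_eq_zero.1 h]
          · simp [eq_neg_of_add_eq_zero_left h]
      have := (Finset.card_le_card hle).trans Finset.card_le_three
      rw [Finset.card_univ, ← Nat.card_eq_fintype_card] at this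
      omega
    refine hsuff ((Q u / γ) • z' + γ • f) ?_ ?_
    · rw [map_add_polar, qmap_smul, qmap_smul, polar_smul_left', polar_smul_right', hzf, hf,
        show restr Q W z' = 0 from hQz]
      field_simp
      ring
    · rw [polar_add_right, polar_smul_right', polar_smul_right', polar_self', hzf,
        show restr Q W z' = 0 from hQz]
      convert hγ using 2
      ring

/-- The reflections of one square class generate a subgroup of index two. -/
theorem index_classGroup (hQ : Nondeg Q) (hc2 : (2 : F) ≠ 0) {c : F} (hc : c ≠ 0)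
    (hn : finrank F V = 2 ∨ 5 ≤ finrank F V ∨ (3 ≤ finrank F V ∧ 3 < Nat.card F)) :
    (classGroup Q c).index = 2 := by
  obtain ⟨ν, hν⟩ := exists_not_isSquare hc2
  have hν0 : ν ≠ 0 := fun h => hν (by rw [h]; exact IsSquare.zero)
  have hνc : ¬ (IsSquare c ↔ IsSquare (ν * c)) := by
    rw [isSquare_mul_iff hc2 hν0 hc]; tauto
  obtain ⟨u, hu⟩ := hQ.exists_value (show 2 ≤ finrank F V by omega) (ν * c)
  have hu0 : Q u ≠ 0 := by rw [hu]; exact mul_ne_zero hν0 hc
  classical
  let χ : O Q →* ℤˣ := spinor Q hQ hc2 * (if IsSquare c then 1 else detSign Q hQ hc2)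
  have hχ : ∀ v, Q v ≠ 0 → (χ (rO Q v) = 1 ↔ (IsSquare c ↔ IsSquare (Q v))) := by
    intro v hv
    simp only [χ, MonoidHom.mul_apply, spinor_rO hQ hc2 hv]
    by_cases hs : IsSquare c <;> by_cases ht : IsSquare (Q v) <;>
      simp [hs, ht, sqSign, detSign_rO hQ hc2 hv]
  have hle : classGroup Q c ≤ χ.ker := by
    rw [classGroup, Subgroup.closure_le]
    rintro g ⟨v, t, ht, hv, rfl⟩
    have hv0 : Q v ≠ 0 := by rw [hv]; exact mul_ne_zero hc (pow_ne_zero 2 ht)
    refine MonoidHom.mem_ker.2 ((hχ v hv0).2 ?_)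
    rw [hv, isSquare_mul_iff hc2 hc (pow_ne_zero 2 ht)]
    exact ⟨fun h => iff_of_true h (IsSquare.sq t), fun h => h.2 (IsSquare.sq t)⟩
  have hnorm : (classGroup Q c).Normal := by
    refine ⟨fun n hn' g => ?_⟩
    induction hn' using Subgroup.closure_induction with
    | mem x hx =>
      obtain ⟨v, t, ht, hv, rfl⟩ := hx
      exact Subgroup.subset_closure ⟨_, t, ht, by rw [O.map_app, hv], conj_rO g v⟩
    | one => simp
    | mul x y _ _ hx hy => rw [← conj_mul]; exact mul_mem hx hy
    | inv x _ hx => rw [← conj_inv]; exact inv_mem hx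
  have hunot : rO Q u ∉ classGroup Q c := fun h => hνc (by
    rw [← hu]; exact (hχ u hu0).1 (MonoidHom.mem_ker.1 (hle h)))
  have key : ∀ g : O Q, g ∈ classGroup Q c ∨ g * rO Q u ∈ classGroup Q c := by
    intro g
    obtain ⟨l, hl, rfl⟩ := exists_refl_list hQ hc2 g
    induction l with
    | nil => exact Or.inl (one_mem _)
    | cons v t ih =>
      have hv := hl v (by simp)
      specialize ih fun w hw => hl w (by simp [hw])
      simp only [List.map_cons, List.prod_cons]
      by_cases hs : IsSquare c ↔ IsSquare (Q v)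
      · have hvK := rO_mem_classGroup hc2 hc hv hs
        rcases ih with h | h
        · exact Or.inl (mul_mem hvK h)
        · exact Or.inr (by rw [mul_assoc]; exact mul_mem hvK h)
      · obtain ⟨s, hs0, hsv⟩ := exists_eq_sq_mul hc2 hv hu0 (by
          rw [hu, isSquare_mul_iff hc2 hν0 hc]; tauto)
        have huv := rel_of_eq hQ hc2 hc hu0 (x := s • v) (by rw [qmap_smul, hsv]) hn
        rw [rO_smul hs0] at huv
        have hvu : rO Q v * rO Q u ∈ classGroup Q c := by
          have := inv_mem huv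
          rwa [mul_inv_rev, rO_inv, rO_inv] at this
        rcases ih with h | h
        · refine Or.inr ?_
          have := mul_mem hvu (hnorm.conj_mem _ h (rO Q u))
          rwa [rO_inv, mul_assoc (rO Q v), mul_assoc (rO Q u), ← mul_assoc (rO Q u) (rO Q u),
            rO_mul_self, one_mul, ← mul_assoc] at this
        · refine Or.inl ?_
          have := mul_mem hvu (hnorm.conj_mem _ h (rO Q u))
          rwa [rO_inv, mul_assoc (rO Q u), mul_assoc (List.prod _), rO_mul_self, mul_one,
            mul_assoc (rO Q v), ← mul_assoc (rO Q u), rO_mul_self, one_mul] at this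
  refine Subgroup.index_eq_two_iff.2 ⟨rO Q u, fun g => ?_⟩
  rcases key g with h | h
  · exact Or.inr ⟨h, fun h' => hunot (by simpa using mul_mem (inv_mem h) h')⟩
  · exact Or.inl ⟨h, fun h' => hunot (by simpa using mul_mem (inv_mem h') h)⟩

end Reflections

end Cfsg.Agent.Orthogonal
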