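import Cfsg.Agent.Orthogonal.MaxTS
import Cfsg.Agent.Orthogonal.Simple

/-!
The commutator subgroup of the orthogonal group preserves the two families of maximal totally
singular subspaces.
-/

set_option autoImplicit false

namespace Cfsg.Agent.Orthogonal

open QuadraticMap Module

variable {F V : Type*} [Field F] [AddCommGroup V] [Module F V] [FiniteDimensional F V]
variable {Q : QuadraticForm F V} {m : ℕ}

/-- The parity of the codimension by which an isometry moves a maximal subspace is a character. -/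
noncomputable def familySign (hQ : Nondeg Q) (hV : finrank F V = 2 * m) {U : Submodule F V}
    (hU : TotSing Q U) (hr : finrank F U = m) : O Q →* ℤˣ where
  toFun g := (-1) ^ (m - finrank F ↥(U ⊓ U.map ((g : V ≃ₗ[F] V) : V →ₗ[F] V)))
  map_one' := by
    rw [show U.map (((1 : O Q) : V ≃ₗ[F] V) : V →ₗ[F] V) = U from Submodule.map_id U, inf_idem, hr,
      Nat.sub_self, pow_zero]
  map_mul' := fun g h => by
    set Ug := U.map ((g : V ≃ₗ[F] V) : V →ₗ[F] V)
    set Uh := U.map ((h : V ≃ₗ[F] V) : V →ₗ[F] V)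
    set Ugh := U.map (((g * h : O Q) : V ≃ₗ[F] V) : V →ₗ[F] V)
    have h1 : Ugh = Uh.map ((g : V ≃ₗ[F] V) : V →ₗ[F] V) := by
      rw [← Submodule.map_comp]; rfl
    have h2 : finrank F ↥(Ug ⊓ Ugh) = finrank F ↥(U ⊓ Uh) := by
      rw [h1, ← Submodule.map_inf _ (g : V ≃ₗ[F] V).injective, LinearEquiv.finrank_map_eq]
    have := even_codim_sum hQ hV hU (hU.map g) (hU.map (g * h)) hr
      (by rw [LinearEquiv.finrank_map_eq, hr]) (by rw [LinearEquiv.finrank_map_eq, hr])
    rw [← pow_add, Int.units_pow_eq_pow_mod_two, Int.units_pow_eq_pow_mod_two _ (_ + _)]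
    congr 1
    rw [Nat.even_iff] at this
    change (m - finrank F ↥(U ⊓ Ugh)) % 2 = _
    change ((m - finrank F ↥(U ⊓ Ug)) + (m - finrank F ↥(Ug ⊓ Ugh)) +
      (m - finrank F ↥(U ⊓ Ugh))) % 2 = 0 at this
    rw [h2] at this
    omega

theorem familySign_apply (hQ : Nondeg Q) (hV : finrank F V = 2 * m) {U : Submodule F V}
    (hU : TotSing Q U) (hr : finrank F U = m) (g : O Q) :
    familySign hQ hV hU hr g =
      (-1) ^ (m - finrank F ↥(U ⊓ U.map ((g : V ≃ₗ[F] V) : V →ₗ[F] V))) := rfl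

/-- An element of the commutator subgroup fixing a singular hyperplane of a maximal subspace fixes
that subspace. -/
theorem map_eq_of_hyperplane (hQ : Nondeg Q) (hV : finrank F V = 2 * m) {U W₁ : Submodule F V}
    (hU : finrank F U + 1 = m) (hW₁ : TotSing Q W₁) (hr : finrank F W₁ = m) (hle : U ≤ W₁)
    {g : O Q} (hg : g ∈ commutator (O Q)) (hfix : U.map ((g : V ≃ₗ[F] V) : V →ₗ[F] V) = U) :
    W₁.map ((g : V ≃ₗ[F] V) : V →ₗ[F] V) = W₁ := by
  set W₂ := W₁.map ((g : V ≃ₗ[F] V) : V →ₗ[F] V)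
  have hU₂ : U ≤ W₂ := hfix ▸ Submodule.map_mono hle
  have hsign : familySign hQ hV hW₁ hr g = 1 := Abelianization.commutator_subset_ker _ hg
  rw [familySign_apply] at hsign
  have hev : Even (m - finrank F ↥(W₁ ⊓ W₂)) := by
    rcases Nat.even_or_odd (m - finrank F ↥(W₁ ⊓ W₂)) with h | h
    · exact h
    · rw [h.neg_one_pow] at hsign; exact absurd hsign (by decide)
  have h1 := Submodule.finrank_mono (le_inf hle hU₂)
  have h2 := Submodule.finrank_mono (inf_le_left : W₁ ⊓ W₂ ≤ W₁)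
  have h3 : finrank F ↥(W₁ ⊓ W₂) = m := by rw [Nat.even_iff] at hev; omega
  have h4 : W₁ ⊓ W₂ = W₁ := Submodule.eq_of_le_of_finrank_eq inf_le_left (by omega)
  exact (Submodule.eq_of_le_of_finrank_eq (inf_eq_left.1 h4)
    (by rw [LinearEquiv.finrank_map_eq])).symm

end Cfsg.Agent.Orthogonal
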