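import Cfsg.Agent.Orthogonal.Simple

/-!
The Eichler transformations span the whole endomorphism ring; consequences for additive maps.
-/

set_option autoImplicit false

namespace Cfsg.Agent.Orthogonal

open QuadraticMap Module

variable {F V : Type*} [Field F] [AddCommGroup V] [Module F V] [FiniteDimensional F V] [Finite F]
variable {Q : QuadraticForm F V}

/-- The rank-one map `v ↦ c B(z, v) x`. -/
def rankOne (Q : QuadraticForm F V) (c : F) (z x : V) : Module.End F V :=
  c • (Q.polarBilin z).smulRight x

omit [FiniteDimensional F V] [Finite F] in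
theorem rankOne_apply (c : F) (z x v : V) : rankOne Q c z x v = (c * polar Q z v) • x := by
  simp [rankOne, mul_smul, polarBilin_apply']

omit [FiniteDimensional F V] [Finite F] in
theorem sieLin_diff_mul {x y y' : V} (hy' : polar Q x y' = 0) (hx : Q x = 0)
    (hy : polar Q x y = 0) :
    (sieLin Q x y - 1) * (sieLin Q x y' - 1) = rankOne Q (-polar Q y y') x x := by
  refine LinearMap.ext fun v => ?_
  simp only [Module.End.mul_apply, LinearMap.sub_apply, Module.End.one_apply, sieLin_apply,
    rankOne_apply, polar_add_right, polar_sub_right, polar_smul_right', polar_self', hx, hy', hy,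
    polar_comm (⇑Q) y x]
  match_scalars <;> ring

/-- A subring of endomorphisms containing the Eichler transformations is everything. -/
theorem subring_eq_top_of_sie (hQ : Nondeg Q) (hn : 3 ≤ finrank F V)
    (R : Subring (Module.End F V))
    (hR : ∀ x y, Q x = 0 → polar Q x y = 0 → sieLin Q x y ∈ R) : R = ⊤ := by
  have h1 : ∀ x, Q x = 0 → ∀ c, rankOne Q c x x ∈ R := by
    intro x hx c
    by_cases hx0 : x = 0
    · have : rankOne Q c x x = 0 := LinearMap.ext fun v => by simp [rankOne_apply, hx0]
      rw [this]; exact R.zero_mem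
    obtain ⟨f, hf, hxf⟩ := hQ.exists_partner hx0 hx
    have hW := hQ.nondeg_hyperbolic_perp hx hf hxf
    have hr := hQ.finrank_hyperbolic_perp hx hf hxf
    have : Nontrivial (perp Q (Submodule.span F {x, f})) :=
      Module.nontrivial_of_finrank_pos (R := F) (by omega)
    obtain ⟨y, hy0⟩ := exists_ne (0 : perp Q (Submodule.span F {x, f}))
    obtain ⟨y', hyy'⟩ := hW.exists_polar_eq hy0 (-c)
    rw [polar_restr] at hyy'
    have hy := ((mem_perp_span_pair (Q := Q)).1 y.2).1
    have hy' := ((mem_perp_span_pair (Q := Q)).1 y'.2).1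
    have := R.mul_mem (R.sub_mem (hR x y hx hy) R.one_mem) (R.sub_mem (hR x y' hx hy') R.one_mem)
    rwa [sieLin_diff_mul hy' hx hy, hyy', neg_neg] at this
  have h2 : ∀ z x, Q z = 0 → Q x = 0 → ∀ c, rankOne Q c z x ∈ R := by
    have h3 : ∀ z x, Q z = 0 → Q x = 0 → polar Q x z ≠ 0 → ∀ c, rankOne Q c z x ∈ R := by
      intro z x hz hx hxz c
      have hm := R.mul_mem (h1 x hx (c / polar Q x z)) (h1 z hz 1)
      have : rankOne Q (c / polar Q x z) x x * rankOne Q 1 z z = rankOne Q c z x := by
        refine LinearMap.ext fun v => ?_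
        rw [Module.End.mul_apply, rankOne_apply, rankOne_apply, rankOne_apply, polar_smul_right']
        congr 1
        field_simp
      rwa [this] at hm
    intro z x hz hx c
    by_cases hz0 : z = 0
    · have : rankOne Q c z x = 0 := LinearMap.ext fun v => by simp [rankOne_apply, hz0]
      rw [this]; exact R.zero_mem
    by_cases hx0 : x = 0
    · have : rankOne Q c z x = 0 := LinearMap.ext fun v => by simp [rankOne_apply, hx0]
      rw [this]; exact R.zero_mem
    obtain ⟨w, hw, hxw, hzw⟩ := exists_common_partner hQ hn hx0 hz0 hx hz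
    rw [polar_comm] at hzw
    have hm := R.mul_mem (h3 w x hw hx hxw (c / polar Q w z)) (h1 z hz 1)
    have : rankOne Q (c / polar Q w z) w x * rankOne Q 1 z z = rankOne Q c z x := by
      refine LinearMap.ext fun v => ?_
      rw [Module.End.mul_apply, rankOne_apply, rankOne_apply, rankOne_apply, polar_smul_right']
      congr 1
      field_simp
    rwa [this] at hm
  let T1 : V → Submodule F V := fun z =>
    { carrier := {x | ∀ c, rankOne Q c z x ∈ R}
      zero_mem' := fun c => by
        have : rankOne Q c z 0 = 0 := LinearMap.ext fun v => by simp [rankOne_apply]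
        rw [this]; exact R.zero_mem
      add_mem' := fun {a b} ha hb c => by
        have : rankOne Q c z (a + b) = rankOne Q c z a + rankOne Q c z b :=
          LinearMap.ext fun v => by simp [rankOne_apply, smul_add]
        rw [this]; exact R.add_mem (ha c) (hb c)
      smul_mem' := fun d a ha c => by
        have : rankOne Q c z (d • a) = rankOne Q (c * d) z a := LinearMap.ext fun v => by
          simp only [rankOne_apply, smul_smul]; congr 1; ring
        rw [this]; exact ha _ }
  have h4 : ∀ z, Q z = 0 → ∀ x c, rankOne Q c z x ∈ R := fun z hz x => by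
    have : T1 z = ⊤ := span_singular hQ hn _ fun x hx => fun c => h2 z x hz hx c
    have hx : x ∈ T1 z := this ▸ Submodule.mem_top
    exact hx
  let T2 : Submodule F V :=
    { carrier := {z | ∀ x c, rankOne Q c z x ∈ R}
      zero_mem' := fun x c => by
        have : rankOne Q c 0 x = 0 := LinearMap.ext fun v => by simp [rankOne_apply]
        rw [this]; exact R.zero_mem
      add_mem' := fun {a b} ha hb x c => by
        have : rankOne Q c (a + b) x = rankOne Q c a x + rankOne Q c b x :=
          LinearMap.ext fun v => by simp [rankOne_apply, mul_add, add_smul]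
        rw [this]; exact R.add_mem (ha x c) (hb x c)
      smul_mem' := fun d a ha x c => by
        have : rankOne Q c (d • a) x = rankOne Q (c * d) a x := LinearMap.ext fun v => by
          simp [rankOne_apply, mul_assoc]
        rw [this]; exact ha x _ }
  have h5 : ∀ z x c, rankOne Q c z x ∈ R := fun z x c => by
    have : T2 = ⊤ := span_singular hQ hn _ fun z hz => h4 z hz
    have hx : z ∈ T2 := this ▸ Submodule.mem_top
    exact hx x c
  rw [eq_top_iff]
  intro L _
  let b := Module.finBasis F V
  choose z hz using fun i => hQ.exists_repr (b.coord i)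
  have hL : L = ∑ i, rankOne Q 1 (z i) (L (b i)) := by
    refine LinearMap.ext fun v => ?_
    rw [LinearMap.sum_apply]
    conv_lhs => rw [← b.sum_repr v, map_sum]
    exact Finset.sum_congr rfl fun i _ => by
      rw [map_smul, rankOne_apply, hz, one_mul]; rfl
  rw [hL]
  exact R.sum_mem fun i _ => h5 _ _ _

omit [Finite F] in
/-- A non-zero additive subgroup invariant under a spanning set of endomorphisms is everything. -/
theorem addSubgroup_eq_top {S : Set (Module.End F V)} (hS : Subring.closure S = ⊤)
    (T : AddSubgroup V) (hT : T ≠ ⊥) (hinv : ∀ L ∈ S, ∀ w ∈ T, L w ∈ T) : T = ⊤ := by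
  have hall : ∀ L : Module.End F V, ∀ w ∈ T, L w ∈ T := by
    intro L
    have hL : L ∈ Subring.closure S := by rw [hS]; trivial
    induction hL using Subring.closure_induction with
    | mem x hx => exact hinv x hx
    | zero => intro w _; exact T.zero_mem
    | one => intro w hw; exact hw
    | add x y _ _ hx hy => intro w hw; exact T.add_mem (hx w hw) (hy w hw)
    | neg x _ hx => intro w hw; exact T.neg_mem (hx w hw)
    | mul x y _ _ hx hy => intro w hw; exact hx _ (hy w hw)
  obtain ⟨x, hx, hx0⟩ := (AddSubgroup.bot_or_exists_ne_zero T).resolve_left hT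
  obtain ⟨φ, hφ, -⟩ := Submodule.exists_dual_map_eq_bot_of_notMem (p := (⊥ : Submodule F V))
    (by rwa [Submodule.mem_bot]) inferInstance
  rw [eq_top_iff]
  intro y _
  have := hall (LinearMap.smulRight φ ((φ x)⁻¹ • y)) x hx
  rwa [LinearMap.smulRight_apply, smul_inv_smul₀ hφ] at this

omit [Finite F] in
/-- An additive map commuting with a spanning set of endomorphisms is a scalar. -/
theorem exists_scalar_of_commute_ring {S : Set (Module.End F V)} (hS : Subring.closure S = ⊤)
    (C : V →+ V) (hC : ∀ L ∈ S, ∀ w, C (L w) = L (C w)) : ∃ c : F, ∀ w, C w = c • w := by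
  have hall : ∀ L : Module.End F V, ∀ w, C (L w) = L (C w) := by
    intro L
    have hL : L ∈ Subring.closure S := by rw [hS]; trivial
    induction hL using Subring.closure_induction with
    | mem x hx => exact hC x hx
    | zero => intro w; simp
    | one => intro w; rfl
    | add x y _ _ hx hy => intro w; simp [hx, hy]
    | neg x _ hx => intro w; simp [hx]
    | mul x y _ _ hx hy => intro w; simp [hx, hy]
  by_cases hV : ∀ x : V, x = 0
  · exact ⟨0, fun w => by rw [hV (C w), zero_smul]⟩
  push Not at hV
  obtain ⟨x, hx⟩ := hV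
  obtain ⟨φ, hφ, -⟩ := Submodule.exists_dual_map_eq_bot_of_notMem (p := (⊥ : Submodule F V))
    (by rwa [Submodule.mem_bot]) inferInstance
  refine ⟨(φ x)⁻¹ * φ (C x), fun y => ?_⟩
  have h1 := hall (LinearMap.smulRight φ ((φ x)⁻¹ • y)) x
  rw [LinearMap.smulRight_apply, LinearMap.smulRight_apply, smul_inv_smul₀ hφ] at h1
  rw [h1, smul_smul, mul_comm]

/-- An additive bijection normalising a spanning set of endomorphisms is semilinear. -/
theorem exists_semilinear_of_normalize [Nontrivial V] {S : Set (Module.End F V)}
    (hS : Subring.closure S = ⊤) (C : V ≃+ V)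
    (h1 : ∀ L ∈ S, ∃ L' ∈ S, ∀ w, C (L w) = L' (C w))
    (h2 : ∀ L' ∈ S, ∃ L ∈ S, ∀ w, C (L w) = L' (C w)) :
    ∃ σ : F ≃+* F, ∀ (a : F) w, C (a • w) = σ a • C w := by
  have hall : ∀ L : Module.End F V, ∃ L' : Module.End F V, ∀ w, C (L w) = L' (C w) := by
    intro L
    have hL : L ∈ Subring.closure S := by rw [hS]; trivial
    induction hL using Subring.closure_induction with
    | mem x hx => obtain ⟨y, -, hy⟩ := h1 x hx; exact ⟨y, hy⟩
    | zero => exact ⟨0, fun w => by simp⟩
    | one => exact ⟨1, fun w => rfl⟩
    | add x y _ _ hx hy =>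
      obtain ⟨x', hx'⟩ := hx; obtain ⟨y', hy'⟩ := hy
      exact ⟨x' + y', fun w => by simp [hx', hy']⟩
    | neg x _ hx => obtain ⟨x', hx'⟩ := hx; exact ⟨-x', fun w => by simp [hx']⟩
    | mul x y _ _ hx hy =>
      obtain ⟨x', hx'⟩ := hx; obtain ⟨y', hy'⟩ := hy
      exact ⟨x' * y', fun w => by simp [hx', hy']⟩
  have hscal : ∀ a : F, ∃ b : F, ∀ w, C (a • w) = b • C w := by
    intro a
    obtain ⟨D, hD⟩ : ∃ D : V →+ V, ∀ w, D w = C (a • C.symm w) :=
      ⟨C.toAddMonoidHom.comp ((DistribMulAction.toAddMonoidHom V a).comp C.symm.toAddMonoidHom),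
        fun _ => rfl⟩
    obtain ⟨b, hb⟩ := exists_scalar_of_commute_ring hS D fun L' hL' w => by
      obtain ⟨L, -, hL⟩ := h2 L' hL'
      have hsym : ∀ v, C.symm (L' v) = L (C.symm v) := fun v =>
        C.injective (by rw [C.apply_symm_apply, hL, C.apply_symm_apply])
      rw [hD, hD, hsym, ← map_smul, hL]
    exact ⟨b, fun w => by rw [← hb, hD, C.symm_apply_apply]⟩
  choose s hs using hscal
  obtain ⟨v, hv⟩ := exists_ne (0 : V)
  have hCv : C v ≠ 0 := fun h => hv (C.injective (by rw [h, map_zero]))
  have huniq : ∀ a b : F, C (a • v) = b • C v → s a = b := fun a b h => by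
    rw [hs] at h
    exact smul_left_injective F hCv h
  let σ : F →+* F :=
    { toFun := s
      map_one' := huniq _ _ (by rw [one_smul, one_smul])
      map_zero' := huniq _ _ (by rw [zero_smul, map_zero, zero_smul])
      map_add' := fun a b => huniq _ _ (by rw [add_smul, map_add, hs, hs, add_smul])
      map_mul' := fun a b => huniq _ _ (by rw [mul_smul, hs, hs, smul_smul]) }
  refine ⟨RingEquiv.ofBijective σ ⟨σ.injective, Finite.injective_iff_surjective.1 σ.injective⟩,
    fun a w => hs a w⟩

end Cfsg.Agent.Orthogonal
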