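import Cfsg.Agent.Orthogonal.Count
import Cfsg.Agent.Orthogonal.Eichler

/-!
The singular points are the shortest orbit on totally singular subspaces: the orbit of a totally
singular subspace of dimension at least two is larger than the number of singular points
(dimension at least 7, maximal subspaces of a hyperbolic space of dimension 8 excepted).
-/

set_option autoImplicit false

namespace Cfsg.Agent.Orthogonal

open QuadraticMap Module IsFrame

variable {F V : Type*} [Field F] [AddCommGroup V] [Module F V]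
variable {Q : QuadraticForm F V}

/-- A singular point: the span of a non-zero singular vector. -/
def IsPt (Q : QuadraticForm F V) (W : Submodule F V) : Prop :=
  ∃ u, u ≠ 0 ∧ Q u = 0 ∧ W = Submodule.span F {u}

/-- The number of singular points. -/
noncomputable def pointCount (Q : QuadraticForm F V) : ℕ := Nat.card {W : Submodule F V // IsPt Q W}

/-- The stabiliser of a subspace in the orthogonal group. -/
def stabT (Q : QuadraticForm F V) (T : Submodule F V) : Subgroup (O Q) where
  carrier := {g | T.map ((g : V ≃ₗ[F] V) : V →ₗ[F] V) = T}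
  one_mem' := Submodule.map_id T
  mul_mem' {a b} ha hb := by
    change T.map (((a : V ≃ₗ[F] V) : V →ₗ[F] V).comp ((b : V ≃ₗ[F] V) : V →ₗ[F] V)) = T
    rw [Submodule.map_comp, Set.mem_setOf.1 hb, Set.mem_setOf.1 ha]
  inv_mem' {a} ha := by
    change T.map (((a : V ≃ₗ[F] V).symm : V ≃ₗ[F] V) : V →ₗ[F] V) = T
    conv_lhs => rw [← Set.mem_setOf.1 ha]
    rw [← Submodule.map_comp]
    convert Submodule.map_id T
    exact LinearMap.ext fun x => (a : V ≃ₗ[F] V).symm_apply_apply x

theorem mem_stabT {T : Submodule F V} {g : O Q} :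
    g ∈ stabT Q T ↔ T.map ((g : V ≃ₗ[F] V) : V →ₗ[F] V) = T := Iff.rfl

theorem mem_stabT_singleton {u : V} (hu0 : u ≠ 0) {g : O Q} :
    g ∈ stabT Q (Submodule.span F {u}) ↔ ∃ t : F, t ≠ 0 ∧ (g : V ≃ₗ[F] V) u = t • u := by
  rw [mem_stabT, Submodule.map_span, Set.image_singleton, LinearEquiv.coe_coe]
  constructor
  · intro h
    have hm : (g : V ≃ₗ[F] V) u ∈ Submodule.span F {u} :=
      h ▸ Submodule.mem_span_singleton_self _
    obtain ⟨t, ht⟩ := Submodule.mem_span_singleton.1 hm
    refine ⟨t, fun h0 => hu0 ((g : V ≃ₗ[F] V).injective ?_), ht.symm⟩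
    rw [← ht, h0, zero_smul, map_zero]
  · rintro ⟨t, ht, h⟩
    rw [h, Submodule.span_singleton_smul_eq ht.isUnit]

/-- The orbit of a subspace has as many elements as the index of its stabiliser. -/
theorem card_orbit_stabT (K : Subgroup (O Q)) (T : Submodule F V) :
    Nat.card (Set.range fun g : K => T.map (((g : O Q) : V ≃ₗ[F] V) : V →ₗ[F] V)) =
      ((stabT Q T).subgroupOf K).index := by
  let f : K ⧸ (stabT Q T).subgroupOf K → Submodule F V := Quotient.lift
    (fun g : K => T.map (((g : O Q) : V ≃ₗ[F] V) : V →ₗ[F] V)) (by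
      intro a b hab
      have h : a⁻¹ * b ∈ (stabT Q T).subgroupOf K := QuotientGroup.leftRel_apply.1 hab
      rw [Subgroup.mem_subgroupOf] at h
      rw [mem_stabT] at h
      conv_lhs => rw [← h]
      rw [← Submodule.map_comp]
      congr 1
      exact LinearMap.ext fun x => ((a : O Q) : V ≃ₗ[F] V).apply_symm_apply _)
  have hinj : Function.Injective f := by
    rintro ⟨a⟩ ⟨b⟩ h
    refine Quotient.sound ?_
    change QuotientGroup.leftRel _ a b
    rw [QuotientGroup.leftRel_apply, Subgroup.mem_subgroupOf, mem_stabT]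
    change T.map (((((a : O Q) : V ≃ₗ[F] V).symm : V ≃ₗ[F] V) : V →ₗ[F] V).comp
      (((b : O Q) : V ≃ₗ[F] V) : V →ₗ[F] V)) = T
    rw [Submodule.map_comp, ← show T.map (((a : O Q) : V ≃ₗ[F] V) : V →ₗ[F] V) =
      T.map (((b : O Q) : V ≃ₗ[F] V) : V →ₗ[F] V) from h, ← Submodule.map_comp]
    convert Submodule.map_id T
    exact LinearMap.ext fun x => ((a : O Q) : V ≃ₗ[F] V).symm_apply_apply x
  rw [Subgroup.index, ← Nat.card_range_of_injective hinj]
  refine Nat.card_congr (Equiv.setCongr ?_)
  ext W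
  constructor
  · rintro ⟨g, rfl⟩; exact ⟨QuotientGroup.mk g, rfl⟩
  · rintro ⟨⟨g⟩, rfl⟩; exact ⟨g, rfl⟩

variable [FiniteDimensional F V] [Finite F]

/-- Zeros and singular points. -/
theorem card_zero_eq_pointCount :
    Nat.card {x : V // Q x = 0} = pointCount Q * (Nat.card F - 1) + 1 := by
  classical
  have : Finite V := Module.finite_of_finite F
  have : Fintype V := Fintype.ofFinite V
  have h1 : Nat.card {x : V // Q x = 0} = Nat.card {x : V // Q x = 0 ∧ x ≠ 0} + 1 := by
    rw [Nat.card_eq_fintype_card, Nat.card_eq_fintype_card, Fintype.card_subtype,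
      Fintype.card_subtype]
    have : Finset.univ.filter (fun x : V => Q x = 0) =
        insert 0 (Finset.univ.filter fun x : V => Q x = 0 ∧ x ≠ 0) := by
      ext x; by_cases hx : x = 0 <;> simp [hx]
    rw [this, Finset.card_insert_of_notMem (by simp)]
  rw [h1, pointCount]
  congr 1
  let : Fintype {W : Submodule F V // IsPt Q W} := Fintype.ofFinite _
  have key : ∀ x : {x : V // Q x = 0 ∧ x ≠ 0}, IsPt Q (Submodule.span F {(x : V)}) := fun x =>
    ⟨x, x.2.2, x.2.1, rfl⟩
  have aux : ∀ {W : Submodule F V}, IsPt Q W → ∀ {x : V}, x ∈ W → x ≠ 0 →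
      Q x = 0 ∧ Submodule.span F {x} = W := by
    rintro _ ⟨u, hu0, hu, rfl⟩ x hx hx0
    obtain ⟨a, rfl⟩ := Submodule.mem_span_singleton.1 hx
    have ha : a ≠ 0 := fun h => hx0 (by simp [h])
    exact ⟨by rw [qmap_smul, hu, mul_zero], Submodule.span_singleton_smul_eq ha.isUnit u⟩
  let pt : {x : V // Q x = 0 ∧ x ≠ 0} → {W : Submodule F V // IsPt Q W} := fun x => ⟨_, key x⟩
  have e : {x : V // Q x = 0 ∧ x ≠ 0} ≃
      Σ W : {W : Submodule F V // IsPt Q W}, {x : (W : Submodule F V) // x ≠ 0} :=
    (Equiv.sigmaFiberEquiv pt).symm.trans <| Equiv.sigmaCongrRight fun W =>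
      { toFun := fun x => ⟨⟨(x.1 : V), by
            have hx : Submodule.span F {(x.1 : V)} = W.1 := congrArg Subtype.val x.2
            rw [← hx]; exact Submodule.mem_span_singleton_self _⟩,
          fun h => x.1.2.2 (congrArg Subtype.val h)⟩
        invFun := fun y => ⟨⟨(y.1 : V), (aux W.2 y.1.2 fun h => y.2 (Subtype.ext h)).1,
          fun h => y.2 (Subtype.ext h)⟩,
          Subtype.ext (aux W.2 y.1.2 fun h => y.2 (Subtype.ext h)).2⟩
        left_inv := fun x => rfl
        right_inv := fun y => rfl }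
  rw [Nat.card_congr e, Nat.card_sigma, Nat.card_eq_fintype_card]
  refine (Finset.sum_const_nat fun W _ => ?_).trans (by rw [Finset.card_univ])
  obtain ⟨W, u, hu0, hu, rfl⟩ := W
  have hu' : finrank F (Submodule.span F {u}) = 1 := finrank_span_singleton hu0
  have hc := natCard_eq_pow (Submodule.span F {u})
  rw [hu', pow_one] at hc
  rw [← hc]
  have : Fintype (Submodule.span F {u}) := Fintype.ofFinite _
  rw [Nat.card_eq_fintype_card, Nat.card_eq_fintype_card, Fintype.card_subtype_compl,
    Fintype.card_subtype_eq]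

/-- The number of zeros, up to the type. -/
theorem exists_zero_count (hQ : Nondeg Q) :
    ∃ k r, r ≤ 2 ∧ 2 * k + r = finrank F V ∧
      Nat.card F * Nat.card {x : V // Q x = 0} + Nat.card F ^ (k + r) =
        Nat.card F ^ finrank F V + Nat.card F ^ (k + 1) := by
  obtain ⟨k, e, f, hef, ha⟩ := hQ.exists_frame
  have h1 := card_zero_frame hef ha
  have h2 := hef.finrank_kernel hQ
  have h3 := finrank_le_two_of_aniso (hef.nondeg_kernel hQ) ha
  refine ⟨k, finrank F (kernel Q e f), h3, by omega, ?_⟩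
  rwa [show 2 * k + finrank F (kernel Q e f) = finrank F V by omega] at h1

/-- The number of singular points is prime to the characteristic. -/
theorem not_dvd_pointCount (hQ : Nondeg Q) (hn : 5 ≤ finrank F V) {p : ℕ} [Fact p.Prime]
    [CharP F p] : ¬ p ∣ pointCount Q := by
  intro hp
  obtain ⟨k, r, hr, hkr, h⟩ := exists_zero_count hQ
  have : Fintype F := Fintype.ofFinite F
  obtain ⟨f, hf⟩ : ∃ f : ℕ+, Fintype.card F = p ^ (f : ℕ) := by
    obtain ⟨f, -, hf⟩ := FiniteField.card F p
    exact ⟨f, hf⟩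
  rw [← Nat.card_eq_fintype_card] at hf
  have hpq : p ∣ Nat.card F := hf ▸ dvd_pow_self p f.ne_zero
  obtain ⟨d, hd⟩ : ∃ d, k + r = d + 2 := ⟨k + r - 2, by omega⟩
  obtain ⟨d', hd'⟩ : ∃ d, k + 1 = d + 2 := ⟨k - 1, by omega⟩
  obtain ⟨d'', hd''⟩ : ∃ d, finrank F V = d + 2 := ⟨finrank F V - 2, by omega⟩
  have hq0 : 0 < Nat.card F := Nat.card_pos
  rw [hd, hd', hd'', pow_succ', pow_succ' _ (d' + 1), pow_succ' _ (d'' + 1), ← mul_add, ← mul_add,
    Nat.mul_right_inj hq0.ne'] at h
  have hA : p ∣ Nat.card F ^ (d + 1) := dvd_pow hpq (by omega)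
  have hB : p ∣ Nat.card F ^ (d'' + 1) + Nat.card F ^ (d' + 1) :=
    Dvd.dvd.add (dvd_pow hpq (by omega)) (dvd_pow hpq (by omega))
  have hZ : p ∣ Nat.card {x : V // Q x = 0} := (Nat.dvd_add_left hA).1 (h ▸ hB)
  rw [card_zero_eq_pointCount (Q := Q)] at hZ
  exact (Fact.out : p.Prime).not_dvd_one ((Nat.dvd_add_right (dvd_mul_of_dvd_left hp _)).1 hZ)

omit [Finite F] [FiniteDimensional F V] in
theorem polar_sum_smul {k : ℕ} (x : V) (c : Fin k → F) (t : Fin k → V) :
    polar Q x (∑ i, c i • t i) = ∑ i, c i * polar Q x (t i) := by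
  rw [← polarBilin_apply', map_sum]
  exact Finset.sum_congr rfl fun i _ => by rw [polarBilin_apply', polar_smul_right']

/-! ### Opposite families -/

omit [Finite F] [FiniteDimensional F V] in
/-- Correcting a dual family to a totally singular one. -/
theorem exists_fix_opp {k : ℕ} {t : Fin k → V} (htq : ∀ i, Q (t i) = 0)
    (htt : ∀ i j, polar Q (t i) (t j) = 0) {s : Fin k → V}
    (hts : ∀ i j, polar Q (t i) (s j) = if i = j then 1 else 0) :
    ∃ s' : Fin k → V, IsFrame Q t s' ∧ ∀ j, ∃ a : Fin k → F,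
      (∀ i, j < i → a i = 0) ∧ s' j = s j + ∑ i, a i • t i := by
  let a : Fin k → Fin k → F := fun j i =>
    if i = j then -Q (s j) else if i < j then -polar Q (s i) (s j) else 0
  have hsum : ∀ j x, polar Q x (∑ i, a j i • t i) = ∑ i, a j i * polar Q x (t i) := fun j x =>
    polar_sum_smul x _ _
  have hQsum : ∀ j, Q (∑ i, a j i • t i) = 0 := by
    intro j
    have : ∀ S : Finset (Fin k), Q (∑ i ∈ S, a j i • t i) = 0 ∧
        ∀ l, polar Q (t l) (∑ i ∈ S, a j i • t i) = 0 := by
      intro S
      induction S using Finset.induction_on with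
      | empty => simp
      | insert i S hi ih =>
        rw [Finset.sum_insert hi]
        refine ⟨?_, fun l => ?_⟩
        · rw [map_add_polar, qmap_smul, htq, ih.1, polar_smul_left', ih.2]; ring
        · rw [polar_add_right, polar_smul_right', htt, ih.2]; ring
    exact (this Finset.univ).1
  have hst : ∀ i j, polar Q (s i) (t j) = if j = i then 1 else 0 := fun i j => by
    rw [polar_comm, hts]
  have hsa : ∀ i j, polar Q (s i) (∑ l, a j l • t l) = a j i := fun i j => by
    simp [hsum, hst]
  have hta : ∀ i j, polar Q (t i) (∑ l, a j l • t l) = 0 := fun i j => by simp [hsum, htt]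
  refine ⟨fun j => s j + ∑ i, a j i • t i, ⟨htq, fun j => ?_, fun i j => ?_, htt, fun i j => ?_⟩,
    fun j => ⟨a j, fun i hi => by simp [a, hi.ne', hi.not_gt], rfl⟩⟩
  · rw [map_add_polar, hQsum, hsa]
    simp [a]
  · rw [polar_add_right, hts, hta, add_zero]
  · have hcross : polar Q (∑ l, a i l • t l) (∑ l, a j l • t l) = 0 := by
      rw [hsum]
      refine Finset.sum_eq_zero fun l _ => ?_
      rw [polar_comm, hta, mul_zero]
    have hq : ∀ i j, polar Q (s i + ∑ l, a i l • t l) (s j + ∑ l, a j l • t l) =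
        polar Q (s i) (s j) + a j i + a i j + polar Q (∑ l, a i l • t l) (∑ l, a j l • t l) := by
      intro i j
      rw [polar_add_left, polar_add_right, polar_add_right, hsa,
        polar_comm (⇑Q) (∑ l, a i l • t l) (s j), hsa]
      ring
    change polar Q (s i + ∑ l, a i l • t l) (s j + ∑ l, a j l • t l) = 0
    rw [hq, hcross]
    rcases lt_trichotomy i j with h | rfl | h
    · simp [a, h, h.ne, h.ne', h.not_gt]
    · simp [a, polar_self']; ring
    · simp [a, h, h.ne, h.ne', h.not_gt, polar_comm (⇑Q) (s j) (s i)]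

omit [Finite F] in
/-- The Eichler group is transitive on the families opposite to a fixed one. -/
theorem exists_sie_opp {k : ℕ} {t s s' : Fin k → V} (h : IsFrame Q t s) (h' : IsFrame Q t s') :
    ∃ g ∈ sieGroup Q, ∀ j, (g : V ≃ₗ[F] V) (s j) = s' j := by
  classical
  suffices ∀ S : Finset (Fin k), ∃ g ∈ sieGroup Q, (∀ i, (g : V ≃ₗ[F] V) (t i) = t i) ∧
      ∀ j ∈ S, (g : V ≃ₗ[F] V) (s j) = s' j by
    obtain ⟨g, hg, -, hg'⟩ := this Finset.univ
    exact ⟨g, hg, fun j => hg' j (Finset.mem_univ j)⟩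
  intro S
  induction S using Finset.induction_on with
  | empty => exact ⟨1, one_mem _, fun i => rfl, by simp⟩
  | insert i S hi ih =>
    obtain ⟨g, hg, hgt, hgs⟩ := ih
    have hu : ∀ l, polar Q ((g : V ≃ₗ[F] V) (s i)) (t l) = if l = i then 1 else 0 := fun l => by
      rw [← hgt l, O.polar_app, polar_comm, h.ef]
    have hv : ∀ l, polar Q (s' i) (t l) = if l = i then 1 else 0 := fun l => by
      rw [polar_comm, h'.ef]
    obtain ⟨e, he, heu, hef, hfix⟩ := exists_sie_partner (Q := Q)
      (u := (g : V ≃ₗ[F] V) (s i)) (v := s' i) (f := t i) (by rw [O.map_app, h.qf]) (h'.qf i)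
      (h.qe i) (by rw [hu, if_pos rfl]) (by rw [hv, if_pos rfl])
    refine ⟨e * g, mul_mem he hg, fun l => ?_, fun j hj => ?_⟩
    · rw [Subgroup.coe_mul, mul_app, hgt]
      by_cases hl : l = i
      · subst hl; exact hef
      · exact hfix _ (by rw [hu, if_neg hl]) (by rw [hv, if_neg hl]) (h.ee _ _)
    · rw [Subgroup.coe_mul, mul_app]
      rcases Finset.mem_insert.1 hj with rfl | hj'
      · exact heu
      · have hji : i ≠ j := fun h0 => hi (h0 ▸ hj')
        rw [hgs j hj']
        refine hfix _ ?_ (h'.ff _ _) (by rw [h'.ef, if_neg hji])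
        rw [← hgs j hj', O.polar_app, h.ff]

/-- Lower bound for the orbit of a totally singular subspace. -/
theorem pow_le_card_orbit (hQ : Nondeg Q) {k : ℕ} {t s : Fin k → V} (h : IsFrame Q t s)
    (K : Subgroup (O Q)) (hK : sieGroup Q ≤ K) :
    Nat.card F ^ (k * (finrank F V - 2 * k) + k * (k - 1) / 2) ≤
      Nat.card (Set.range fun g : K =>
        (Submodule.span F (Set.range s)).map (((g : O Q) : V ≃ₗ[F] V) : V →ₗ[F] V)) := by
  classical
  have : Finite V := Module.finite_of_finite F
  have : Fintype F := Fintype.ofFinite F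
  let P := {p : Fin k × Fin k // p.2 < p.1}
  let D := (Fin k → kernel Q t s) × (P → F)
  let pre : D → Fin k → V := fun d j => s j + (d.1 j : V) +
    ∑ i, (if h0 : j < i then d.2 ⟨(i, j), h0⟩ else 0) • t i
  have hpre : ∀ d i j, polar Q (t i) (pre d j) = if i = j then 1 else 0 := by
    intro d i j
    have h1 : polar Q (t i) (d.1 j : V) = 0 := (mem_kernel.1 (d.1 j).2).1 i
    have h2 : polar Q (t i) (∑ l, (if h0 : j < l then d.2 ⟨(l, j), h0⟩ else 0) • t l) = 0 := by
      rw [polar_sum_smul]
      simp [h.ee]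
    simp only [pre, polar_add_right, h.ef, h1, h2, add_zero]
  choose fam hfam ha using fun d => exists_fix_opp h.qe h.ee (hpre d)
  have hmem : ∀ d, Submodule.span F (Set.range (fam d)) ∈ Set.range fun g : K =>
      (Submodule.span F (Set.range s)).map (((g : O Q) : V ≃ₗ[F] V) : V →ₗ[F] V) := by
    intro d
    obtain ⟨g, hg, hgs⟩ := exists_sie_opp h (hfam d)
    refine ⟨⟨g, hK hg⟩, ?_⟩
    simp only
    rw [Submodule.map_span, ← Set.range_comp]
    congr 2
    funext j
    exact hgs j
  have hinj : Function.Injective fun d => (⟨_, hmem d⟩ : Set.range fun g : K =>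
      (Submodule.span F (Set.range s)).map (((g : O Q) : V ≃ₗ[F] V) : V →ₗ[F] V)) := by
    intro d d' hdd
    have hspan : Submodule.span F (Set.range (fam d)) = Submodule.span F (Set.range (fam d')) :=
      congrArg Subtype.val hdd
    have hfe : ∀ j, fam d j = fam d' j := by
      intro j
      have hm : fam d j ∈ Submodule.span F (Set.range (fam d')) :=
        hspan ▸ Submodule.subset_span ⟨j, rfl⟩
      obtain ⟨c, hc⟩ := (Submodule.mem_span_range_iff_exists_fun F).1 hm
      have hci : ∀ i, c i = if i = j then 1 else 0 := fun i => by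
        have h3 : polar Q (t i) (∑ l, c l • fam d' l) = polar Q (t i) (fam d j) := by rw [hc]
        rw [(hfam d).ef, polar_sum_smul] at h3
        simpa [(hfam d').ef] using h3
      rw [← hc]
      simp [hci]
    have hker : ∀ (d'' : D) i j, polar Q (s i) (d''.1 j : V) = 0 := fun d'' i j =>
      (mem_kernel.1 (d''.1 j).2).2 i
    have hrec : ∀ (d'' : D) i j, (h0 : j < i) → polar Q (s i) (fam d'' j) = d''.2 ⟨(i, j), h0⟩ := by
      intro d'' i j h0
      obtain ⟨a, ha0, hfa⟩ := ha d'' j
      have hs : ∀ c : Fin k → F, polar Q (s i) (∑ l, c l • t l) = c i := fun c => by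
        rw [polar_sum_smul]
        simp [h.fe]
      rw [hfa]
      simp only [pre, polar_add_right, h.ff, hker, hs, ha0 i h0, dif_pos h0, add_zero, zero_add]
    have hc2 : d.2 = d'.2 := funext fun ⟨⟨i, j⟩, h0⟩ => by
      rw [← hrec d i j h0, ← hrec d' i j h0, hfe]
    refine Prod.ext (funext fun j => Subtype.ext ?_) hc2
    obtain ⟨a, -, hfa⟩ := ha d j
    obtain ⟨a', -, hfa'⟩ := ha d' j
    have h4 := hfe j
    rw [hfa, hfa'] at h4
    simp only [pre, hc2] at h4
    have h5 : (d.1 j : V) - (d'.1 j : V) = ∑ l, (a' l - a l) • t l := by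
      simp only [sub_smul, Finset.sum_sub_distrib]
      linear_combination (norm := abel) h4
    have h6 : ∀ i, a' i - a i = 0 := fun i => by
      have h7 : polar Q (s i) ((d.1 j : V) - (d'.1 j : V)) =
          polar Q (s i) (∑ l, (a' l - a l) • t l) := by rw [h5]
      rw [polar_sub_right, hker, hker, sub_zero, polar_sum_smul] at h7
      simpa [h.fe] using h7.symm
    rw [← sub_eq_zero, h5]
    simp [h6]
  have hcard : Nat.card D = Nat.card F ^ (k * (finrank F V - 2 * k) + k * (k - 1) / 2) := by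
    have hk : finrank F (kernel Q t s) = finrank F V - 2 * k := by
      have := h.finrank_kernel hQ; omega
    have hP : Nat.card P = k * (k - 1) / 2 := by
      rw [← Finset.sum_range_id, ← Fin.sum_univ_eq_sum_range fun i => i]
      rw [Nat.card_congr (Equiv.subtypeProdEquivSigmaSubtype fun a b : Fin k => b < a),
        Nat.card_sigma]
      refine Finset.sum_congr rfl fun i _ => ?_
      rw [Nat.card_eq_fintype_card, Fintype.card_subtype]
      simp [Finset.filter_gt_eq_Iio, Fin.card_Iio]
    rw [Nat.card_prod, Nat.card_fun, Nat.card_fun, natCard_eq_pow, hk, hP, Nat.card_fin, ← pow_mul,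
      ← pow_add, mul_comm (finrank F V - 2 * k)]
  rw [← hcard]
  exact Nat.card_le_card_of_injective _ hinj

/-- The number of singular points is the index of a point stabiliser. -/
theorem index_stab_point (hQ : Nondeg Q) (hn : 3 ≤ finrank F V) (K : Subgroup (O Q))
    (hK : sieGroup Q ≤ K) {u : V} (hu0 : u ≠ 0) (hu : Q u = 0) :
    ((stabT Q (Submodule.span F {u})).subgroupOf K).index = pointCount Q := by
  rw [← card_orbit_stabT, pointCount]
  refine Nat.card_congr (Equiv.setCongr (Set.ext fun W => ⟨?_, ?_⟩))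
  · rintro ⟨g, rfl⟩
    refine ⟨((g : O Q) : V ≃ₗ[F] V) u, fun h0 => hu0 ?_, by rw [O.map_app]; exact hu, ?_⟩
    · exact ((g : O Q) : V ≃ₗ[F] V).injective (by rw [h0, map_zero])
    · simp [Submodule.map_span]
  · rintro ⟨v, hv0, hv, rfl⟩
    obtain ⟨g, hg, c, hc, hgc⟩ := exists_sie_point hQ hn hu0 hv0 hu hv
    refine ⟨⟨g, hK hg⟩, ?_⟩
    simp [Submodule.map_span, hgc, Submodule.span_singleton_smul_eq hc.isUnit]

/-- The key inequality. -/
theorem pointCount_lt_index (hQ : Nondeg Q) (hn : 7 ≤ finrank F V) (K : Subgroup (O Q))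
    (hK : sieGroup Q ≤ K) {T : Submodule F V} (hT : TotSing Q T) (h2 : 2 ≤ finrank F T)
    (h8 : ¬ (finrank F V = 8 ∧ finrank F T = 4)) :
    pointCount Q < ((stabT Q T).subgroupOf K).index := by
  classical
  have : Fintype F := Fintype.ofFinite F
  obtain ⟨k, hk⟩ : ∃ k, k = finrank F T := ⟨_, rfl⟩
  rw [← hk] at h2 h8
  let b : Basis (Fin k) F T := (Module.finBasisOfFinrankEq F T hk.symm)
  let t : Fin k → V := fun i => (b i : V)
  have htq : ∀ i, Q (t i) = 0 := fun i => hT _ (b i).2
  have htt : ∀ i j, polar Q (t i) (t j) = 0 := fun i j => hT.polar_eq (b i).2 (b j).2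
  have hdual : ∀ j, ∃ w, ∀ i, polar Q (t i) w = if i = j then 1 else 0 := by
    intro j
    obtain ⟨l, hl⟩ := LinearMap.exists_extend (b.coord j)
    obtain ⟨w, hw⟩ := hQ.exists_repr l
    refine ⟨w, fun i => ?_⟩
    rw [polar_comm, hw]
    have := LinearMap.congr_fun hl (b i)
    simp only [LinearMap.comp_apply, Submodule.subtype_apply] at this
    rw [this]
    simp [Finsupp.single_apply, eq_comm]
  choose s0 hs0 using hdual
  obtain ⟨s, hfr, -⟩ := exists_fix_opp htq htt fun i j => hs0 j i
  have hfr' : IsFrame Q s t :=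
    ⟨hfr.qf, hfr.qe, fun i j => hfr.fe i j, hfr.ff, hfr.ee⟩
  have hspan : Submodule.span F (Set.range t) = T := by
    have := congrArg (Submodule.map T.subtype) b.span_eq
    rw [Submodule.map_span, Submodule.map_top, Submodule.range_subtype, ← Set.range_comp] at this
    exact this
  have hle := pow_le_card_orbit hQ hfr' K hK
  rw [hspan, card_orbit_stabT] at hle
  refine lt_of_lt_of_le ?_ hle
  obtain ⟨e, he⟩ : ∃ e, e = k * (finrank F V - 2 * k) + k * (k - 1) / 2 := ⟨_, rfl⟩
  rw [← he]
  have hkn : 2 * k ≤ finrank F V := hk ▸ TotSing.two_mul_finrank_le hQ hT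
  obtain ⟨d, hd⟩ : ∃ d, finrank F V = 2 * k + d := ⟨_, (Nat.add_sub_cancel' hkn).symm⟩
  rw [hd, Nat.add_sub_cancel_left] at he
  obtain ⟨c, r, hr, hcr, hZ⟩ := exists_zero_count hQ
  have hq : 2 ≤ Nat.card F := Finite.one_lt_card
  have hN : pointCount Q ≤ pointCount Q * (Nat.card F - 1) :=
    Nat.le_mul_of_pos_right _ (by omega)
  have hZ' := card_zero_eq_pointCount (Q := Q)
  have hcases : finrank F V ≤ e ∨ (finrank F V = 7 ∧ e = 6) := by
    rcases (show k = 2 ∨ k = 3 ∨ k = 4 ∨ 5 ≤ k by omega) with rfl | rfl | rfl | hk5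
    · simp at he; omega
    · simp at he; omega
    · simp at he; omega
    · left
      have h1 : 2 * k ≤ k * (k - 1) / 2 := by
        rw [Nat.le_div_iff_mul_le two_pos]
        have : k * 4 ≤ k * (k - 1) := Nat.mul_le_mul_left k (by omega)
        omega
      have h3 : d ≤ k * d := Nat.le_mul_of_pos_left d (by omega)
      omega
  rcases hcases with hc | ⟨h7, hc⟩
  · refine lt_of_lt_of_le ?_ (Nat.pow_le_pow_right (by omega) hc)
    have h4 : Nat.card F ^ (c + 1) ≤ Nat.card F ^ finrank F V :=
      Nat.pow_le_pow_right (by omega) (by omega)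
    have h5 : Nat.card F * Nat.card {x : V // Q x = 0} ≤ Nat.card F * Nat.card F ^ finrank F V :=
      le_trans (show _ ≤ Nat.card F ^ finrank F V + Nat.card F ^ finrank F V by omega)
        (by rw [← two_mul]; exact Nat.mul_le_mul_right _ hq)
    have h6 := Nat.le_of_mul_le_mul_left h5 (by omega)
    omega
  · rw [h7] at hZ hcr
    have hc3 : c = 3 ∧ r = 1 := by omega
    rw [hc3.1, hc3.2, show 3 + 1 = 4 from rfl, Nat.add_right_cancel_iff, pow_succ',
      Nat.mul_right_inj (by omega)] at hZ
    rw [hc]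
    omega

end Cfsg.Agent.Orthogonal
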