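import Cfsg.Prelude.Def_KGroupFacts
import Cfsg.Agent.Orthogonal.AutBridge
import Cfsg.Agent.H56.OutPSL

/-!
The outer automorphism group of the simple orthogonal group as a quotient of the semisimilarity
group, with its map to the field automorphisms.
-/

set_option autoImplicit false
set_option linter.unusedSectionVars false

namespace Cfsg.Agent.Orthogonal

open QuadraticMap Module

section Abstract

/-- A split extension with commuting section is a direct product. -/
theorem mulEquiv_prod_of_section {X A C : Type*} [Group X] [Group A] [Group C] (π : X →* C)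
    (s : C →* X) (i : A →* X) (hs : ∀ c, π (s c) = c) (hi : Function.Injective i)
    (hker : i.range = π.ker) (hc : ∀ a c, Commute (i a) (s c)) : Nonempty (X ≃* A × C) := by
  have hφ : Function.Bijective (i.noncommCoprod s hc) := by
    constructor
    · rw [injective_iff_map_eq_one]
      rintro ⟨a, c⟩ h
      rw [MonoidHom.noncommCoprod_apply] at h
      have h1 := congrArg π h
      have hk : π (i a) = 1 := by rw [← MonoidHom.mem_ker, ← hker]; exact ⟨a, rfl⟩
      rw [map_mul, hk, hs, one_mul, map_one] at h1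
      subst h1
      rw [map_one, mul_one] at h
      have ha : a = 1 := hi (h.trans (map_one i).symm)
      subst ha
      rfl
    · intro x
      have hm : x * (s (π x))⁻¹ ∈ i.range := by
        rw [hker, MonoidHom.mem_ker, map_mul, map_inv, hs, mul_inv_cancel]
      obtain ⟨a, ha⟩ := hm
      exact ⟨(a, π x), by rw [MonoidHom.noncommCoprod_apply, ha, inv_mul_cancel_right]⟩
  exact ⟨(MulEquiv.ofBijective _ hφ).symm⟩

/-- Transport of automorphisms along an isomorphism. -/
def mulAutCongr {G H : Type*} [Group G] [Group H] (e : G ≃* H) : MulAut G ≃* MulAut H where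
  toFun a := (e.symm.trans a).trans e
  invFun b := (e.trans b).trans e.symm
  left_inv a := MulEquiv.ext fun x => by simp
  right_inv b := MulEquiv.ext fun x => by simp
  map_mul' a b := MulEquiv.ext fun x => by simp

/-- Isomorphic groups have isomorphic outer automorphism groups. -/
theorem out_congr {G H : Type*} [Group G] [Group H] (e : G ≃* H) :
    Nonempty (Cfsg.Out G ≃* Cfsg.Out H) := by
  refine ⟨QuotientGroup.congr _ _ (mulAutCongr e) ?_⟩
  ext x
  constructor
  · rintro ⟨_, ⟨g, rfl⟩, rfl⟩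
    exact ⟨e g, MulEquiv.ext fun z => by simp [mulAutCongr]⟩
  · rintro ⟨h, rfl⟩
    exact ⟨_, ⟨e.symm h, rfl⟩, MulEquiv.ext fun z => by simp [mulAutCongr]⟩

end Abstract

section Generic

variable {F V : Type*} [Field F] [AddCommGroup V] [Module F V]
variable {Q : QuadraticForm F V}

/-- A non-zero scalar as a semisimilarity. -/
def scalarSemi (Q : QuadraticForm F V) (a : Fˣ) : semiGroup Q :=
  ⟨MulAction.toPerm a, RingEquiv.refl F, (a : F) ^ 2,
    ⟨fun x y => smul_add (a : F) x y,
      fun t x => by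
        change (a : F) • (t • x) = t • ((a : F) • x)
        rw [smul_comm],
      pow_ne_zero _ a.ne_zero,
      fun x => by
        change Q ((a : F) • x) = _
        rw [qmap_smul]; rfl⟩⟩

theorem scalarSemi_apply (a : Fˣ) (x : V) : (scalarSemi Q a).1 x = (a : F) • x := rfl

theorem semiMap_scalar (a : Fˣ) (g : O Q) : semiMap (scalarSemi Q a) g = g :=
  O.ext_app fun x => by
    rw [semiMap_app, scalarSemi_apply, ← map_smul, ← scalarSemi_apply (Q := Q), papply_inv]

theorem semiAut_scalar (a : Fˣ) : semiAut (scalarSemi Q a) = 1 :=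
  MulEquiv.ext fun x => by
    obtain ⟨g, rfl⟩ := QuotientGroup.mk'_surjective _ x
    rw [semiAut_mk]
    exact congrArg _ (Subtype.ext (semiMap_scalar a (g : O Q)))

theorem semiAut_ofO_of_mem {g : O Q} (hg : g ∈ commutator (O Q)) :
    semiAut (ofO g) = MulAut.conj (toPC Q ⟨g, hg⟩) :=
  MulEquiv.ext fun x => by
    obtain ⟨y, rfl⟩ := QuotientGroup.mk'_surjective _ x
    rw [semiAut_mk, MulAut.conj_apply, ← map_inv, ← map_mul, ← map_mul]
    exact congrArg _ (Subtype.ext (semiMap_ofO g (y : O Q)))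

/-- The field automorphism, as a homomorphism. -/
noncomputable def fieldHom (Q : QuadraticForm F V) [Nontrivial V] : semiGroup Q →* RingAut F :=
  MonoidHom.mk' fieldOf fun ψ ψ' =>
    (isSemi_fieldOf (ψ * ψ')).field_unique ((isSemi_fieldOf ψ).mul (isSemi_fieldOf ψ'))

theorem fieldHom_eq [Nontrivial V] {ψ : semiGroup Q} {σ : F ≃+* F} {c : F}
    (h : IsSemi Q ψ.1 σ c) : fieldHom Q ψ = σ :=
  (isSemi_fieldOf ψ).field_unique h

theorem fieldHom_ofO [Nontrivial V] (g : O Q) : fieldHom Q (ofO g) = 1 :=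
  fieldHom_eq (c := 1) ⟨fun x y => map_add (g : V ≃ₗ[F] V) x y,
    fun a x => map_smul (g : V ≃ₗ[F] V) a x, one_ne_zero,
    fun x => by simp [ofO_apply, O.map_app]⟩

theorem fieldHom_scalar [Nontrivial V] (a : Fˣ) : fieldHom Q (scalarSemi Q a) = 1 := by
  obtain ⟨σ, c, h⟩ := (scalarSemi Q a).2
  refine (fieldHom_eq h).trans ?_
  obtain ⟨v, hv⟩ := exists_ne (0 : V)
  refine RingEquiv.ext fun t => ?_
  have h1 := h.map_smul t v
  rw [scalarSemi_apply, scalarSemi_apply, smul_comm] at h1
  exact (smul_left_injective F (smul_ne_zero a.ne_zero hv) h1).symm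

/-- A semisimilarity in the outer automorphism group. -/
noncomputable def outSemi (Q : QuadraticForm F V) : semiGroup Q →* Cfsg.Out (PC Q) :=
  (QuotientGroup.mk' (Cfsg.Inn (PC Q))).comp semiAut

theorem outSemi_scalar (a : Fˣ) : outSemi Q (scalarSemi Q a) = 1 := by
  rw [outSemi, MonoidHom.comp_apply, semiAut_scalar, map_one]

theorem outSemi_omega {g : O Q} (hg : g ∈ commutator (O Q)) : outSemi Q (ofO g) = 1 := by
  rw [outSemi, MonoidHom.comp_apply, semiAut_ofO_of_mem hg]
  exact (QuotientGroup.eq_one_iff _).2 ⟨_, rfl⟩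

/-- A linear semisimilarity with square multiplier is, in `Out`, an isometry. -/
theorem exists_isometry_of_square (ψ : semiGroup Q) {c : F}
    (h : IsSemi Q ψ.1 (RingEquiv.refl F) c) (hc : IsSquare c) :
    ∃ g : O Q, outSemi Q ψ = outSemi Q (ofO g) := by
  obtain ⟨r, hr⟩ := hc
  have hr0 : r ≠ 0 := fun h0 => h.ne_zero (by rw [hr, h0, mul_zero])
  let L : V ≃ₗ[F] V :=
    { toFun := fun x => r⁻¹ • ψ.1 x
      invFun := fun x => ψ.1⁻¹ (r • x)
      left_inv := fun x => by
        change ψ.1⁻¹ (r • r⁻¹ • ψ.1 x) = x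
        rw [smul_inv_smul₀ hr0, pinv_apply]
      right_inv := fun x => by
        change r⁻¹ • ψ.1 (ψ.1⁻¹ (r • x)) = x
        rw [papply_inv, inv_smul_smul₀ hr0]
      map_add' := fun x y => by rw [h.map_add, smul_add]
      map_smul' := fun a x => by rw [h.map_smul, RingHom.id_apply, smul_comm]; rfl }
  have hL : L ∈ O Q := fun x => by
    change Q (r⁻¹ • ψ.1 x) = Q x
    rw [qmap_smul, h.map_form, hr, RingEquiv.refl_apply]
    field_simp
  refine ⟨⟨L, hL⟩, ?_⟩
  have he : ψ = scalarSemi Q (Units.mk0 r hr0) * ofO ⟨L, hL⟩ :=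
    Subtype.ext (Equiv.ext fun x => (smul_inv_smul₀ hr0 (ψ.1 x)).symm)
  conv_lhs => rw [he, map_mul, outSemi_scalar, one_mul]

variable [FiniteDimensional F V] [Finite F]

theorem outSemi_eq_one_iff (hQ : Nondeg Q) (hn : 5 ≤ finrank F V) (ψ : semiGroup Q) :
    outSemi Q ψ = 1 ↔ ∃ g ∈ commutator (O Q), ∃ a : F, a ≠ 0 ∧
      ∀ x, ψ.1 x = a • (g : V ≃ₗ[F] V) x := by
  constructor
  · intro h
    obtain ⟨x, hx⟩ := (QuotientGroup.eq_one_iff _).1 h
    obtain ⟨g, rfl⟩ := toPC_surjective x
    rw [← semiAut_ofO_of_mem g.2] at hx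
    have h1 : semiAut (ψ * (ofO (g : O Q))⁻¹) = 1 := by rw [map_mul, map_inv, hx, mul_inv_cancel]
    obtain ⟨a, ha, h2⟩ := exists_scalar_of_semiAut_eq_one hQ hn h1
    refine ⟨g, g.2, a, ha, fun y => ?_⟩
    have h3 := h2 ((ofO (g : O Q)).1 y)
    rw [Subgroup.coe_mul, Equiv.Perm.mul_apply, Subgroup.coe_inv, pinv_apply] at h3
    exact h3
  · rintro ⟨g, hg, a, ha, h⟩
    have he : ψ = scalarSemi Q (Units.mk0 a ha) * ofO g := Subtype.ext (Equiv.ext h)
    rw [he, map_mul, outSemi_scalar, outSemi_omega hg, one_mul]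

theorem outSemi_surjective (hQ : Nondeg Q) (hn : 7 ≤ finrank F V) (h8 : NoTriality Q) :
    Function.Surjective (outSemi Q) := fun y => by
  obtain ⟨φ, rfl⟩ := QuotientGroup.mk_surjective y
  obtain ⟨ψ, hψ⟩ := exists_semiAut hQ hn h8 φ
  exact ⟨ψ, by rw [hψ]; rfl⟩

theorem fieldHom_of_outSemi_eq_one [Nontrivial V] (hQ : Nondeg Q) (hn : 5 ≤ finrank F V)
    {ψ : semiGroup Q} (h : outSemi Q ψ = 1) : fieldHom Q ψ = 1 := by
  obtain ⟨g, hg, a, ha, h1⟩ := (outSemi_eq_one_iff hQ hn ψ).1 h
  have he : ψ = scalarSemi Q (Units.mk0 a ha) * ofO g := Subtype.ext (Equiv.ext h1)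
  rw [he, map_mul, fieldHom_scalar, fieldHom_ofO, one_mul]

/-- The field part of an outer automorphism. -/
theorem exists_outField [Nontrivial V] (hQ : Nondeg Q) (hn : 7 ≤ finrank F V)
    (h8 : NoTriality Q) :
    ∃ π : Cfsg.Out (PC Q) →* RingAut F, ∀ ψ, π (outSemi Q ψ) = fieldHom Q ψ :=
  ⟨(outSemi Q).liftOfSurjective (outSemi_surjective hQ hn h8)
      ⟨fieldHom Q, fun _ hψ => fieldHom_of_outSemi_eq_one hQ (by omega) hψ⟩,
    fun ψ => MonoidHom.liftOfRightInverse_comp_apply _ _ _ _ ψ⟩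

theorem conj_injective_PC (hQ : Nondeg Q) (hn : 5 ≤ finrank F V) :
    Function.Injective (MulAut.conj : PC Q →* MulAut (PC Q)) := by
  rw [injective_iff_map_eq_one]
  intro x hx
  obtain ⟨g, rfl⟩ := toPC_surjective x
  rw [← semiAut_ofO_of_mem g.2] at hx
  obtain ⟨a, -, ha⟩ := exists_scalar_of_semiAut_eq_one hQ hn hx
  exact (QuotientGroup.eq_one_iff _).2 ((mem_center_commutator_iff hQ hn g).2 ⟨a, ha⟩)

theorem card_mulAut (hQ : Nondeg Q) (hn : 5 ≤ finrank F V) :
    Nat.card (MulAut (PC Q)) = Nat.card (Cfsg.Out (PC Q)) * Nat.card (PC Q) := by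
  rw [Subgroup.card_eq_card_quotient_mul_card_subgroup (Cfsg.Inn (PC Q)),
    ← Nat.card_congr (MonoidHom.ofInjective (conj_injective_PC hQ hn)).toEquiv]

end Generic

section Coordinates

variable {F : Type*} [Field F] {ι : Type} [Fintype ι] [DecidableEq ι]
variable {Q : QuadraticForm F (ι → F)}

theorem isSemi_coord {σ : F ≃+* F} (h : ∀ v, Q (fun i => σ (v i)) = σ (Q v)) :
    IsSemi Q (Equiv.piCongrRight fun _ => σ.toEquiv) σ 1 where
  map_add x y := by funext i; simp
  map_smul a x := by funext i; simp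
  ne_zero := one_ne_zero
  map_form x := by rw [one_mul]; exact h x

/-- The coordinatewise action of the field automorphisms, for a form over the prime field. -/
def coordHom (h : ∀ (σ : RingAut F) v, Q (fun i => σ (v i)) = σ (Q v)) :
    RingAut F →* semiGroup Q where
  toFun σ := ⟨Equiv.piCongrRight fun _ => σ.toEquiv, σ, 1, isSemi_coord (h σ)⟩
  map_one' := rfl
  map_mul' _ _ := rfl

theorem fieldHom_coordHom [Nontrivial (ι → F)]
    (h : ∀ (σ : RingAut F) v, Q (fun i => σ (v i)) = σ (Q v)) (σ : RingAut F) :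
    fieldHom Q (coordHom h σ) = σ :=
  fieldHom_eq (isSemi_coord (h σ))

variable [Finite F]

theorem card_mulAut_POmega (hQ : Nondeg Q) (hn : 5 ≤ finrank F (ι → F)) :
    Nat.card (MulAut (Cfsg.POmega F (⇑Q))) =
      Nat.card (Cfsg.Out (Cfsg.POmega F (⇑Q))) * Nat.card (Cfsg.POmega F (⇑Q)) := by
  obtain ⟨e⟩ := out_congr (pcEquiv Q)
  rw [Nat.card_congr (mulAutCongr (pcEquiv Q)).toEquiv, card_mulAut hQ hn,
    Nat.card_congr e.toEquiv, Nat.card_congr (pcEquiv Q).toEquiv]

end Coordinates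

end Cfsg.Agent.Orthogonal
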