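import Cfsg.Agent.Orthogonal.AutPoints

/-!
The semisimilarities of a quadratic space and the automorphisms they induce.
-/

set_option autoImplicit false
set_option linter.unusedSectionVars false

namespace Cfsg.Agent.Orthogonal

open QuadraticMap Module

section Functor

variable {G : Type*} [Group G]

theorem map_commutator_top (a : MulAut G) :
    (commutator G).map a.toMonoidHom = commutator G := by
  rw [commutator_def, Subgroup.map_commutator, Subgroup.map_top_of_surjective _ a.surjective]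

/-- An automorphism restricted to the commutator subgroup. -/
def commAut : MulAut G →* MulAut (commutator G) where
  toFun a := (a.subgroupMap (commutator G)).trans (MulEquiv.subgroupCongr (map_commutator_top a))
  map_one' := MulEquiv.ext fun _ => rfl
  map_mul' _ _ := MulEquiv.ext fun _ => rfl

theorem commAut_apply (a : MulAut G) (x : commutator G) : ((commAut a x : commutator G) : G) = a x :=
  rfl

theorem map_center_aut (a : MulAut G) :
    (Subgroup.center G).map a.toMonoidHom = Subgroup.center G := by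
  ext x
  rw [Subgroup.mem_map_equiv, Subgroup.mem_center_iff, Subgroup.mem_center_iff]
  exact ⟨fun h y => a.symm.injective (by simpa using h (a.symm y)),
    fun h y => a.injective (by simpa using h (a y))⟩

/-- An automorphism passed to the central quotient. -/
def quotAut : MulAut G →* MulAut (G ⧸ Subgroup.center G) where
  toFun a := QuotientGroup.congr _ _ a (map_center_aut a)
  map_one' := MulEquiv.ext fun x => by induction x using QuotientGroup.induction_on with | _ s => rfl
  map_mul' _ _ := MulEquiv.ext fun x => by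
    induction x using QuotientGroup.induction_on with | _ s => rfl

theorem quotAut_mk (a : MulAut G) (x : G) : quotAut a (x : G ⧸ Subgroup.center G) = ↑(a x) := rfl

end Functor

variable {F V : Type*} [Field F] [AddCommGroup V] [Module F V]
variable {Q : QuadraticForm F V}

theorem papply_inv (ψ : Equiv.Perm V) (x : V) : ψ (ψ⁻¹ x) = x := ψ.apply_symm_apply x

theorem pinv_apply (ψ : Equiv.Perm V) (x : V) : ψ⁻¹ (ψ x) = x := ψ.symm_apply_apply x

/-- `ψ` is a semisimilarity with field automorphism `σ` and multiplier `c`. -/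
structure IsSemi (Q : QuadraticForm F V) (ψ : Equiv.Perm V) (σ : F ≃+* F) (c : F) : Prop where
  map_add : ∀ x y, ψ (x + y) = ψ x + ψ y
  map_smul : ∀ (a : F) x, ψ (a • x) = σ a • ψ x
  ne_zero : c ≠ 0
  map_form : ∀ x, Q (ψ x) = c * σ (Q x)

namespace IsSemi

variable {ψ ψ' : Equiv.Perm V} {σ σ' : F ≃+* F} {c c' : F}

theorem map_sub (h : IsSemi Q ψ σ c) (x y : V) : ψ (x - y) = ψ x - ψ y := by
  rw [eq_sub_iff_add_eq, ← h.map_add, sub_add_cancel]

theorem map_polar (h : IsSemi Q ψ σ c) (x y : V) : polar Q (ψ x) (ψ y) = c * σ (polar Q x y) := by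
  simp only [polar, ← h.map_add, h.map_form, _root_.map_sub]
  ring

theorem mul (h : IsSemi Q ψ σ c) (h' : IsSemi Q ψ' σ' c') :
    IsSemi Q (ψ * ψ') (σ'.trans σ) (c * σ c') where
  map_add x y := by simp [h.map_add, h'.map_add]
  map_smul a x := by simp [h.map_smul, h'.map_smul]
  ne_zero := mul_ne_zero h.ne_zero (by simp [h'.ne_zero])
  map_form x := by simp [h.map_form, h'.map_form, mul_assoc]

theorem inv (h : IsSemi Q ψ σ c) : IsSemi Q ψ⁻¹ σ.symm (σ.symm c⁻¹) where
  map_add x y := ψ.injective (by rw [h.map_add]; simp)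
  map_smul a x := ψ.injective (by rw [h.map_smul]; simp)
  ne_zero := by simp [h.ne_zero]
  map_form x := σ.injective (by
    have h1 := h.map_form (ψ⁻¹ x)
    rw [papply_inv] at h1
    rw [map_mul, σ.apply_symm_apply, σ.apply_symm_apply, h1, inv_mul_cancel_left₀ h.ne_zero])

theorem one : IsSemi Q (1 : Equiv.Perm V) (RingEquiv.refl F) 1 :=
  ⟨fun _ _ => rfl, fun _ _ => rfl, one_ne_zero, fun x => by simp⟩

end IsSemi

/-- The group of semisimilarities. -/
def semiGroup (Q : QuadraticForm F V) : Subgroup (Equiv.Perm V) where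
  carrier := {ψ | ∃ σ c, IsSemi Q ψ σ c}
  one_mem' := ⟨_, _, IsSemi.one⟩
  mul_mem' := fun ⟨_, _, h⟩ ⟨_, _, h'⟩ => ⟨_, _, h.mul h'⟩
  inv_mem' := fun ⟨_, _, h⟩ => ⟨_, _, h.inv⟩

/-- The conjugate of an isometry by a semisimilarity. -/
def semiMap (ψ : semiGroup Q) (g : O Q) : O Q :=
  ⟨{ toFun := fun x => ψ.1 ((g : V ≃ₗ[F] V) (ψ.1⁻¹ x))
     invFun := fun x => ψ.1 ((g : V ≃ₗ[F] V).symm (ψ.1⁻¹ x))
     left_inv := fun x => by simp
     right_inv := fun x => by simp
     map_add' := fun x y => by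
      obtain ⟨σ, c, h⟩ := ψ.2
      simp [h.map_add, h.inv.map_add]
     map_smul' := fun a x => by
      obtain ⟨σ, c, h⟩ := ψ.2
      simp [h.map_smul, h.inv.map_smul] }, fun x => by
    obtain ⟨σ, c, h⟩ := ψ.2
    change Q (ψ.1 ((g : V ≃ₗ[F] V) (ψ.1⁻¹ x))) = Q x
    rw [h.map_form, O.map_app, ← h.map_form, papply_inv]⟩

theorem semiMap_app (ψ : semiGroup Q) (g : O Q) (x : V) :
    (semiMap ψ g : V ≃ₗ[F] V) x = ψ.1 ((g : V ≃ₗ[F] V) (ψ.1⁻¹ x)) := rfl

theorem semiMap_mul (ψ : semiGroup Q) (g g' : O Q) :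
    semiMap ψ (g * g') = semiMap ψ g * semiMap ψ g' :=
  O.ext_app fun x => by simp [semiMap_app, mul_app]

theorem semiMap_comp (ψ ψ' : semiGroup Q) (g : O Q) :
    semiMap (ψ * ψ') g = semiMap ψ (semiMap ψ' g) :=
  O.ext_app fun x => by simp [semiMap_app, mul_inv_rev]

theorem semiMap_one (g : O Q) : semiMap (1 : semiGroup Q) g = g :=
  O.ext_app fun x => by simp [semiMap_app]

/-- Conjugation by semisimilarities on the orthogonal group. -/
def semiO : semiGroup Q →* MulAut (O Q) where
  toFun ψ :=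
    { toFun := semiMap ψ
      invFun := semiMap ψ⁻¹
      left_inv := fun g => by rw [← semiMap_comp, inv_mul_cancel, semiMap_one]
      right_inv := fun g => by rw [← semiMap_comp, mul_inv_cancel, semiMap_one]
      map_mul' := semiMap_mul ψ }
  map_one' := MulEquiv.ext semiMap_one
  map_mul' ψ ψ' := MulEquiv.ext (semiMap_comp ψ ψ')

theorem semiO_apply (ψ : semiGroup Q) (g : O Q) : semiO ψ g = semiMap ψ g := rfl

/-- The automorphism of the projective commutator group induced by a semisimilarity. -/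
noncomputable def semiAut : semiGroup Q →* MulAut (PC Q) :=
  quotAut.comp (commAut.comp semiO)

theorem semiAut_mk (ψ : semiGroup Q) (g : commutator (O Q)) :
    semiAut ψ (toPC Q g) = toPC Q (commAut (semiO ψ) g) := rfl

theorem semiMap_sie {ψ : semiGroup Q} {σ : F ≃+* F} {c : F} (h : IsSemi Q ψ.1 σ c) {u w : V}
    (hu : Q u = 0) (hw : polar Q u w = 0) :
    semiMap ψ (sie u w hu hw) = sie (ψ.1 u) (c⁻¹ • ψ.1 w) (by rw [h.map_form, hu, map_zero, mul_zero])
      (by rw [polar_smul_right', h.map_polar, hw, map_zero, mul_zero, mul_zero]) := by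
  refine O.ext_app fun y => ?_
  obtain ⟨x, rfl⟩ := ψ.1.surjective y
  rw [semiMap_app, pinv_apply, sie_app, sie_app, h.map_sub, h.map_add, h.map_smul,
    h.map_smul, qmap_smul, h.map_form, polar_smul_left', h.map_polar, h.map_polar, _root_.map_sub,
    map_mul]
  have hc := h.ne_zero
  match_scalars <;> field_simp

/-- An isometry as a semisimilarity. -/
def ofO : O Q →* semiGroup Q where
  toFun g := ⟨(g : V ≃ₗ[F] V).toEquiv, RingEquiv.refl F, 1,
    ⟨fun x y => map_add (g : V ≃ₗ[F] V) x y, fun a x => map_smul (g : V ≃ₗ[F] V) a x,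
      one_ne_zero, fun x => by simp [O.map_app]⟩⟩
  map_one' := rfl
  map_mul' _ _ := rfl

theorem ofO_apply (g : O Q) (x : V) : (ofO g).1 x = (g : V ≃ₗ[F] V) x := rfl

theorem semiMap_ofO (g x : O Q) : semiMap (ofO g) x = g * x * g⁻¹ := O.ext_app fun _ => rfl

theorem semiMap_mem_stabT {ψ : semiGroup Q} {g : O Q} {u : V} (hu0 : u ≠ 0)
    (hg : g ∈ stabT Q (Submodule.span F {u})) :
    semiMap ψ g ∈ stabT Q (Submodule.span F {ψ.1 u}) := by
  obtain ⟨t, ht, hgu⟩ := (mem_stabT_singleton hu0).1 hg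
  obtain ⟨σ, c, h⟩ := ψ.2
  rw [mem_stabT, Submodule.map_span, Set.image_singleton, LinearEquiv.coe_coe, semiMap_app,
    pinv_apply, hgu, h.map_smul,
    Submodule.span_singleton_smul_eq (show IsUnit (σ t) from (by simp [ht] : σ t ≠ 0).isUnit)]

variable [FiniteDimensional F V] [Finite F]

theorem map_stabP_semiAut (ψ : semiGroup Q) {u : V} (hu0 : u ≠ 0) :
    (stabP Q u).map (semiAut ψ).toMonoidHom = stabP Q (ψ.1 u) := by
  have key : ∀ (ψ : semiGroup Q) {u : V}, u ≠ 0 →
      (stabP Q u).map (semiAut ψ).toMonoidHom ≤ stabP Q (ψ.1 u) := by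
    rintro ψ u hu0 _ ⟨_, ⟨g, hg, rfl⟩, rfl⟩
    exact ⟨commAut (semiO ψ) g, semiMap_mem_stabT hu0 hg, rfl⟩
  refine le_antisymm (key ψ hu0) fun x hx => ⟨semiAut ψ⁻¹ x, ?_, ?_⟩
  · have hu0' : ψ.1 u ≠ 0 := fun h0 => hu0 (by
      obtain ⟨σ, c, h⟩ := ψ.2
      have hz : ψ.1 0 = 0 := by simpa using h.map_smul 0 0
      exact ψ.1.injective (h0.trans hz.symm))
    have h1 := key ψ⁻¹ hu0' ⟨x, hx, rfl⟩
    rwa [Subgroup.coe_inv, pinv_apply] at h1
  · change semiAut ψ (semiAut ψ⁻¹ x) = x
    rw [← MulAut.mul_apply, ← map_mul, mul_inv_cancel, map_one]; rfl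

end Cfsg.Agent.Orthogonal
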