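import Cfsg.Agent.Orthogonal.AutAlgebra
import Cfsg.Agent.Orthogonal.AutBound
import Cfsg.Agent.Orthogonal.Extend

/-!
The stabiliser of a singular point in the commutator of an orthogonal group: the abelian unipotent
radical, the Levi complement, and the largest normal `p`-subgroup.
-/

set_option autoImplicit false
set_option linter.unusedSectionVars false

namespace Cfsg.Agent.Orthogonal

open QuadraticMap Module

variable {F V : Type*} [Field F] [AddCommGroup V] [Module F V]

/-- A hyperbolic pair. -/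
structure HypPair (Q : QuadraticForm F V) where
  /-- the first vector -/
  e : V
  /-- the second vector -/
  f : V
  he : Q e = 0
  hf : Q f = 0
  hef : polar Q e f = 1

variable {Q : QuadraticForm F V}

namespace HypPair

/-- The opposite pair. -/
def swap (H : HypPair Q) : HypPair Q :=
  ⟨H.f, H.e, H.hf, H.he, by rw [polar_comm]; exact H.hef⟩

theorem hfe (H : HypPair Q) : polar Q H.f H.e = 1 := by rw [polar_comm]; exact H.hef

theorem e_ne (H : HypPair Q) : H.e ≠ 0 := fun h => by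
  have := H.hef; rw [h, polar_zero_left] at this; exact zero_ne_one this

theorem f_ne (H : HypPair Q) : H.f ≠ 0 := H.swap.e_ne

/-- The orthogonal complement of the plane. -/
abbrev W (H : HypPair Q) : Submodule F V := perp Q (Submodule.span F {H.e, H.f})

theorem mem_W {H : HypPair Q} {x : V} : x ∈ H.W ↔ polar Q H.e x = 0 ∧ polar Q H.f x = 0 :=
  mem_perp_span_pair Q

theorem ew (H : HypPair Q) (w : H.W) : polar Q H.e (w : V) = 0 := (mem_W.1 w.2).1

theorem fw (H : HypPair Q) (w : H.W) : polar Q H.f (w : V) = 0 := (mem_W.1 w.2).2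

/-- The projection to the complement of the plane. -/
def proj (H : HypPair Q) (x : V) : H.W :=
  ⟨x - polar Q H.f x • H.e - polar Q H.e x • H.f, mem_W.2 ⟨by
    simp only [polar_sub_right, polar_smul_right', polar_self', H.he, H.hef]; ring, by
    simp only [polar_sub_right, polar_smul_right', polar_self', H.hf, H.hfe]; ring⟩⟩

theorem decomp (H : HypPair Q) (x : V) :
    x = polar Q H.f x • H.e + polar Q H.e x • H.f + (H.proj x : V) := by
  simp only [proj]; abel

theorem map_decomp (H : HypPair Q) (a b : F) (w : H.W) :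
    Q (a • H.e + b • H.f + (w : V)) = a * b + Q (w : V) := by
  simp only [map_add_polar, qmap_smul, polar_add_left, polar_smul_left', polar_smul_right',
    H.he, H.hf, H.hef, H.ew, H.fw]
  ring

variable [FiniteDimensional F V]

theorem finrank_W (H : HypPair Q) (hQ : Nondeg Q) : finrank F H.W + 2 = finrank F V :=
  hQ.finrank_hyperbolic_perp H.he H.hf H.hef

theorem nondeg_W (H : HypPair Q) (hQ : Nondeg Q) : Nondeg (restr Q H.W) :=
  hQ.nondeg_hyperbolic_perp H.he H.hf H.hef

/-- The unipotent element of a vector of the complement. -/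
noncomputable def sieW (H : HypPair Q) (w : H.W) : O Q := sie H.e (w : V) H.he (H.ew w)

theorem sieW_e (H : HypPair Q) (w : H.W) : (H.sieW w : V ≃ₗ[F] V) H.e = H.e := sie_fix _ _

theorem sieW_f (H : HypPair Q) (w : H.W) :
    (H.sieW w : V ≃ₗ[F] V) H.f = H.f - Q (w : V) • H.e - (w : V) := by
  rw [sieW, sie_app, polar_comm (⇑Q) (w : V) H.f, H.fw, H.hef]
  simp [sub_eq_add_neg]

theorem sieW_mul (H : HypPair Q) (w w' : H.W) : H.sieW w * H.sieW w' = H.sieW (w + w') := by
  rw [sieW, sieW, sie_mul]; exact sie_congr _ _ _ _ rfl rfl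

theorem sieW_zero (H : HypPair Q) : H.sieW 0 = 1 :=
  O.ext_app fun x => by rw [sieW, sie_app]; simp

theorem sieW_inv (H : HypPair Q) (w : H.W) : (H.sieW w)⁻¹ = H.sieW (-w) :=
  inv_eq_of_mul_eq_one_right (by rw [sieW_mul, add_neg_cancel, sieW_zero])

theorem sieW_fix_eq_zero (H : HypPair Q) {w : H.W}
    (h : (H.sieW w : V ≃ₗ[F] V) H.f ∈ Submodule.span F {H.f}) : w = 0 := by
  obtain ⟨c, hc⟩ := Submodule.mem_span_singleton.1 h
  rw [sieW_f] at hc
  have h1 := congrArg (polar Q H.e) hc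
  simp only [polar_smul_right', polar_sub_right, H.hef, polar_self', H.he, H.ew] at h1
  have h2 := congrArg (polar Q H.f) hc
  simp only [polar_smul_right', polar_sub_right, H.hfe, polar_self', H.hf, H.fw] at h2
  have hc1 : c = 1 := by linear_combination h1
  have hq : Q (w : V) = 0 := by linear_combination h2
  rw [hc1, one_smul, hq, zero_smul, sub_zero] at hc
  exact Subtype.ext (sub_eq_self.1 hc.symm)

theorem sieW_injective (H : HypPair Q) : Function.Injective H.sieW := by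
  intro w w' h
  have h1 : H.sieW (w + -w') = 1 := by rw [← sieW_mul, ← sieW_inv, h, mul_inv_cancel]
  have := H.sieW_fix_eq_zero (w := w + -w') (by
    rw [h1]; exact Submodule.mem_span_singleton_self _)
  rw [← sub_eq_zero, sub_eq_add_neg]; exact this

end HypPair

/-- The unipotent radical of the stabiliser of a singular point. -/
noncomputable def unip (Q : QuadraticForm F V) (u : V) (hu : Q u = 0) : Subgroup (O Q) where
  carrier := {g | ∃ (w : V) (hw : polar Q u w = 0), g = sie u w hu hw}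
  one_mem' := ⟨0, polar_zero_right (Q := Q) u, O.ext_app fun x => by rw [sie_app]; simp⟩
  mul_mem' := by
    rintro a b ⟨w, hw, rfl⟩ ⟨w', hw', rfl⟩
    exact ⟨_, _, sie_mul hu hw hw'⟩
  inv_mem' := by
    rintro a ⟨w, hw, rfl⟩
    exact ⟨_, _, sie_inv hu hw⟩

theorem sie_mem_unip {u w : V} (hu : Q u = 0) (hw : polar Q u w = 0) :
    sie u w hu hw ∈ unip Q u hu := ⟨w, hw, rfl⟩

theorem unip_congr {u u' : V} (hu : Q u = 0) (hu' : Q u' = 0) {c : F} (hc : c ≠ 0)
    (h : u' = c • u) : unip Q u' hu' = unip Q u hu := by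
  subst h
  ext g
  constructor
  · rintro ⟨w, hw, rfl⟩
    have hw' : polar Q u w = 0 := by
      rw [polar_smul_left'] at hw; exact (mul_eq_zero.1 hw).resolve_left hc
    exact ⟨c • w, by rw [polar_smul_right', hw', mul_zero], sie_smul hu hw' c⟩
  · rintro ⟨w, hw, rfl⟩
    refine ⟨c⁻¹ • w, by rw [polar_smul_left', polar_smul_right', hw, mul_zero, mul_zero], ?_⟩
    rw [sie_smul hu (by rw [polar_smul_right', hw, mul_zero]) c]
    exact sie_congr _ _ _ _ rfl (by rw [smul_inv_smul₀ hc])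

theorem unip_conj {u : V} (hu : Q u = 0) (g : O Q) {x : O Q} (hx : x ∈ unip Q u hu) :
    g * x * g⁻¹ ∈ unip Q ((g : V ≃ₗ[F] V) u) (by rw [O.map_app]; exact hu) := by
  obtain ⟨w, hw, rfl⟩ := hx
  exact ⟨_, _, sie_conj hu hw g⟩

theorem unip_normal {u : V} (hu : Q u = 0) {g : O Q} {t : F} (ht : t ≠ 0)
    (hg : (g : V ≃ₗ[F] V) u = t • u) {x : O Q} (hx : x ∈ unip Q u hu) :
    g * x * g⁻¹ ∈ unip Q u hu := by
  rw [← unip_congr hu (by rw [O.map_app]; exact hu) ht hg]
  exact unip_conj hu g hx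

theorem unip_fix {u : V} (hu : Q u = 0) {x : O Q} (hx : x ∈ unip Q u hu) :
    (x : V ≃ₗ[F] V) u = u := by
  obtain ⟨w, hw, rfl⟩ := hx
  exact sie_fix hu hw

theorem unip_pow_char {p : ℕ} [CharP F p] {u : V} (hu : Q u = 0) {x : O Q}
    (hx : x ∈ unip Q u hu) : x ^ p = 1 := by
  obtain ⟨w, hw, rfl⟩ := hx
  have h : ∀ k : ℕ, sie u w hu hw ^ k =
      sie u ((k : F) • w) hu (by rw [polar_smul_right', hw, mul_zero]) := by
    intro k
    induction k with
    | zero => rw [pow_zero]; exact O.ext_app fun x => by rw [sie_app]; simp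
    | succ k ih =>
      rw [pow_succ, ih, sie_mul]
      exact sie_congr _ _ _ _ rfl (by rw [Nat.cast_succ, add_smul, one_smul])
  rw [h p]
  exact O.ext_app fun x => by rw [sie_app]; simp

variable [FiniteDimensional F V] [Finite F]

theorem sie_mem_commutator (hQ : Nondeg Q) (hn : 5 ≤ finrank F V) {u w : V} (hu : Q u = 0)
    (hw : polar Q u w = 0) : sie u w hu hw ∈ commutator (O Q) := by
  rw [← sieGroup_eq_commutator hQ hn]; exact sie_mem hu hw

theorem unip_le_commutator (hQ : Nondeg Q) (hn : 5 ≤ finrank F V) {u : V} (hu : Q u = 0) :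
    unip Q u hu ≤ commutator (O Q) := by
  rintro _ ⟨w, hw, rfl⟩
  exact sie_mem_commutator hQ hn hu hw

/-- A unipotent element fixing a vector orthogonal to the point. -/
theorem exists_unip_fix (hQ : Nondeg Q) (hn : 5 ≤ finrank F V) {u v : V} (hu0 : u ≠ 0)
    (hu : Q u = 0) (huv : polar Q u v = 0) :
    ∃ g ∈ unip Q u hu, g ≠ 1 ∧ (g : V ≃ₗ[F] V) v = v := by
  have hf2 := hQ.finrank_add_perp (Submodule.span F {u, v})
  have hle : finrank F (Submodule.span F ({u, v} : Set V)) ≤ 2 := by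
    classical
    have h := finrank_span_finset_le_card (R := F) ({u, v} : Finset V)
    rw [Set.finrank, Finset.coe_pair] at h
    exact h.trans (by
      refine (Finset.card_insert_le _ _).trans ?_
      simp)
  obtain ⟨w, hw, hwu⟩ : ∃ w ∈ perp Q (Submodule.span F {u, v}), w ∉ Submodule.span F {u} := by
    by_contra hc
    push Not at hc
    have h1 := Submodule.finrank_mono
      (show perp Q (Submodule.span F {u, v}) ≤ Submodule.span F {u} from hc)
    rw [finrank_span_singleton hu0] at h1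
    omega
  obtain ⟨h1, h2⟩ := (mem_perp_span_pair Q).1 hw
  refine ⟨sie u w hu h1, sie_mem_unip hu h1, fun h => hwu ?_,
    sie_fix' hu h1 huv (by rw [polar_comm]; exact h2)⟩
  obtain ⟨f, hf, huf⟩ := hQ.exists_partner hu0 hu
  have h3 : ((sie u w hu h1 : O Q) : V ≃ₗ[F] V) f = f := by rw [h]; rfl
  rw [sie_app, huf, mul_one, one_smul] at h3
  refine Submodule.mem_span_singleton.2 ⟨polar Q w f - Q w, ?_⟩
  linear_combination (norm := module) h3

namespace HypPair

theorem exists_sieW (H : HypPair Q) {x : O Q} (hx : x ∈ unip Q H.e H.he) :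
    ∃ w : H.W, x = H.sieW w := by
  obtain ⟨w, hw, rfl⟩ := hx
  refine ⟨⟨w + (-polar Q H.f w) • H.e, mem_W.2 ⟨?_, ?_⟩⟩, (sie_add_smul H.he hw _).symm⟩
  · rw [polar_add_right, polar_smul_right', polar_self', H.he, hw]; ring
  · rw [polar_add_right, polar_smul_right', H.hfe]; ring

theorem sieW_mem (H : HypPair Q) (w : H.W) : H.sieW w ∈ unip Q H.e H.he := sie_mem_unip _ _

/-- The Levi complement: the elements of the commutator group fixing both points. -/
noncomputable def lev (H : HypPair Q) : Subgroup (O Q) :=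
  commutator (O Q) ⊓ stabT Q (Submodule.span F {H.e}) ⊓ stabT Q (Submodule.span F {H.f})

/-- The scalar by which an element of the Levi complement acts on the first vector. -/
def tc (H : HypPair Q) (g : O Q) : F := polar Q ((g : V ≃ₗ[F] V) H.e) H.f

theorem lev_spec (H : HypPair Q) {g : O Q} (hg : g ∈ H.lev) :
    H.tc g ≠ 0 ∧ (g : V ≃ₗ[F] V) H.e = H.tc g • H.e ∧ (g : V ≃ₗ[F] V) H.f = (H.tc g)⁻¹ • H.f := by
  obtain ⟨⟨-, h1⟩, h2⟩ := hg
  obtain ⟨t, ht, h1⟩ := (mem_stabT_singleton H.e_ne).1 h1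
  obtain ⟨s, hs, h2⟩ := (mem_stabT_singleton H.f_ne).1 h2
  have htc : H.tc g = t := by rw [tc, h1, polar_smul_left', H.hef, mul_one]
  have h3 := O.polar_app g H.e H.f
  rw [h1, h2, polar_smul_left', polar_smul_right', H.hef, mul_one] at h3
  rw [htc]
  exact ⟨ht, h1, by rw [h2, eq_inv_of_mul_eq_one_right h3]⟩

theorem tc_mul (H : HypPair Q) {g g' : O Q} (hg : g ∈ H.lev) (hg' : g' ∈ H.lev) :
    H.tc (g * g') = H.tc g * H.tc g' := by
  obtain ⟨-, h1, -⟩ := H.lev_spec hg
  obtain ⟨-, h2, -⟩ := H.lev_spec hg'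
  conv_lhs => rw [tc, Subgroup.coe_mul, mul_app, h2, map_smul, h1, polar_smul_left',
    polar_smul_left', H.hef, mul_one]
  rw [mul_comm]

theorem lev_mapsTo (H : HypPair Q) {g : O Q} (hg : g ∈ H.lev) :
    ∀ x ∈ H.W, (g : V ≃ₗ[F] V) x ∈ H.W := by
  refine fun x hx => map_mem_perp g (fun y hy => ?_) hx
  obtain ⟨a, b, rfl⟩ := Submodule.mem_span_pair.1 hy
  obtain ⟨-, h1, h2⟩ := H.lev_spec hg
  rw [map_add, map_smul, map_smul, h1, h2, smul_smul, smul_smul]
  exact Submodule.mem_span_pair.2 ⟨_, _, rfl⟩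

/-- The action of the Levi complement on the radical, as endomorphisms of the complement. -/
noncomputable def rho (H : HypPair Q) : H.lev →* Module.End F H.W where
  toFun g := H.tc g • ((((g : O Q) : V ≃ₗ[F] V) : V →ₗ[F] V).restrict (H.lev_mapsTo g.2))
  map_one' := LinearMap.ext fun w => Subtype.ext (by simp [tc, H.hef])
  map_mul' g g' := LinearMap.ext fun w => Subtype.ext (by
    simp [H.tc_mul g.2 g'.2, smul_smul, mul_comm])

theorem rho_apply (H : HypPair Q) (g : H.lev) (w : H.W) :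
    ((H.rho g w : H.W) : V) = H.tc g • ((g : O Q) : V ≃ₗ[F] V) (w : V) := rfl

theorem conj_sieW (H : HypPair Q) (g : H.lev) (w : H.W) :
    (g : O Q) * H.sieW w * (g : O Q)⁻¹ = H.sieW (H.rho g w) := by
  obtain ⟨-, h1, -⟩ := H.lev_spec g.2
  rw [sieW, sie_conj]
  refine (sie_congr _ _ (by rw [qmap_smul, H.he, mul_zero]) ?_ h1 rfl).trans ?_
  · rw [← h1, O.polar_app]; exact H.ew w
  · rw [sie_smul H.he (H.ew ⟨_, H.lev_mapsTo g.2 _ w.2⟩)]
    exact sie_congr _ _ _ _ rfl rfl

theorem sie_mem_lev (H : HypPair Q) (hQ : Nondeg Q) (hn : 5 ≤ finrank F V) {x y : H.W}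
    (hx : Q (x : V) = 0) (hxy : polar Q (x : V) y = 0) :
    sie (x : V) (y : V) hx hxy ∈ H.lev := by
  have hfix : ∀ z, polar Q (x : V) z = 0 → polar Q (y : V) z = 0 →
      sie (x : V) (y : V) hx hxy ∈ stabT Q (Submodule.span F {z}) := by
    intro z h1 h2
    rw [mem_stabT, Submodule.map_span, Set.image_singleton, LinearEquiv.coe_coe,
      sie_fix' hx hxy h1 h2]
  exact ⟨⟨sie_mem_commutator hQ hn hx hxy, hfix _ (by rw [polar_comm]; exact H.ew x)
    (by rw [polar_comm]; exact H.ew y)⟩, hfix _ (by rw [polar_comm]; exact H.fw x)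
    (by rw [polar_comm]; exact H.fw y)⟩

theorem rho_sie (H : HypPair Q) (hQ : Nondeg Q) (hn : 5 ≤ finrank F V) {x y : H.W}
    (hx : Q (x : V) = 0) (hxy : polar Q (x : V) y = 0) :
    H.rho ⟨_, H.sie_mem_lev hQ hn hx hxy⟩ = sieLin (restr Q H.W) x y := by
  refine LinearMap.ext fun w => Subtype.ext ?_
  have h1 : H.tc (sie (x : V) (y : V) hx hxy) = 1 := by
    rw [tc, sie_fix' hx hxy (by rw [polar_comm]; exact H.ew x) (by rw [polar_comm]; exact H.ew y),
      H.hef]
  rw [rho_apply, h1, one_smul, sie_app, sieLin_apply]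
  simp [polar_restr, restr_apply]

theorem closure_rho (H : HypPair Q) (hQ : Nondeg Q) (hn : 5 ≤ finrank F V) :
    Subring.closure (Set.range H.rho) = ⊤ := by
  have hd := H.finrank_W hQ
  refine subring_eq_top_of_sie (H.nondeg_W hQ) (by omega) _ fun x y hx hxy => ?_
  rw [restr_apply] at hx
  rw [polar_restr] at hxy
  rw [← H.rho_sie hQ hn hx hxy]
  exact Subring.subset_closure ⟨_, rfl⟩

/-- Elements of the Levi complement acting trivially on the radical are scalars `±1`. -/
theorem scalar_of_rho_eq_one (H : HypPair Q) (hQ : Nondeg Q) (hn : 5 ≤ finrank F V) {g : H.lev}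
    (h : H.rho g = 1) : H.tc g * H.tc g = 1 ∧ ∀ x, ((g : O Q) : V ≃ₗ[F] V) x = H.tc g • x := by
  obtain ⟨ht, h1, h2⟩ := H.lev_spec g.2
  have hw : ∀ w : H.W, H.tc g • ((g : O Q) : V ≃ₗ[F] V) (w : V) = w := fun w => by
    rw [← rho_apply, h]; rfl
  have hd := H.finrank_W hQ
  obtain ⟨w, hw1⟩ := (H.nondeg_W hQ).exists_value (by omega) 1
  have hsq : H.tc g * H.tc g = 1 := by
    have h3 := congrArg Q (hw w)
    rw [qmap_smul, O.map_app, ← restr_apply, hw1] at h3
    linear_combination h3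
  refine ⟨hsq, fun x => ?_⟩
  have hinv : (H.tc g)⁻¹ = H.tc g := inv_eq_of_mul_eq_one_right hsq
  rw [H.decomp x, map_add, map_add, map_smul, map_smul, h1, h2, hinv, smul_add, smul_add,
    smul_comm (H.tc g), smul_comm (H.tc g)]
  congr 1
  conv_rhs => rw [← hw (H.proj x), smul_smul, hsq, one_smul]

theorem exists_lev_decomp (H : HypPair Q) (hQ : Nondeg Q) (hn : 5 ≤ finrank F V) {a : O Q}
    (ha : a ∈ commutator (O Q)) (has : a ∈ stabT Q (Submodule.span F {H.e})) :
    ∃ w : H.W, (H.sieW w)⁻¹ * a ∈ H.lev := by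
  obtain ⟨t, ht, hte⟩ := (mem_stabT_singleton H.e_ne).1 has
  refine ⟨(-t) • H.proj ((a : V ≃ₗ[F] V) H.f),
    Subgroup.mem_inf.2 ⟨Subgroup.mem_inf.2
      ⟨mul_mem (inv_mem (sie_mem_commutator hQ hn _ _)) ha, ?_⟩, ?_⟩⟩
  · refine mul_mem (inv_mem ?_) has
    rw [mem_stabT, Submodule.map_span, Set.image_singleton, LinearEquiv.coe_coe, sieW_e]
  · refine (mem_stabT_singleton H.f_ne).2 ⟨t⁻¹, inv_ne_zero ht, ?_⟩
    have hBe : polar Q H.e ((a : V ≃ₗ[F] V) H.f) = t⁻¹ := by
      have h := O.polar_app a H.e H.f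
      rw [hte, polar_smul_left', H.hef] at h
      exact eq_inv_of_mul_eq_one_right h
    obtain ⟨v, hv⟩ : ∃ v, v = (a : V ≃ₗ[F] V) H.f := ⟨_, rfl⟩
    rw [← hv] at hBe ⊢
    have hz : polar Q H.f v * t⁻¹ + Q (H.proj v : V) = 0 := by
      rw [← hBe, ← H.map_decomp, ← H.decomp v, hv, O.map_app, H.hf]
    rw [Subgroup.coe_mul, mul_app, ← hv, InvMemClass.coe_inv]
    change ((H.sieW _ : V ≃ₗ[F] V)).symm v = _
    rw [LinearEquiv.symm_apply_eq, map_smul, sieW_f, Submodule.coe_smul, qmap_smul]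
    conv_lhs => rw [H.decomp v, hBe]
    match_scalars
    · field_simp
      field_simp at hz
      linear_combination hz
    all_goals field_simp

/-- The largest normal `p`-subgroup of a point stabiliser is its unipotent radical. -/
theorem le_unip (H : HypPair Q) (hQ : Nondeg Q) (hn : 5 ≤ finrank F V) {p : ℕ} [Fact p.Prime]
    [CharP F p] {D : Subgroup (O Q)}
    (hD : D ≤ commutator (O Q) ⊓ stabT Q (Submodule.span F {H.e})) (hDp : IsPGroup p D)
    (hDn : ∀ x ∈ commutator (O Q) ⊓ stabT Q (Submodule.span F {H.e}), ∀ d ∈ D, x * d * x⁻¹ ∈ D) :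
    D ≤ unip Q H.e H.he := by
  classical
  have : Finite V := Module.finite_of_finite F
  let U := unip Q H.e H.he
  let C := commutator (O Q) ⊓ stabT Q (Submodule.span F {H.e})
  have hUn : ∀ x ∈ C, ∀ d ∈ U, x * d * x⁻¹ ∈ U := fun x hx d hd => by
    obtain ⟨t, ht, hte⟩ := (mem_stabT_singleton H.e_ne).1 hx.2
    exact unip_normal H.he ht hte hd
  have hUp : IsPGroup p U := fun x => ⟨1, Subtype.ext (by
    rw [Subgroup.coe_pow, pow_one]; exact unip_pow_char H.he x.2)⟩
  have hnorm : D ≤ Subgroup.normalizer (U : Set (O Q)) := by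
    intro d hd
    rw [Subgroup.mem_normalizer_iff]
    refine fun x => ⟨fun hx => hUn d (hD hd) x hx, fun hx => ?_⟩
    have := hUn d⁻¹ (inv_mem (hD hd)) _ hx
    simpa [mul_assoc] using this
  have hJ : IsPGroup p (D ⊔ U : Subgroup (O Q)) := hDp.to_sup_of_normal_right' hUp hnorm
  have hJn : ∀ x ∈ C, ∀ d ∈ D ⊔ U, x * d * x⁻¹ ∈ D ⊔ U := by
    intro x hx d hd
    have h1 : (D ⊔ U).map (MulAut.conj x).toMonoidHom ≤ D ⊔ U := by
      rw [Subgroup.map_sup]
      refine sup_le_sup ?_ ?_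
      · rintro _ ⟨y, hy, rfl⟩; exact hDn x hx y hy
      · rintro _ ⟨y, hy, rfl⟩; exact hUn x hx y hy
    exact h1 ⟨d, hd, rfl⟩
  let S : Subgroup (O Q) := H.lev ⊓ (D ⊔ U)
  let act : MulAction S H.W :=
    { smul := fun s w => H.rho ⟨s.1, s.2.1⟩ w
      one_smul := fun w => by
        show H.rho 1 w = w
        rw [map_one]; rfl
      mul_smul := fun s s' w => by
        show H.rho (⟨s.1, s.2.1⟩ * ⟨s'.1, s'.2.1⟩) w = _
        rw [map_mul]; rfl }
  have hS : IsPGroup p S := hJ.to_le inf_le_right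
  let T : AddSubgroup H.W :=
    { carrier := {w | ∀ s : S, H.rho ⟨s.1, s.2.1⟩ w = w}
      add_mem' := fun {a b} ha hb s => by rw [map_add, ha s, hb s]
      zero_mem' := fun s => map_zero _
      neg_mem' := fun {a} ha s => by rw [map_neg, ha s] }
  have hd := H.finrank_W hQ
  have : Nontrivial H.W := Module.nontrivial_of_finrank_pos (R := F) (by omega)
  have hT : T ≠ ⊥ := by
    obtain ⟨x, hx⟩ := exists_ne (0 : H.W)
    have hp : p ∣ Nat.card H.W := by
      have h1 : addOrderOf x = p := by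
        refine addOrderOf_eq_prime ?_ hx
        rw [← Nat.cast_smul_eq_nsmul F, CharP.cast_eq_zero, zero_smul]
      have := addOrderOf_dvd_natCard x
      rwa [h1] at this
    have hfix : (0 : H.W) ∈ MulAction.fixedPoints S H.W := fun s => map_zero _
    obtain ⟨b, hb, hb0⟩ := hS.exists_fixed_point_of_prime_dvd_card_of_fixed_point H.W hp hfix
    intro h
    apply hb0
    have hbT : b ∈ T := fun s => hb s
    rw [h, AddSubgroup.mem_bot] at hbT
    exact hbT.symm
  have hTtop : T = ⊤ := by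
    refine addSubgroup_eq_top (H.closure_rho hQ hn) T hT ?_
    rintro _ ⟨l, rfl⟩ w hw s
    have hlC : (l : O Q) ∈ C := ⟨l.2.1.1, l.2.1.2⟩
    have hs' : (l : O Q)⁻¹ * s.1 * l.1 ∈ S := by
      refine ⟨H.lev.mul_mem (H.lev.mul_mem (H.lev.inv_mem l.2) s.2.1) l.2, ?_⟩
      have := hJn _ (inv_mem hlC) _ s.2.2
      rwa [inv_inv] at this
    have e : (⟨s.1, s.2.1⟩ : H.lev) * l = l * ⟨_, hs'.1⟩ := Subtype.ext (by
      simp [mul_assoc])
    calc H.rho ⟨s.1, s.2.1⟩ (H.rho l w) = H.rho (⟨s.1, s.2.1⟩ * l) w := by rw [map_mul]; rfl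
      _ = H.rho l (H.rho ⟨_, hs'.1⟩ w) := by rw [e, map_mul]; rfl
      _ = _ := by rw [hw ⟨_, hs'⟩]
  intro d hd'
  obtain ⟨w, hl⟩ := H.exists_lev_decomp hQ hn (hD hd').1 (hD hd').2
  have hsJ : (H.sieW w)⁻¹ * d ∈ D ⊔ U :=
    mul_mem (inv_mem (Subgroup.mem_sup_right (H.sieW_mem w))) (Subgroup.mem_sup_left hd')
  have hrho : H.rho ⟨_, hl⟩ = 1 := LinearMap.ext fun x =>
    (show x ∈ T by rw [hTtop]; trivial) ⟨_, hl, hsJ⟩
  obtain ⟨hsq, hsc⟩ := H.scalar_of_rho_eq_one hQ hn hrho
  obtain ⟨k, hk⟩ := hJ ⟨_, hsJ⟩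
  have hk' : ((H.sieW w)⁻¹ * d) ^ p ^ k = 1 := congrArg Subtype.val hk
  set s := (H.sieW w)⁻¹ * d with hs
  have hpow : ∀ (j : ℕ) (x : V), ((s ^ j : O Q) : V ≃ₗ[F] V) x = H.tc s ^ j • x := by
    intro j x
    induction j with
    | zero => rw [pow_zero, pow_zero, one_smul]; rfl
    | succ j ih =>
      rw [pow_succ', Subgroup.coe_mul, mul_app, ih, map_smul, hsc, smul_smul, pow_succ]
  have ht1 : H.tc s ^ p ^ k = 1 := by
    have h1 := hpow (p ^ k) H.e
    rw [hk'] at h1
    have h2 : (H.tc s ^ p ^ k - 1) • H.e = 0 := by rw [sub_smul, one_smul, ← h1]; simp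
    exact sub_eq_zero.1 ((smul_eq_zero.1 h2).resolve_right H.e_ne)
  have : ExpChar F p := .prime Fact.out
  have ht : H.tc s = 1 := iterateFrobenius_inj F p k (by
    rw [iterateFrobenius_def, ht1, map_one])
  have hs1 : s = 1 := O.ext_app fun x => by rw [hsc, ht, one_smul]; rfl
  rw [hs, inv_mul_eq_one] at hs1
  rw [← hs1]
  exact H.sieW_mem w

end HypPair

end Cfsg.Agent.Orthogonal
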