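import Cfsg.Agent.Orthogonal.StdForms
import Cfsg.Agent.H27.Dihedral

/-!
The orthogonal group of an anisotropic binary quadratic form over a finite field is dihedral.
-/

set_option autoImplicit false

namespace Cfsg.Agent.Orthogonal

open QuadraticMap Module

variable {F : Type*} [Field F]

/-- The first coordinate of a vector of `formMinus F 0 a b`. -/
abbrev ellX (v : (Fin 0 ⊕ Fin 0) ⊕ Fin 2 → F) : F := v (.inr 0)

/-- The second coordinate of a vector of `formMinus F 0 a b`. -/
abbrev ellY (v : (Fin 0 ⊕ Fin 0) ⊕ Fin 2 → F) : F := v (.inr 1)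

/-- The vector with given coordinates. -/
def ellV (x y : F) : (Fin 0 ⊕ Fin 0) ⊕ Fin 2 → F := Sum.elim 0 ![x, y]

theorem ellX_mk (x y : F) : ellX (ellV x y) = x := rfl
theorem ellY_mk (x y : F) : ellY (ellV x y) = y := rfl

theorem ell_ext {v w : (Fin 0 ⊕ Fin 0) ⊕ Fin 2 → F} (h1 : ellX v = ellX w) (h2 : ellY v = ellY w) :
    v = w := by
  funext i
  rcases i with (i | i) | i
  · exact i.elim0
  · exact i.elim0
  · fin_cases i
    · exact h1
    · exact h2

theorem formMinus_zero_apply (a b : F) (v : (Fin 0 ⊕ Fin 0) ⊕ Fin 2 → F) :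
    formMinus F 0 a b v = ellX v ^ 2 + a * ellX v * ellY v + b * ellY v ^ 2 := by
  change Cfsg.quadFormMinus 0 F a b v = _
  simp [Cfsg.quadFormMinus]

/-- Multiplication by `s + t ω`. -/
def rotLin (a b s t : F) : ((Fin 0 ⊕ Fin 0) ⊕ Fin 2 → F) →ₗ[F] ((Fin 0 ⊕ Fin 0) ⊕ Fin 2 → F) where
  toFun v := ellV (s * ellX v - b * t * ellY v) (t * ellX v + (s + a * t) * ellY v)
  map_add' v w := ell_ext (by simp only [ellX, ellV, Pi.add_apply, Sum.elim_inr, Matrix.cons_val_zero, ellY]; ring)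
    (by simp only [ellY, ellX, ellV, Pi.add_apply, Sum.elim_inr, Matrix.cons_val_one, Matrix.cons_val_zero]; ring)
  map_smul' c v := ell_ext (by simp only [ellX, ellV, Pi.smul_apply, Sum.elim_inr, Matrix.cons_val_zero, ellY, smul_eq_mul, RingHom.id_apply]; ring)
    (by simp only [ellY, ellX, ellV, Pi.smul_apply, Sum.elim_inr, Matrix.cons_val_one, Matrix.cons_val_zero, smul_eq_mul, RingHom.id_apply]; ring)

theorem ellX_rot (a b s t : F) (v : (Fin 0 ⊕ Fin 0) ⊕ Fin 2 → F) :
    ellX (rotLin a b s t v) = s * ellX v - b * t * ellY v := rfl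

theorem ellY_rot (a b s t : F) (v : (Fin 0 ⊕ Fin 0) ⊕ Fin 2 → F) :
    ellY (rotLin a b s t v) = t * ellX v + (s + a * t) * ellY v := rfl

/-- The reflection fixing the first basis vector. -/
def flipLin (a : F) : ((Fin 0 ⊕ Fin 0) ⊕ Fin 2 → F) →ₗ[F] ((Fin 0 ⊕ Fin 0) ⊕ Fin 2 → F) where
  toFun v := ellV (ellX v + a * ellY v) (-ellY v)
  map_add' v w := ell_ext (by simp only [ellX, ellV, Pi.add_apply, Sum.elim_inr, Matrix.cons_val_zero, ellY]; ring)
    (by simp only [ellY, ellX, ellV, Pi.add_apply, Sum.elim_inr, Matrix.cons_val_one, Matrix.cons_val_zero]; ring)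
  map_smul' c v := ell_ext (by simp only [ellX, ellV, Pi.smul_apply, Sum.elim_inr, Matrix.cons_val_zero, ellY, smul_eq_mul, RingHom.id_apply]; ring)
    (by simp only [ellY, ellX, ellV, Pi.smul_apply, Sum.elim_inr, Matrix.cons_val_one, Matrix.cons_val_zero, smul_eq_mul, RingHom.id_apply]; ring)

theorem ellX_flip (a : F) (v : (Fin 0 ⊕ Fin 0) ⊕ Fin 2 → F) :
    ellX (flipLin a v) = ellX v + a * ellY v := rfl

theorem ellY_flip (a : F) (v : (Fin 0 ⊕ Fin 0) ⊕ Fin 2 → F) : ellY (flipLin a v) = -ellY v := rfl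

theorem flipLin_involutive (a : F) (v : (Fin 0 ⊕ Fin 0) ⊕ Fin 2 → F) :
    flipLin a (flipLin a v) = v :=
  ell_ext (by rw [ellX_flip, ellX_flip, ellY_flip]; ring) (by rw [ellY_flip, ellY_flip]; ring)

/-- The flip as an isometry. -/
noncomputable def flipO (a b : F) : O (formMinus F 0 a b) :=
  ⟨LinearEquiv.ofLinearMap (flipLin a) (flipLin a) (LinearMap.ext (flipLin_involutive a))
    (LinearMap.ext (flipLin_involutive a)), fun v => by
    change formMinus F 0 a b (flipLin a v) = _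
    rw [formMinus_zero_apply, formMinus_zero_apply, ellX_flip, ellY_flip]; ring⟩

theorem flipO_app (a b : F) (v : (Fin 0 ⊕ Fin 0) ⊕ Fin 2 → F) :
    (flipO a b : _ ≃ₗ[F] _) v = flipLin a v := rfl

/-- A norm-one rotation as an isometry. -/
noncomputable def rotO (a b s t : F) (h : s ^ 2 + a * s * t + b * t ^ 2 = 1) :
    O (formMinus F 0 a b) :=
  ⟨LinearEquiv.ofLinearMap (rotLin a b s t) (rotLin a b (s + a * t) (-t))
    (LinearMap.ext fun v => ell_ext
      (by simp only [LinearMap.comp_apply, ellX_rot, ellY_rot, LinearMap.id_apply]; linear_combination ellX v * h)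
      (by simp only [LinearMap.comp_apply, ellX_rot, ellY_rot, LinearMap.id_apply]; linear_combination ellY v * h))
    (LinearMap.ext fun v => ell_ext
      (by simp only [LinearMap.comp_apply, ellX_rot, ellY_rot, LinearMap.id_apply]; linear_combination ellX v * h)
      (by simp only [LinearMap.comp_apply, ellX_rot, ellY_rot, LinearMap.id_apply]; linear_combination ellY v * h)), fun v => by
    change formMinus F 0 a b (rotLin a b s t v) = _
    rw [formMinus_zero_apply, formMinus_zero_apply, ellX_rot, ellY_rot]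
    linear_combination (ellX v ^ 2 + a * ellX v * ellY v + b * ellY v ^ 2) * h⟩

theorem rotO_app (a b s t : F) (h : s ^ 2 + a * s * t + b * t ^ 2 = 1)
    (v : (Fin 0 ⊕ Fin 0) ⊕ Fin 2 → F) :
    (rotO a b s t h : _ ≃ₗ[F] _) v = rotLin a b s t v := rfl

theorem rot_norm_mul (a b : F) {s t s' t' : F} (h : s ^ 2 + a * s * t + b * t ^ 2 = 1)
    (h' : s' ^ 2 + a * s' * t' + b * t' ^ 2 = 1) :
    (s * s' - b * t * t') ^ 2 + a * (s * s' - b * t * t') * (t * s' + (s + a * t) * t') +
      b * (t * s' + (s + a * t) * t') ^ 2 = 1 := by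
  linear_combination (s' ^ 2 + a * s' * t' + b * t' ^ 2) * h + h'

theorem rot_mul_eq (a b : F) {s t s' t' : F} (h : s ^ 2 + a * s * t + b * t ^ 2 = 1)
    (h' : s' ^ 2 + a * s' * t' + b * t' ^ 2 = 1) :
    rotO a b s t h * rotO a b s' t' h' = rotO a b _ _ (rot_norm_mul a b h h') := by
  refine O.ext_app fun v => ell_ext ?_ ?_
  · simp only [Subgroup.coe_mul, mul_app, rotO_app, ellX_rot, ellY_rot]; ring
  · simp only [Subgroup.coe_mul, mul_app, rotO_app, ellX_rot, ellY_rot]; ring

theorem rot_flip_rot (a b : F) {s t : F} (h : s ^ 2 + a * s * t + b * t ^ 2 = 1) :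
    rotO a b s t h * flipO a b * rotO a b s t h = flipO a b := by
  refine O.ext_app fun v => ell_ext ?_ ?_
  · simp only [Subgroup.coe_mul, mul_app, rotO_app, flipO_app, ellX_rot, ellY_rot, ellX_flip,
      ellY_flip]
    linear_combination (ellX v + a * ellY v) * h
  · simp only [Subgroup.coe_mul, mul_app, rotO_app, flipO_app, ellX_rot, ellY_rot, ellX_flip,
      ellY_flip]
    linear_combination -(ellY v) * h

theorem finite_O_formMinus [Finite F] (a b : F) : Finite (O (formMinus F 0 a b)) :=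
  Finite.of_injective (fun g x => (g : ((Fin 0 ⊕ Fin 0) ⊕ Fin 2 → F) ≃ₗ[F] ((Fin 0 ⊕ Fin 0) ⊕ Fin 2 → F)) x) fun g g' h => O.ext_app fun x => _root_.congr_fun h x

/-- The rotation subgroup. -/
def rotGroup (a b : F) : Subgroup (O (formMinus F 0 a b)) where
  carrier := {g | ∃ (s t : F) (h : s ^ 2 + a * s * t + b * t ^ 2 = 1), g = rotO a b s t h}
  mul_mem' := by
    rintro _ _ ⟨s, t, h, rfl⟩ ⟨s', t', h', rfl⟩
    exact ⟨_, _, _, rot_mul_eq a b h h'⟩
  one_mem' := ⟨1, 0, by ring, O.ext_app fun v => ell_ext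
    (by simp [rotO_app, ellX_rot]) (by simp [rotO_app, ellY_rot])⟩
  inv_mem' := by
    rintro _ ⟨s, t, h, rfl⟩
    refine ⟨s + a * t, -t, by linear_combination h, ?_⟩
    refine inv_eq_of_mul_eq_one_right (O.ext_app fun v => ell_ext ?_ ?_)
    · simp only [Subgroup.coe_mul, mul_app, rotO_app, ellX_rot, ellY_rot, OneMemClass.coe_one, one_app]
      linear_combination ellX v * h
    · simp only [Subgroup.coe_mul, mul_app, rotO_app, ellX_rot, ellY_rot, OneMemClass.coe_one, one_app]
      linear_combination ellY v * h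

theorem rotO_inj (a b : F) {s t s' t' : F} {h : s ^ 2 + a * s * t + b * t ^ 2 = 1}
    {h' : s' ^ 2 + a * s' * t' + b * t' ^ 2 = 1} (e : rotO a b s t h = rotO a b s' t' h') :
    s = s' ∧ t = t' := by
  have := congrArg (fun g : O (formMinus F 0 a b) => (g : ((Fin 0 ⊕ Fin 0) ⊕ Fin 2 → F) ≃ₗ[F] ((Fin 0 ⊕ Fin 0) ⊕ Fin 2 → F)) (ellV (1 : F) 0)) e
  simp only [rotO_app] at this
  exact ⟨by simpa [ellX_rot, ellX_mk, ellY_mk] using congrArg ellX this,
    by simpa [ellY_rot, ellX_mk, ellY_mk] using congrArg ellY this⟩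

theorem isCyclic_rotGroup [Finite F] {a b : F}
    (hab : ∀ z₁ z₂ : F, z₁ ^ 2 + a * z₁ * z₂ + b * z₂ ^ 2 = 0 → z₁ = 0 ∧ z₂ = 0) :
    IsCyclic (rotGroup a b) := by
  haveI := finite_O_formMinus a b
  obtain ⟨ω, hω⟩ := IsAlgClosed.exists_aeval_eq_zero (AlgebraicClosure F)
    (Polynomial.X ^ 2 + (Polynomial.C (-a) * Polynomial.X + Polynomial.C b))
    (by
      rw [Polynomial.degree_add_eq_left_of_degree_lt, Polynomial.degree_X_pow]
      · norm_num
      · rw [Polynomial.degree_X_pow]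
        exact lt_of_le_of_lt Polynomial.degree_linear_le (by norm_num))
  simp only [map_add, map_mul, map_pow, Polynomial.aeval_X, Polynomial.aeval_C, map_neg] at hω
  set κ := algebraMap F (AlgebraicClosure F) with hκ
  choose s t hN he using fun g : rotGroup a b => g.2
  have hinj : ∀ x y : F, κ x + κ y * ω = 1 → x = 1 ∧ y = 0 := by
    intro x y h
    by_cases hy : y = 0
    · subst hy
      refine ⟨κ.injective ?_, rfl⟩
      rw [map_one, ← h, map_zero]; ring
    · exfalso
      have hw : ω = κ ((1 - x) / y) := by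
        rw [map_div₀, map_sub, map_one, eq_div_iff ((map_ne_zero κ).2 hy)]
        linear_combination h
      replace hω : κ (((1 - x) / y) ^ 2 + (-a * ((1 - x) / y) + b)) = 0 := by
        rw [map_add, map_add, map_mul, map_pow, map_neg, ← hw]; exact hω
      rw [map_eq_zero] at hω
      exact one_ne_zero (neg_eq_zero.1
        (hab ((1 - x) / y) (-1) (by linear_combination hω)).2)
  have h1 : s 1 = 1 ∧ t 1 = 0 := by
    have h10 : (1 : F) ^ 2 + a * 1 * 0 + b * 0 ^ 2 = 1 := by ring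
    refine rotO_inj a b (h := hN 1) (h' := h10) ((he 1).symm.trans ?_)
    exact O.ext_app fun v => ell_ext (by simp [rotO_app, ellX_rot]) (by simp [rotO_app, ellY_rot])
  let f : rotGroup a b →* AlgebraicClosure F :=
    { toFun := fun g => κ (s g) + κ (t g) * ω
      map_one' := by rw [h1.1, h1.2, map_one, map_zero]; ring
      map_mul' := fun g g' => by
        obtain ⟨e1, e2⟩ := rotO_inj a b (h := hN (g * g'))
          (h' := rot_norm_mul a b (hN g) (hN g'))
          ((he (g * g')).symm.trans (by rw [Subgroup.coe_mul, ← rot_mul_eq a b (hN g) (hN g'),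
            ← he g, ← he g']))
        rw [e1, e2]
        simp only [map_sub, map_add, map_mul]
        linear_combination -(κ (t g) * κ (t g')) * hω }
  refine isCyclic_of_subgroup_isDomain f ((injective_iff_map_eq_one f).2 fun g hg => ?_)
  obtain ⟨e1, e2⟩ := hinj _ _ hg
  refine Subtype.ext ?_
  rw [he g]
  refine O.ext_app fun v => ell_ext ?_ ?_
  · simp [rotO_app, ellX_rot, e1, e2]
  · simp [rotO_app, ellY_rot, e1, e2]

theorem card_rotGroup [Finite F] {a b : F}
    (hab : ∀ z₁ z₂ : F, z₁ ^ 2 + a * z₁ * z₂ + b * z₂ ^ 2 = 0 → z₁ = 0 ∧ z₂ = 0) :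
    Nat.card (rotGroup a b) = Nat.card F + 1 := by
  rw [← (formMinus_nondeg 0 hab).card_sphere_plane (finrank_formMinus F 0)
    (fun x hx => by
      rw [formMinus_zero_apply] at hx
      obtain ⟨h1, h2⟩ := hab _ _ hx
      exact ell_ext h1 h2) one_ne_zero]
  refine Nat.card_congr (Equiv.ofBijective
    (fun g => ⟨((g : O (formMinus F 0 a b)) : _ ≃ₗ[F] _) (ellV (1 : F) 0),
      (O.map_app _ _).trans (by rw [formMinus_zero_apply, ellX_mk, ellY_mk]; ring)⟩) ⟨?_, ?_⟩)
  · rintro ⟨_, s, t, h, rfl⟩ ⟨_, s', t', h', rfl⟩ e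
    have e' := congrArg Subtype.val e
    have e1 := congrArg ellX e'
    have e2 := congrArg ellY e'
    simp only [rotO_app, ellX_rot, ellY_rot, ellX_mk, ellY_mk, mul_one, mul_zero, sub_zero,
      add_zero] at e1 e2
    subst e1 e2; rfl
  · rintro ⟨v, hv⟩
    rw [formMinus_zero_apply] at hv
    refine ⟨⟨rotO a b (ellX v) (ellY v) hv, _, _, _, rfl⟩, Subtype.ext (ell_ext ?_ ?_)⟩
    · simp [rotO_app, ellX_rot, ellX_mk, ellY_mk]
    · simp [rotO_app, ellY_rot, ellX_mk, ellY_mk]

theorem elliptic_dihedral [Finite F] {a b : F}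
    (hab : ∀ z₁ z₂ : F, z₁ ^ 2 + a * z₁ * z₂ + b * z₂ ^ 2 = 0 → z₁ = 0 ∧ z₂ = 0) :
    Nonempty (Cfsg.isometryGroup F (⇑(formMinus F 0 a b)) ≃* DihedralGroup (Nat.card F + 1)) := by
  haveI := finite_O_formMinus a b
  have := isCyclic_rotGroup hab
  let e : Multiplicative (ZMod (Nat.card F + 1)) ≃* rotGroup a b := mulEquivOfCyclicCardEq (by
    rw [card_rotGroup hab, Nat.card_congr Multiplicative.toAdd, Nat.card_zmod])
  set T : Multiplicative (ZMod (Nat.card F + 1)) →* O (formMinus F 0 a b) :=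
    (rotGroup a b).subtype.comp e.toMonoidHom with hTdef
  set σ := flipO a b
  have hs : σ * σ = 1 := O.ext_app (flipLin_involutive a)
  have hTs : ∀ x, T x * σ = σ * T x⁻¹ := by
    intro x
    obtain ⟨s, t, h, hx⟩ := (e x).2
    have hx' : T x = rotO a b s t h := hx
    rw [map_inv, eq_mul_inv_iff_mul_eq, hx']
    exact rot_flip_rot a b h
  have hT : Function.Injective T := Subtype.val_injective.comp e.injective
  have hsT : ∀ x, T x ≠ σ := by
    intro x hx
    obtain ⟨s, t, h, hg⟩ := (e x).2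
    have hx' : rotO a b s t h = σ := hg.symm.trans hx
    have e0 := congrArg (fun g : O (formMinus F 0 a b) => (g : ((Fin 0 ⊕ Fin 0) ⊕ Fin 2 → F) ≃ₗ[F] ((Fin 0 ⊕ Fin 0) ⊕ Fin 2 → F)) (ellV (1 : F) 0)) hx'
    have e1 := congrArg (fun g : O (formMinus F 0 a b) => (g : ((Fin 0 ⊕ Fin 0) ⊕ Fin 2 → F) ≃ₗ[F] ((Fin 0 ⊕ Fin 0) ⊕ Fin 2 → F)) (ellV (0 : F) 1)) hx'
    simp only [rotO_app, σ, flipO_app] at e0 e1
    have a0 := congrArg ellX e0
    have b0 := congrArg ellY e0
    have a1 := congrArg ellX e1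
    have b1 := congrArg ellY e1
    simp only [ellX_rot, ellY_rot, ellX_flip, ellY_flip, ellX_mk, ellY_mk, mul_one, mul_zero,
      sub_zero, add_zero, zero_sub, zero_add, neg_zero] at a0 b0 a1 b1
    subst a0 b0
    have ha : a = 0 := by linear_combination -a1
    subst ha
    have h2 : (2 : F) = 0 := by linear_combination b1
    have : CharP F 2 := CharTwo.of_one_ne_zero_of_two_eq_zero one_ne_zero h2
    obtain ⟨r, hr⟩ := isSquare_of_two_eq_zero h2 b
    exact one_ne_zero (hab r 1 (by linear_combination (-1 : F) * hr + b * h2)).2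
  have hinj := H27.Dihedral.ofInverting_bijective_range T σ hs hTs hT hsT
  have hcard : Nat.card (DihedralGroup (Nat.card F + 1)) = Nat.card (O (formMinus F 0 a b)) := by
    rw [DihedralGroup.nat_card, card_O_minus 0 _ (formMinus_nondeg 0 hab)
      (formMinus_frame F 0 a b) (formMinus_aniso F 0 hab) (finrank_formMinus F 0)]
    simp [oprod]
  exact ⟨(toO _).trans (MulEquiv.ofBijective (H27.Dihedral.ofInverting T σ hs hTs)
    ((Nat.bijective_iff_injective_and_card _).2 ⟨hinj, hcard⟩)).symm⟩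

end Cfsg.Agent.Orthogonal
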